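import Mathlib
import Cfsg.Agent.Lib.SmallSimple.FixedPoints

/-!
# Counting tools for the simple groups of order 7920
-/

set_option linter.style.haveILetI false

namespace Cfsg.Agent.M11Order

open Subgroup MulAction

variable {G : Type*} [Group G] [Finite G]

/-- If all non-trivial elements of a finite group fix exactly `k` points, the group order divides
`|α| + (|R| - 1) k`. -/
theorem dvd_of_fixed_eq {R α : Type*} [Group R] [Finite R] [Finite α] [MulAction R α] {k : ℕ}
    (h : ∀ r : R, r ≠ 1 → Nat.card {a : α // r • a = a} = k) :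
    Nat.card R ∣ Nat.card α + (Nat.card R - 1) * k := by
  classical
  haveI := Fintype.ofFinite R
  haveI := Fintype.ofFinite α
  haveI := Fintype.ofFinite (orbitRel.Quotient R α)
  have hs := sum_card_fixedBy_eq_card_orbits_mul_card_group R α
  refine ⟨Fintype.card (orbitRel.Quotient R α), ?_⟩
  rw [Nat.card_eq_fintype_card (α := R), mul_comm (Fintype.card R), ← hs,
    ← Finset.add_sum_erase _ _ (Finset.mem_univ (1 : R))]
  have h1 : Fintype.card (fixedBy α (1 : R)) = Nat.card α := by
    rw [← Nat.card_eq_fintype_card]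
    exact Nat.card_congr (Equiv.subtypeUnivEquiv fun a => one_smul R a)
  rw [h1, Finset.sum_congr rfl (g := fun _ => k) fun r hr => by
    rw [← Nat.card_eq_fintype_card]
    exact h r (Finset.ne_of_mem_erase hr)]
  rw [Finset.sum_const, Finset.card_erase_of_mem (Finset.mem_univ _), Finset.card_univ, smul_eq_mul]

omit [Finite G] in
/-- The fixed points of `r` are counted modulo `p` by those also fixed by a commuting element of
order `p`. -/
theorem fixed_mod {α : Type*} [Finite α] [MulAction G α] {p : ℕ} [Fact p.Prime] {x r : G}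
    (hx : x ^ p = 1) (hc : Commute x r) :
    Nat.card {a : α // r • a = a} % p = Nat.card {a : α // r • a = a ∧ x • a = a} % p := by
  classical
  haveI := Fintype.ofFinite α
  let f : Function.End {a : α // r • a = a} :=
    fun a => ⟨x • a.1, by rw [← mul_smul, ← hc.eq, mul_smul, a.2]⟩
  have hfn : ∀ (n : ℕ) (a : {a : α // r • a = a}), ((f ^ n) a).1 = x ^ n • a.1 := by
    intro n
    induction n with
    | zero => intro a; rw [pow_zero, pow_zero, one_smul]; rfl
    | succ n ih =>
      intro a
      show ((f ^ (n + 1)) a).1 = _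
      rw [pow_succ', pow_succ', mul_smul, ← ih a]
      rfl
  have hf : f ^ p ^ 1 = 1 := by
    funext a
    apply Subtype.ext
    rw [pow_one, hfn, hx, one_smul]
    rfl
  have h := Equiv.Perm.card_fixedPoints_modEq hf
  rw [Nat.card_eq_fintype_card, h, ← Nat.card_eq_fintype_card]
  congr 1
  exact Nat.card_congr
    { toFun := fun a => ⟨a.1.1, a.1.2, congrArg Subtype.val a.2⟩
      invFun := fun a => ⟨⟨a.1, a.2.1⟩, Subtype.ext a.2.2⟩
      left_inv := fun _ => rfl
      right_inv := fun _ => rfl }

variable {p : ℕ} [Fact p.Prime]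

omit [Finite G] [Fact p.Prime] in
/-- An element of `p`-power order normalising a Sylow `p`-subgroup lies in it. -/
theorem mem_of_smul_eq {P Q : Sylow p G} {x : G} (hx : x ∈ (P : Subgroup G)) (h : x • Q = Q) :
    x ∈ (Q : Subgroup G) := by
  have h1 := P.isPGroup'.inf_normalizer_sylow Q
  have h2 : x ∈ (P : Subgroup G) ⊓ (Q : Subgroup G) :=
    h1.le ⟨hx, Sylow.smul_eq_iff_mem_normalizer.1 h⟩
  exact h2.2

omit [Finite G] [Fact p.Prime] in
theorem smul_eq_of_mem {Q : Sylow p G} {x : G} (hx : x ∈ (Q : Subgroup G)) : x • Q = Q :=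
  Sylow.smul_eq_iff_mem_normalizer.2 (le_normalizer hx)

/-- In a group with Sylow subgroups of order `p`, an element of `P` fixes only `P`. -/
theorem smul_eq_iff_of_prime {P Q : Sylow p G} (hP : Nat.card (P : Subgroup G) = p) {x : G}
    (hx : x ∈ (P : Subgroup G)) (hx1 : x ≠ 1) : x • Q = Q ↔ Q = P := by
  refine ⟨fun h => ?_, fun h => h ▸ smul_eq_of_mem hx⟩
  have hQ : Nat.card (Q : Subgroup G) = p := by
    rw [SmallSimple.Basic.card_sylow_eq Q, ← SmallSimple.Basic.card_sylow_eq P, hP]
  refine Sylow.ext ?_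
  rw [← SmallSimple.Centralize.sylow_le_iff_mem (mem_of_smul_eq hx h) hx1 hQ,
    SmallSimple.Centralize.sylow_le_iff_mem hx hx1 hP]

omit [Fact p.Prime] in
/-- An element of prime order normalising a smaller subgroup centralises it. -/
theorem le_centralizer_of_card_lt {q : ℕ} [hq : Fact q.Prime] {H : Subgroup G} {y : G}
    (hy : y ^ q = 1) (hn : y ∈ normalizer (H : Set G)) (hlt : Nat.card H < q) :
    H ≤ centralizer ({y} : Set G) := by
  set σ : Equiv.Perm H := ((H.normalizerMonoidHom ⟨y, hn⟩).toEquiv) with hσ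
  have hσq : σ ^ q = 1 := by
    have h1 : (H.normalizerMonoidHom ⟨y, hn⟩) ^ q = 1 := by
      rw [← map_pow, show (⟨y, hn⟩ : normalizer (H : Set G)) ^ q = 1 from Subtype.ext hy, map_one]
    exact ((MulAut.toPerm H).map_pow (H.normalizerMonoidHom ⟨y, hn⟩) q).symm.trans
      (by rw [h1, map_one])
  have h1 : orderOf σ ∣ q := orderOf_dvd_of_pow_eq_one hσq
  have h2 : orderOf σ ∣ (Nat.card H).factorial := by
    rw [← Nat.card_perm]
    exact orderOf_dvd_natCard σ
  have h3 : σ = 1 := orderOf_eq_one_iff.1 (Nat.eq_one_of_dvd_coprimes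
    ((Fact.out : q.Prime).coprime_iff_not_dvd.2
      (fun h => absurd ((Nat.Prime.dvd_factorial Fact.out).1 h) (by omega))) h1 h2)
  intro z hz
  rw [mem_centralizer_singleton_iff]
  have h4 : y * z * y⁻¹ = z := congrArg Subtype.val (Equiv.congr_fun h3 ⟨z, hz⟩)
  rw [mul_inv_eq_iff_eq_mul] at h4
  exact h4.symm

end Cfsg.Agent.M11Order
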