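import Mathlib
import Cfsg.Prelude.Def_Sporadic
import Cfsg.Agent.Lib.M11Order.Basic
import Cfsg.Agent.Lib.SmallSimple.Orders

/-!
# Sylow numbers of a simple group of order 7920
-/

set_option linter.style.haveILetI false

namespace Cfsg.Agent.M11Order

open Subgroup MulAction
open Cfsg.Agent.SmallSimple

variable {G : Type*} [Group G] [Finite G]

local instance factPrimeTwo : Fact (Nat.Prime 2) := ⟨Nat.prime_two⟩
local instance factPrimeThree : Fact (Nat.Prime 3) := ⟨Nat.prime_three⟩
local instance factPrimeFive : Fact (Nat.Prime 5) := ⟨by norm_num⟩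
local instance factPrimeEleven : Fact (Nat.Prime 11) := ⟨by norm_num⟩

theorem nonab (hG : Cfsg.IsM11 G) : ¬ IsMulCommutative G :=
  haveI := hG.1
  Basic.not_comm_of_not_prime (by rw [hG.2]; norm_num)

theorem card_sylow11_eq (hG : Cfsg.IsM11 G) (P : Sylow 11 G) : Nat.card (P : Subgroup G) = 11 :=
  Basic.card_sylow_eq_pow (a := 1) (m := 720) (by rw [hG.2]; norm_num) (by norm_num) P

theorem card_sylow5_eq (hG : Cfsg.IsM11 G) (P : Sylow 5 G) : Nat.card (P : Subgroup G) = 5 :=
  Basic.card_sylow_eq_pow (a := 1) (m := 1584) (by rw [hG.2]; norm_num) (by norm_num) P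

theorem card_sylow3_eq (hG : Cfsg.IsM11 G) (P : Sylow 3 G) : Nat.card (P : Subgroup G) = 9 :=
  Basic.card_sylow_eq_pow (a := 2) (m := 880) (by rw [hG.2]; norm_num) (by norm_num) P

/-- A subgroup of order `k` inside `H` when `k` is a prime power dividing `|H|`. -/
theorem exists_le_card {H : Subgroup G} {q n : ℕ} [Fact q.Prime] (h : q ^ n ∣ Nat.card H) :
    ∃ R : Subgroup G, R ≤ H ∧ Nat.card R = q ^ n := by
  obtain ⟨R, hR⟩ := Sylow.exists_subgroup_card_pow_prime q h
  exact ⟨R.map H.subtype, map_subtype_le R,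
    by rw [card_map_of_injective H.subtype_injective, hR]⟩

theorem eleven_data (hG : Cfsg.IsM11 G) (P : Sylow 11 G) :
    Nat.card (Sylow 11 G) = 144 ∧ Nat.card (normalizer ((P : Subgroup G) : Set G)) = 55 ∧
      Exceptional.SelfCent (P : Subgroup G) ∧
      (P : Subgroup G).relIndex (normalizer ((P : Subgroup G) : Set G)) = 5 := by
  haveI := hG.1
  have hna := nonab hG
  have hP := card_sylow11_eq hG P
  have hd : (11 : ℕ) ∣ Nat.card G := by rw [hG.2]; norm_num
  obtain ⟨hdvd, hmod, hlt, -⟩ := Basic.sylow_count hna hd (a := 1) (m := 720)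
    (by rw [hG.2]; norm_num) (by norm_num)
  have hN := Basic.card_normalizer_mul P
  rw [hG.2] at hN
  obtain ⟨e, he10, he1, hNC, hpC⟩ := Centralize.centralizer_data hna P hP
  set C := centralizer ((P : Subgroup G) : Set G) with hC
  have hlist : Nat.card (Sylow 11 G) = 12 ∨ Nat.card (Sylow 11 G) = 45 ∨
      Nat.card (Sylow 11 G) = 144 := by
    have key : ∀ n ∈ Nat.divisors 720, n % 11 = 1 → 1 < n → n = 12 ∨ n = 45 ∨ n = 144 := by
      decide +kernel
    exact key _ (Nat.mem_divisors.2 ⟨hdvd, by norm_num⟩) hmod hlt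
  have he : e = 2 ∨ e = 5 ∨ e = 10 := by
    have key : ∀ n ∈ Nat.divisors 10, 1 < n → n = 2 ∨ n = 5 ∨ n = 10 := by decide +kernel
    exact key e (Nat.mem_divisors.2 ⟨he10, by norm_num⟩) he1
  rcases hlist with h | h | h
  · exfalso
    rw [h] at hN
    have h3 : 3 ^ 1 ∣ Nat.card C := by
      rcases he with rfl | rfl | rfl <;> omega
    obtain ⟨R, hRC, hR⟩ := exists_le_card h3
    have := FixedPoints.dvd_factorial_orbits hna P hP hRC (by rw [hR]; norm_num)
    rw [hR, h] at this
    norm_num [Nat.factorial] at this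
  · exfalso
    rw [h] at hN
    have h8 : 2 ^ 3 ∣ Nat.card C := by
      rcases he with rfl | rfl | rfl <;> omega
    obtain ⟨R, hRC, hR⟩ := exists_le_card h8
    haveI := FixedPoints.faithful hna hd
    obtain ⟨⟨x, hxP⟩, hxo⟩ :=
      exists_prime_orderOf_dvd_card' (G := (P : Subgroup G)) 11 (hP.symm ▸ dvd_rfl)
    rw [orderOf_mk] at hxo
    have hx1 : x ≠ 1 := fun e => by rw [e, orderOf_one] at hxo; norm_num at hxo
    have hinv : ∀ r ∈ R, r * r = 1 → r ≠ 1 → Nat.card {Q : Sylow 11 G // r • Q = Q} = 1 := by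
      intro r hr hr2 hr1
      have hc : Commute x r := mem_centralizer_iff.1 (hRC hr) x hxP
      have hm := fixed_mod (α := Sylow 11 G) (hxo ▸ pow_orderOf_eq_one x) hc
      have hu : Nat.card {Q : Sylow 11 G // r • Q = Q ∧ x • Q = Q} = 1 := by
        refine Nat.card_eq_one_iff_unique.2 ⟨⟨fun a b => Subtype.ext ?_⟩, ⟨P, ?_, smul_eq_of_mem hxP⟩⟩
        · rw [(smul_eq_iff_of_prime hP hxP hx1).1 a.2.2, (smul_eq_iff_of_prime hP hxP hx1).1 b.2.2]
        · exact Sylow.smul_eq_iff_mem_normalizer.2 (centralizer_le_normalizer _ (hRC hr))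
      rw [hu] at hm
      have h4 := FixedPoints.four_dvd_moved hna (α := Sylow 11 G) hr2
      rw [h] at h4
      have hle : Nat.card {Q : Sylow 11 G // r • Q = Q} ≤ 45 := h ▸ Finite.card_subtype_le _
      have hne : Nat.card {Q : Sylow 11 G // r • Q = Q} ≠ 45 := by
        intro h45
        refine hr1 (eq_of_smul_eq_smul (α := Sylow 11 G) fun Q => ?_)
        rw [one_smul]
        by_contra hQ
        have := Finite.card_subtype_lt (p := fun Q : Sylow 11 G => r • Q = Q) hQ
        omega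
      omega
    have hall : ∀ r : R, r ≠ 1 → Nat.card {Q : Sylow 11 G // r • Q = Q} = 1 := by
      intro r hr1
      have hr8 : (r : G) ^ 8 = 1 := by
        have h' : r ^ Nat.card R = 1 := pow_card_eq_one'
        rw [hR] at h'
        exact congrArg Subtype.val h'
      have hr' : (r : G) ≠ 1 := fun e => hr1 (Subtype.ext e)
      obtain ⟨s, hs1, hs2, hsfix, hsR⟩ : ∃ s : G, s ≠ 1 ∧ s * s = 1 ∧
          (∀ Q : Sylow 11 G, (r : G) • Q = Q → s • Q = Q) ∧ s ∈ R := by
        have hpow : ∀ (n : ℕ) (Q : Sylow 11 G), (r : G) • Q = Q → (r : G) ^ n • Q = Q :=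
          fun n Q hQ => (stabilizer G Q).pow_mem (mem_stabilizer_iff.2 hQ) n
        by_cases h2 : (r : G) ^ 2 = 1
        · exact ⟨r, hr', by rw [← sq, h2], fun Q hQ => hQ, r.2⟩
        by_cases h4 : (r : G) ^ 4 = 1
        · exact ⟨(r : G) ^ 2, h2, by rw [← pow_add, h4], hpow 2, R.pow_mem r.2 2⟩
        · exact ⟨(r : G) ^ 4, h4, by rw [← pow_add, hr8], hpow 4, R.pow_mem r.2 4⟩
      have h1 := hinv s hsR hs2 hs1
      refine le_antisymm ?_ ?_
      · rw [← h1]
        exact Nat.card_le_card_of_injective (Subtype.map id fun Q hQ => hsfix Q hQ)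
          (Subtype.map_injective _ Function.injective_id)
      · haveI : Nonempty {Q : Sylow 11 G // (r : G) • Q = Q} :=
          ⟨⟨P, Sylow.smul_eq_iff_mem_normalizer.2 (centralizer_le_normalizer _ (hRC r.2))⟩⟩
        exact Nat.card_pos
    have := dvd_of_fixed_eq (R := R) (α := Sylow 11 G) (k := 1) (fun r hr => hall r hr)
    rw [hR, h] at this
    norm_num at this
  · rw [h] at hN
    have hN55 : Nat.card (normalizer ((P : Subgroup G) : Set G)) = 55 := by omega
    exact ⟨h, hN55, Orders.selfCent_of_prime_index hna P hP (e := 5) (by norm_num) (by rw [hN55])⟩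

/-- An element of order `11` centralises nothing outside its subgroup. -/
theorem not_eleven_centralizer (hG : Cfsg.IsM11 G) {y : G} (hy : orderOf y = 11) {k : ℕ}
    (hk : k ∣ Nat.card (centralizer ({y} : Set G))) : k ∣ 11 := by
  obtain ⟨P, hP⟩ : ∃ P : Sylow 11 G, zpowers y ≤ (P : Subgroup G) :=
    (IsPGroup.of_card (n := 1) (by rw [Nat.card_zpowers, hy, pow_one])).exists_le_sylow
  have hy1 : y ≠ 1 := fun e => by rw [e, orderOf_one] at hy; norm_num at hy
  rw [(eleven_data hG P).2.2.1.centralizer_eq y (hP (mem_zpowers y)) hy1,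
    card_sylow11_eq hG P] at hk
  exact hk

theorem five_cases (hG : Cfsg.IsM11 G) :
    Nat.card (Sylow 5 G) = 66 ∨ Nat.card (Sylow 5 G) = 396 := by
  haveI := hG.1
  have hna := nonab hG
  have P : Sylow 5 G := default
  have hP := card_sylow5_eq hG P
  have hd : (5 : ℕ) ∣ Nat.card G := by rw [hG.2]; norm_num
  obtain ⟨hdvd, hmod, hlt, hfact⟩ := Basic.sylow_count hna hd (a := 1) (m := 1584)
    (by rw [hG.2]; norm_num) (by norm_num)
  have hlist : Nat.card (Sylow 5 G) = 6 ∨ Nat.card (Sylow 5 G) = 11 ∨ Nat.card (Sylow 5 G) = 16 ∨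
      Nat.card (Sylow 5 G) = 36 ∨ Nat.card (Sylow 5 G) = 66 ∨ Nat.card (Sylow 5 G) = 176 ∨
      Nat.card (Sylow 5 G) = 396 := by
    have key : ∀ n ∈ Nat.divisors 1584, n % 5 = 1 → 1 < n →
        n = 6 ∨ n = 11 ∨ n = 16 ∨ n = 36 ∨ n = 66 ∨ n = 176 ∨ n = 396 := by decide +kernel
    exact key _ (Nat.mem_divisors.2 ⟨hdvd, by norm_num⟩) hmod hlt
  have hN := Basic.card_normalizer_mul P
  rw [hG.2] at hN
  obtain ⟨e, he4, he1, hNC, hpC⟩ := Centralize.centralizer_data hna P hP
  have he : e = 2 ∨ e = 4 := by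
    have key : ∀ n ∈ Nat.divisors 4, 1 < n → n = 2 ∨ n = 4 := by decide +kernel
    exact key e (Nat.mem_divisors.2 ⟨he4, by norm_num⟩) he1
  have h11 : ¬ 11 ∣ Nat.card (normalizer ((P : Subgroup G) : Set G)) := by
    intro h
    obtain ⟨⟨y, hy⟩, hyo⟩ := exists_prime_orderOf_dvd_card'
      (G := normalizer ((P : Subgroup G) : Set G)) 11 h
    rw [orderOf_mk] at hyo
    have hle := le_centralizer_of_card_lt (q := 11) (hyo ▸ pow_orderOf_eq_one y) hy
      (by rw [hP]; norm_num)
    have := card_dvd_of_le hle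
    rw [hP] at this
    exact absurd (not_eleven_centralizer hG hyo this) (by norm_num)
  rcases hlist with h | h | h | h | h | h | h
  · exfalso; rw [h, hG.2] at hfact; norm_num [Nat.factorial] at hfact
  · exfalso
    rw [h] at hN
    have h9 : 3 ^ 2 ∣ Nat.card (centralizer ((P : Subgroup G) : Set G)) := by
      rcases he with rfl | rfl <;> omega
    obtain ⟨R, hRC, hR⟩ := exists_le_card h9
    have := FixedPoints.dvd_factorial_orbits hna P hP hRC (by rw [hR]; norm_num)
    rw [hR, h] at this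
    norm_num [Nat.factorial] at this
  · exfalso; rw [h] at hN; apply h11; omega
  · exfalso; rw [h] at hN; apply h11; omega
  · exact Or.inl h
  · exfalso; rw [h] at hN; rcases he with rfl | rfl <;> omega
  · exact Or.inr h

theorem not_nine_centralizer_five (hG : Cfsg.IsM11 G) {y : G} (hy : orderOf y = 5) :
    ¬ 9 ∣ Nat.card (centralizer ({y} : Set G)) := by
  intro h9
  obtain ⟨Q, hQ⟩ : ∃ Q : Sylow 5 G, zpowers y ≤ (Q : Subgroup G) :=
    (IsPGroup.of_card (n := 1) (by rw [Nat.card_zpowers, hy, pow_one])).exists_le_sylow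
  have hy1 : y ≠ 1 := fun e => by rw [e, orderOf_one] at hy; norm_num at hy
  have hzQ := Centralize.sylow_le_iff_mem (hQ (mem_zpowers y)) hy1 (card_sylow5_eq hG Q)
  have hle : centralizer ({y} : Set G) ≤ normalizer ((Q : Subgroup G) : Set G) := by
    rw [← centralizer_closure {y}, ← zpowers_eq_closure, hzQ]
    exact centralizer_le_normalizer _
  have h := h9.trans (card_dvd_of_le hle)
  have hN := Basic.card_normalizer_mul Q
  rw [hG.2] at hN
  rcases five_cases hG with h5 | h5 <;> rw [h5] at hN <;> omega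

theorem three_cases (hG : Cfsg.IsM11 G) :
    Nat.card (Sylow 3 G) = 55 ∨ Nat.card (Sylow 3 G) = 220 := by
  haveI := hG.1
  have hna := nonab hG
  have P : Sylow 3 G := default
  have hP := card_sylow3_eq hG P
  have hd : (3 : ℕ) ∣ Nat.card G := by rw [hG.2]; norm_num
  obtain ⟨hdvd, hmod, hlt, hfact⟩ := Basic.sylow_count hna hd (a := 2) (m := 880)
    (by rw [hG.2]; norm_num) (by norm_num)
  have hlist : Nat.card (Sylow 3 G) = 4 ∨ Nat.card (Sylow 3 G) = 10 ∨ Nat.card (Sylow 3 G) = 16 ∨
      Nat.card (Sylow 3 G) = 22 ∨ Nat.card (Sylow 3 G) = 40 ∨ Nat.card (Sylow 3 G) = 55 ∨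
      Nat.card (Sylow 3 G) = 88 ∨ Nat.card (Sylow 3 G) = 220 ∨ Nat.card (Sylow 3 G) = 880 := by
    have key : ∀ n ∈ Nat.divisors 880, n % 3 = 1 → 1 < n →
        n = 4 ∨ n = 10 ∨ n = 16 ∨ n = 22 ∨ n = 40 ∨ n = 55 ∨ n = 88 ∨ n = 220 ∨ n = 880 := by
      decide +kernel
    exact key _ (Nat.mem_divisors.2 ⟨hdvd, by norm_num⟩) hmod hlt
  have hN := Basic.card_normalizer_mul P
  rw [hG.2] at hN
  have h11 : ¬ 11 ∣ Nat.card (normalizer ((P : Subgroup G) : Set G)) := by
    intro h
    obtain ⟨⟨y, hy⟩, hyo⟩ := exists_prime_orderOf_dvd_card'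
      (G := normalizer ((P : Subgroup G) : Set G)) 11 h
    rw [orderOf_mk] at hyo
    have hle := le_centralizer_of_card_lt (q := 11) (hyo ▸ pow_orderOf_eq_one y) hy
      (by rw [hP]; norm_num)
    have := card_dvd_of_le hle
    rw [hP] at this
    exact absurd (not_eleven_centralizer hG hyo this) (by norm_num)
  have h5 : ¬ 5 ∣ Nat.card (normalizer ((P : Subgroup G) : Set G)) := by
    intro h
    obtain ⟨⟨y, hy⟩, hyo⟩ := exists_prime_orderOf_dvd_card'
      (G := normalizer ((P : Subgroup G) : Set G)) 5 h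
    rw [orderOf_mk] at hyo
    -- the fixed elements of `y` on `P` form a subgroup of order at least `4`
    let σ : Equiv.Perm (P : Subgroup G) :=
      ((P : Subgroup G).normalizerMonoidHom ⟨y, hy⟩).toEquiv
    have hσ5 : σ ^ 5 = 1 := by
      have h1 : ((P : Subgroup G).normalizerMonoidHom ⟨y, hy⟩) ^ 5 = 1 := by
        rw [← map_pow, show (⟨y, hy⟩ : normalizer ((P : Subgroup G) : Set G)) ^ 5 = 1 from
          Subtype.ext (hyo ▸ pow_orderOf_eq_one y), map_one]
      exact ((MulAut.toPerm _).map_pow ((P : Subgroup G).normalizerMonoidHom ⟨y, hy⟩) 5).symm.trans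
        (by rw [h1, map_one])
    set D : Subgroup G := (P : Subgroup G) ⊓ centralizer ({y} : Set G) with hD
    have hcard : Nat.card D % 5 = 9 % 5 := by
      classical
      haveI := Fintype.ofFinite (P : Subgroup G)
      have h := Equiv.Perm.card_fixedPoints_modEq (f := ⇑σ) (p := 5) (n := 1) (by
        rw [pow_one]
        exact (hom_coe_pow (fun f : Equiv.Perm _ => (⇑f : Function.End _)) rfl
          (fun _ _ => rfl) σ 5).symm.trans (congrArg (fun f : Equiv.Perm _ => (⇑f : Function.End _)) hσ5))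
      rw [← Nat.card_eq_fintype_card, hP, ← Nat.card_eq_fintype_card] at h
      rw [h]
      refine congrArg (· % 5) (Nat.card_congr
        { toFun := fun a => ⟨⟨a.1, a.2.1⟩, Subtype.ext ?_⟩
          invFun := fun a => ⟨a.1.1, a.1.2, ?_⟩
          left_inv := fun _ => rfl
          right_inv := fun _ => rfl })
      · show y * (a : G) * y⁻¹ = a
        rw [mul_inv_eq_iff_eq_mul]
        exact (mem_centralizer_singleton_iff.1 a.2.2).symm
      · have h : y * ((a.1 : (P : Subgroup G)) : G) * y⁻¹ = (a.1 : (P : Subgroup G)) :=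
          congrArg Subtype.val a.2
        rw [mul_inv_eq_iff_eq_mul] at h
        exact mem_centralizer_singleton_iff.2 h.symm
    have hd9 : Nat.card D ∣ 9 := hP ▸ card_dvd_of_le inf_le_left
    have hD9 : Nat.card D = 9 := by
      have key : ∀ n ∈ Nat.divisors 9, n % 5 = 9 % 5 → n = 9 := by decide +kernel
      exact key _ (Nat.mem_divisors.2 ⟨hd9, by norm_num⟩) hcard
    have h' := card_dvd_of_le (inf_le_right : D ≤ centralizer ({y} : Set G))
    rw [hD9] at h'
    exact not_nine_centralizer_five hG hyo h'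
  rcases hlist with h | h | h | h | h | h | h | h | h
  all_goals first
    | exact Or.inl h
    | exact Or.inr h
    | (exfalso; rw [h] at hN; apply h11; omega)
    | (exfalso; rw [h] at hN; apply h5; omega)
    | skip
  exfalso
  rw [h] at hN
  have h9 : Nat.card (normalizer ((P : Subgroup G) : Set G)) = 9 := by omega
  have heq : normalizer ((P : Subgroup G) : Set G) = (P : Subgroup G) :=
    (eq_of_le_of_card_ge le_normalizer (by rw [h9, hP])).symm
  haveI : IsMulCommutative (P : Subgroup G) :=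
    ⟨⟨IsPGroup.commutative_of_card_eq_prime_sq (p := 3) (by rw [hP]; norm_num)⟩⟩
  refine Basic.not_normalizer_le_centralizer hna hd P ?_
  rw [heq]
  exact le_centralizer _

theorem sylow3_comm (hG : Cfsg.IsM11 G) (P : Sylow 3 G) : IsMulCommutative (P : Subgroup G) :=
  ⟨⟨IsPGroup.commutative_of_card_eq_prime_sq (p := 3) (by rw [card_sylow3_eq hG P]; norm_num)⟩⟩

end Cfsg.Agent.M11Order
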