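import Mathlib
import Cfsg.Agent.Lib.M11Order.Sylow

/-!
# The elements of a Sylow 3-subgroup are inverted in its normaliser
-/

set_option linter.style.haveILetI false

namespace Cfsg.Agent.M11Order

open Subgroup MulAction
open Cfsg.Agent.SmallSimple
open scoped IsMulCommutative Pointwise

variable {G : Type*} [Group G] [Finite G]

local instance factPrimeThree' : Fact (Nat.Prime 3) := ⟨Nat.prime_three⟩

/-- Four elements of `(ℤ/3)²` without an opposite pair do not sum to zero. -/
theorem sum_ne_zero : ∀ S : Finset (ZMod 3 × ZMod 3), S.card = 4 → (∀ a ∈ S, -a ∉ S) →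
    ∑ a ∈ S, a ≠ 0 := by
  decide +kernel

theorem inverted (hG : Cfsg.IsM11 G) (P : Sylow 3 G) {x : G} (hx : x ∈ (P : Subgroup G)) :
    ∃ n ∈ normalizer ((P : Subgroup G) : Set G), n * x * n⁻¹ = x⁻¹ := by
  classical
  haveI := hG.1
  haveI := sylow3_comm hG P
  have hna := nonab hG
  have hP := card_sylow3_eq hG P
  set N := normalizer ((P : Subgroup G) : Set G) with hN
  haveI := Fintype.ofFinite (P : Subgroup G)
  let c : N →* MulAut (P : Subgroup G) := (P : Subgroup G).normalizerMonoidHom
  letI : MulAction N (P : Subgroup G) := MulAction.compHom _ c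
  have hact : ∀ (n : N) (a : (P : Subgroup G)), ((n • a : (P : Subgroup G)) : G) =
      (n : G) * a * (n : G)⁻¹ := fun n a => rfl
  let x' : (P : Subgroup G) := ⟨x, hx⟩
  set O : Finset (P : Subgroup G) := Finset.univ.filter fun a => a ∈ orbit N x' with hO
  by_contra hne
  push Not at hne
  have hnotinv : ∀ a ∈ O, a⁻¹ ∉ O := by
    intro a ha hb
    simp only [hO, Finset.mem_filter, Finset.mem_univ, true_and, mem_orbit_iff] at ha hb
    obtain ⟨m, rfl⟩ := ha
    obtain ⟨n, hn⟩ := hb
    refine hne ((m⁻¹ * n : N) : G) (m⁻¹ * n).2 ?_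
    have h : (m⁻¹ * n) • x' = x'⁻¹ := by
      rw [mul_smul, hn]
      show c m⁻¹ ((c m x')⁻¹) = x'⁻¹
      rw [map_inv (c m⁻¹), ← MulAut.mul_apply, ← map_mul, inv_mul_cancel, map_one]
      rfl
    exact (hact _ x').symm.trans (congrArg Subtype.val h)
  -- the product of the orbit is trivial
  have hprod : ∏ a ∈ O, a = 1 := by
    refine Subtype.ext (Centralize.eq_one_of_central_in_normalizer hna P (SetLike.coe_mem _) ?_)
    intro n hn
    rw [← mul_inv_eq_iff_eq_mul]
    have h : (⟨n, hn⟩ : N) • (∏ a ∈ O, a) = ∏ a ∈ O, a := by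
      show c ⟨n, hn⟩ (∏ a ∈ O, a) = _
      rw [map_prod]
      refine Finset.prod_nbij (fun a => c ⟨n, hn⟩ a) ?_ (fun a _ b _ h => (c ⟨n, hn⟩).injective h)
        ?_ (fun _ _ => rfl)
      · intro a ha
        simp only [hO, Finset.mem_filter, Finset.mem_univ, true_and] at ha ⊢
        exact mem_orbit_of_mem_orbit (⟨n, hn⟩ : N) ha
      · intro b hb
        simp only [hO, Finset.coe_filter, Finset.mem_univ, true_and, Set.mem_setOf_eq] at hb
        refine ⟨(⟨n, hn⟩ : N)⁻¹ • b, ?_, smul_inv_smul (⟨n, hn⟩ : N) b⟩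
        simp only [hO, Finset.coe_filter, Finset.mem_univ, true_and, Set.mem_setOf_eq]
        exact mem_orbit_of_mem_orbit _ hb
    exact (hact _ _).symm.trans (congrArg Subtype.val h)
  -- the size of the orbit
  have hx1 : x' ≠ 1 := by
    intro h
    have h' : x = 1 := congrArg Subtype.val h
    exact hne 1 (one_mem _) (by simp [h'])
  have hmemx : x' ∈ O := by simp [hO]
  have h1O : (1 : (P : Subgroup G)) ∉ O := fun h => hnotinv 1 h (by rwa [inv_one])
  have hdvd : O.card ∣ (P : Subgroup G).relIndex N := by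
    have h1 : O.card = (stabilizer N x').index := by
      rw [index_stabilizer, ← Nat.card_coe_set_eq, ← Nat.card_eq_finsetCard]
      exact Nat.card_congr (Equiv.subtypeEquivRight fun a => by simp [hO])
    rw [h1]
    refine Subgroup.index_dvd_of_le (fun g hg => ?_)
    rw [mem_stabilizer_iff]
    apply Subtype.ext
    rw [hact, mul_inv_eq_iff_eq_mul]
    exact congrArg Subtype.val (mul_comm (⟨(g : G), mem_subgroupOf.1 hg⟩ : (P : Subgroup G)) x')
  have hrel : (P : Subgroup G).relIndex N ∣ 16 := by
    have h := relIndex_mul_relIndex ⊥ (P : Subgroup G) N bot_le le_normalizer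
    rw [relIndex_bot_left, relIndex_bot_left, hP] at h
    have hN' := Basic.card_normalizer_mul P
    rw [hG.2, ← hN, ← h] at hN'
    rcases three_cases hG with h3 | h3 <;> rw [h3] at hN'
    · rw [show (P : Subgroup G).relIndex N = 16 by omega]
    · rw [show (P : Subgroup G).relIndex N = 4 by omega]; norm_num
  have hle : O.card + O.card + 1 ≤ 9 := by
    have hd : Disjoint O (O.image fun a => a⁻¹) := Finset.disjoint_left.2 fun a ha hb => by
      obtain ⟨b, hb', rfl⟩ := Finset.mem_image.1 hb
      exact hnotinv b hb' ha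
    have h1 : (1 : (P : Subgroup G)) ∉ O ∪ O.image fun a => a⁻¹ := by
      simp only [Finset.mem_union, Finset.mem_image, inv_eq_one, not_or, not_exists, not_and]
      exact ⟨h1O, fun a ha ha1 => h1O (ha1 ▸ ha)⟩
    have := Finset.card_le_univ (insert 1 (O ∪ O.image fun a => a⁻¹))
    rwa [Finset.card_insert_of_notMem h1, Finset.card_union_of_disjoint hd,
      Finset.card_image_of_injective _ inv_injective, ← Nat.card_eq_fintype_card, hP] at this
  have hcases : O.card = 1 ∨ O.card = 2 ∨ O.card = 4 := by
    have key : ∀ n ∈ Nat.divisors 16, n ≤ 4 → n = 1 ∨ n = 2 ∨ n = 4 := by decide +kernel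
    exact key _ (Nat.mem_divisors.2 ⟨hdvd.trans hrel, by norm_num⟩) (by omega)
  rcases hcases with h | h | h
  · obtain ⟨a, ha⟩ := Finset.card_eq_one.1 h
    rw [ha, Finset.prod_singleton] at hprod
    rw [ha, Finset.mem_singleton] at hmemx
    exact hx1 (hmemx.trans hprod)
  · obtain ⟨a, b, hab, hO2⟩ := Finset.card_eq_two.1 h
    rw [hO2, Finset.prod_pair hab] at hprod
    refine hnotinv a (by rw [hO2]; simp) ?_
    rw [inv_eq_of_mul_eq_one_right hprod, hO2]
    simp
  · -- all elements of the orbit have order three and two of them generate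
    have hord : ∀ a ∈ O, orderOf a = orderOf x' := by
      intro a ha
      simp only [hO, Finset.mem_filter, Finset.mem_univ, true_and, mem_orbit_iff] at ha
      obtain ⟨n, rfl⟩ := ha
      exact (orderOf_injective (c n).toMonoidHom (c n).injective x')
    have huniv : ∀ a : (P : Subgroup G), a ≠ 1 → a ∈ O ∨ a⁻¹ ∈ O := by
      intro a ha
      have hd : Disjoint O (O.image fun a => a⁻¹) := Finset.disjoint_left.2 fun a ha hb => by
        obtain ⟨b, hb', rfl⟩ := Finset.mem_image.1 hb
        exact hnotinv b hb' ha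
      have h1 : (1 : (P : Subgroup G)) ∉ O ∪ O.image fun a => a⁻¹ := by
        simp only [Finset.mem_union, Finset.mem_image, inv_eq_one, not_or, not_exists, not_and]
        exact ⟨h1O, fun a ha ha1 => h1O (ha1 ▸ ha)⟩
      have hall : insert 1 (O ∪ O.image fun a => a⁻¹) = Finset.univ :=
        Finset.eq_univ_of_card _ (by
          rw [Finset.card_insert_of_notMem h1, Finset.card_union_of_disjoint hd,
            Finset.card_image_of_injective _ inv_injective, h, ← Nat.card_eq_fintype_card, hP])
      have := Finset.mem_univ a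
      rw [← hall, Finset.mem_insert, Finset.mem_union, Finset.mem_image] at this
      rcases this with h' | h' | ⟨b, hb, rfl⟩
      · exact absurd h' ha
      · exact Or.inl h'
      · exact Or.inr (by rwa [inv_inv])
    obtain ⟨u, hu⟩ := exists_prime_orderOf_dvd_card' (G := (P : Subgroup G)) 3 (by rw [hP]; norm_num)
    have hu1 : u ≠ 1 := fun e => by rw [e, orderOf_one] at hu; norm_num at hu
    have hx3 : orderOf x' = 3 := by
      rcases huniv u hu1 with h' | h'
      · rw [← hord u h', hu]
      · rw [← hord u⁻¹ h', orderOf_inv, hu]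
    obtain ⟨b, hb, hbx⟩ := Finset.exists_mem_ne (by omega : 1 < O.card) x'
    have hb3 : orderOf b = 3 := (hord b hb).trans hx3
    let φ : ZMod 3 × ZMod 3 → (P : Subgroup G) := fun s => x' ^ s.1.val * b ^ s.2.val
    have hpow : ∀ (a : (P : Subgroup G)), orderOf a = 3 → ∀ n : ℕ,
        a ^ n = a ^ (n : ZMod 3).val := by
      intro a ha n
      rw [ZMod.val_natCast]
      conv_lhs => rw [← pow_mod_orderOf, ha]
    have hadd : ∀ s t, φ (s + t) = φ s * φ t := by
      intro s t
      simp only [φ, Prod.fst_add, Prod.snd_add]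
      rw [mul_mul_mul_comm, ← pow_add, ← pow_add, hpow x' hx3 (s.1.val + t.1.val),
        hpow b hb3 (s.2.val + t.2.val)]
      push_cast [ZMod.natCast_zmod_val]
      rfl
    have hker : ∀ s, φ s = 1 → s = 0 := by
      intro s hs
      simp only [φ] at hs
      have hbpow : ∀ j : ZMod 3, b ^ j.val = 1 → j = 0 := by
        intro j hj
        have := orderOf_dvd_of_pow_eq_one hj
        rw [hb3] at this
        have hlt : j.val < 3 := ZMod.val_lt j
        exact (ZMod.val_eq_zero j).1 (by omega)
      by_cases h1 : s.1 = 0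
      · rw [h1, ZMod.val_zero, pow_zero, one_mul] at hs
        exact Prod.ext h1 (hbpow _ hs)
      exfalso
      by_cases h2 : s.2 = 0
      · rw [h2, ZMod.val_zero, pow_zero, mul_one] at hs
        have := orderOf_dvd_of_pow_eq_one hs
        rw [hx3] at this
        have hlt : s.1.val < 3 := ZMod.val_lt _
        exact h1 ((ZMod.val_eq_zero _).1 (by omega))
      have hx2 : x' ^ 2 = x'⁻¹ := eq_inv_of_mul_eq_one_left (by
        rw [← pow_succ]; exact orderOf_dvd_iff_pow_eq_one.1 (by rw [hx3]))
      have hb2 : b ^ 2 = b⁻¹ := eq_inv_of_mul_eq_one_left (by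
        rw [← pow_succ]; exact orderOf_dvd_iff_pow_eq_one.1 (by rw [hb3]))
      have v1 : s.1.val = 1 ∨ s.1.val = 2 := by
        have := ZMod.val_lt s.1
        have : s.1.val ≠ 0 := fun e => h1 ((ZMod.val_eq_zero _).1 e)
        omega
      have v2 : s.2.val = 1 ∨ s.2.val = 2 := by
        have := ZMod.val_lt s.2
        have : s.2.val ≠ 0 := fun e => h2 ((ZMod.val_eq_zero _).1 e)
        omega
      rcases v1 with e1 | e1 <;> rcases v2 with e2 | e2 <;> rw [e1, e2] at hs
      · rw [pow_one, pow_one] at hs
        exact hnotinv x' hmemx (by rw [inv_eq_of_mul_eq_one_right hs]; exact hb)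
      · rw [pow_one, hb2, mul_inv_eq_one] at hs
        exact hbx hs.symm
      · rw [hx2, pow_one, inv_mul_eq_one] at hs
        exact hbx hs.symm
      · rw [hx2, hb2, ← mul_inv, inv_eq_one] at hs
        exact hnotinv x' hmemx (by rw [inv_eq_of_mul_eq_one_right hs]; exact hb)
    have h0 : φ 0 = 1 := by simp [φ]
    have hneg : ∀ s, φ (-s) = (φ s)⁻¹ := fun s => eq_inv_of_mul_eq_one_left (by
      rw [← hadd, neg_add_cancel, h0])
    have hinj : Function.Injective φ := fun s t hst => sub_eq_zero.1 (hker _ (by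
      rw [sub_eq_add_neg, hadd, hneg, hst, mul_inv_cancel]))
    have hbij : Function.Bijective φ := hinj.bijective_of_nat_card_le (by
      rw [hP, Nat.card_prod, Nat.card_zmod])
    let e := Equiv.ofBijective φ hbij
    let S : Finset (ZMod 3 × ZMod 3) := O.map e.symm.toEmbedding
    have hS : ∀ s, s ∈ S ↔ φ s ∈ O := fun s => by
      rw [Finset.mem_map_equiv, Equiv.symm_symm]; rfl
    have hsum : ∀ T : Finset (ZMod 3 × ZMod 3), φ (∑ s ∈ T, s) = ∏ s ∈ T, φ s := fun T => by
      induction T using Finset.induction_on with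
      | empty => simpa using h0
      | insert a T ha ih => rw [Finset.sum_insert ha, Finset.prod_insert ha, hadd, ih]
    refine sum_ne_zero S (by rw [Finset.card_map, h]) (fun s hs hns => ?_) (hker _ ?_)
    · rw [hS] at hs hns
      rw [hneg] at hns
      exact hnotinv _ hs hns
    · rw [hsum, Finset.prod_map, ← hprod]
      exact Finset.prod_congr rfl fun a _ => e.apply_symm_apply a

end Cfsg.Agent.M11Order
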