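import Mathlib
import Cfsg.Agent.Lib.M11Order.Inversion

/-!
# The normalisers of the Sylow 5-subgroups of a simple group of order 7920
-/

set_option linter.style.haveILetI false

namespace Cfsg.Agent.M11Order

open Subgroup MulAction
open Cfsg.Agent.SmallSimple

variable {G : Type*} [Group G] [Finite G]

local instance factPrimeTwo'' : Fact (Nat.Prime 2) := ⟨Nat.prime_two⟩
local instance factPrimeThree'' : Fact (Nat.Prime 3) := ⟨Nat.prime_three⟩
local instance factPrimeFive'' : Fact (Nat.Prime 5) := ⟨by norm_num⟩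

/-- An element of order prime to `p - 1` normalising a subgroup of order `p` centralises it. -/
theorem le_centralizer_of_coprime {p n : ℕ} [Fact p.Prime] {H : Subgroup G} (hH : Nat.card H = p)
    {y : G} (hy : y ^ n = 1) (hn : y ∈ normalizer (H : Set G)) (hcop : Nat.Coprime n (p - 1)) :
    H ≤ centralizer ({y} : Set G) := by
  haveI : IsCyclic H := isCyclic_of_prime_card hH
  set σ := H.normalizerMonoidHom ⟨y, hn⟩ with hσ
  have h1 : orderOf σ ∣ n := orderOf_dvd_of_pow_eq_one (by
    rw [hσ, ← map_pow, show (⟨y, hn⟩ : normalizer (H : Set G)) ^ n = 1 from Subtype.ext hy, map_one])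
  have h2 : orderOf σ ∣ p - 1 := by
    have := orderOf_dvd_natCard σ
    rwa [IsCyclic.card_mulAut, hH, Nat.totient_prime (Fact.out : p.Prime)] at this
  have h3 : σ = 1 := orderOf_eq_one_iff.1 (Nat.eq_one_of_dvd_coprimes hcop h1 h2)
  intro z hz
  rw [mem_centralizer_singleton_iff]
  have h4 : y * z * y⁻¹ = z :=
    congrArg Subtype.val (DFunLike.congr_fun h3 ⟨z, hz⟩ : σ ⟨z, hz⟩ = (1 : MulAut H) ⟨z, hz⟩)
  rw [mul_inv_eq_iff_eq_mul] at h4
  exact h4.symm

omit [Finite G] in
theorem sigma_sylow_ext {K : Type*} [Group K] {p : ℕ}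
    {a b : Σ Q : Sylow p K, {y : (Q : Subgroup K) // y ≠ 1}} (h : a.1 = b.1)
    (h2 : (a.2.1 : K) = (b.2.1 : K)) : a = b := by
  obtain ⟨Q, ⟨⟨y, hy⟩, hy1⟩⟩ := a
  obtain ⟨R, ⟨⟨z, hz⟩, hz1⟩⟩ := b
  obtain rfl : Q = R := h
  obtain rfl : y = z := h2
  rfl

omit [Finite G] in
/-- The elements of order `p` when the Sylow `p`-subgroups have order `p`. -/
theorem card_orderOf_eq {K : Type*} [Group K] [Finite K] {p : ℕ} [Fact p.Prime]
    (h : ∀ Q : Sylow p K, Nat.card (Q : Subgroup K) = p) :
    Nat.card {y : K // orderOf y = p} = Nat.card (Sylow p K) * (p - 1) := by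
  classical
  have hpp : p.Prime := Fact.out
  haveI := Fintype.ofFinite (Sylow p K)
  choose f hf using fun y : {y : K // orderOf y = p} =>
    (IsPGroup.of_card (n := 1) (by rw [Nat.card_zpowers, y.2, pow_one]) :
      IsPGroup p (zpowers (y : K))).exists_le_sylow
  have hord : ∀ (Q : Sylow p K) (y : (Q : Subgroup K)), y ≠ 1 → orderOf (y : K) = p := fun Q y hy => by
    rw [orderOf_coe]
    exact orderOf_eq_prime ((congrArg (y ^ ·) (h Q).symm).trans pow_card_eq_one') hy
  have hne : ∀ y : {y : K // orderOf y = p}, (y : K) ≠ 1 := fun y e => by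
    have := y.2
    rw [e, orderOf_one] at this
    exact hpp.ne_one this.symm
  let e : {y : K // orderOf y = p} ≃ Σ Q : Sylow p K, {y : (Q : Subgroup K) // y ≠ 1} :=
    { toFun := fun y => ⟨f y, ⟨y, hf y (mem_zpowers _)⟩, fun e => hne y (congrArg Subtype.val e)⟩
      invFun := fun s => ⟨(s.2.1 : K), hord s.1 s.2.1 s.2.2⟩
      left_inv := fun y => rfl
      right_inv := by
        rintro ⟨Q, ⟨⟨y, hy⟩, hy1⟩⟩
        have hy1' : y ≠ 1 := fun e => hy1 (Subtype.ext e)
        have hQ : f ⟨y, hord Q ⟨y, hy⟩ hy1⟩ = Q :=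
          (smul_eq_iff_of_prime (h Q) hy hy1').1 (smul_eq_of_mem (hf _ (mem_zpowers y)))
        exact sigma_sylow_ext hQ rfl }
  rw [Nat.card_congr e, Nat.card_sigma, Finset.sum_congr rfl (g := fun _ => p - 1) fun Q _ => by
    haveI := Fintype.ofFinite (Q : Subgroup K)
    rw [Nat.card_eq_fintype_card, Fintype.card_subtype_compl, Fintype.card_subtype_eq,
      ← Nat.card_eq_fintype_card, h Q]]
  rw [Finset.sum_const, Finset.card_univ, smul_eq_mul, ← Nat.card_eq_fintype_card]

/-- Two commuting involutions in a subgroup whose order is not divisible by four are equal. -/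
theorem involution_unique {K : Subgroup G} (h4 : ¬ 4 ∣ Nat.card K) {u t : G} (hu : u ∈ K)
    (ht : t ∈ K) (huo : orderOf u = 2) (hto : orderOf t = 2) (hc : Commute u t) : u = t := by
  set t' : K := ⟨t, ht⟩
  set u' : K := ⟨u, hu⟩
  obtain ⟨R, hR⟩ : ∃ R : Sylow 2 K, zpowers t' ≤ (R : Subgroup K) :=
    (IsPGroup.of_card (n := 1) (by
      rw [Nat.card_zpowers, ← orderOf_coe t', hto, pow_one])).exists_le_sylow
  have hR2 : Nat.card (R : Subgroup K) = 2 := by
    obtain ⟨j, hj⟩ := IsPGroup.iff_card.1 R.isPGroup'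
    have h1 := card_dvd_of_le hR
    rw [Nat.card_zpowers, ← orderOf_coe t', hto, hj] at h1
    have h2 := card_subgroup_dvd_card (R : Subgroup K)
    rw [hj] at h2
    match j with
    | 0 => norm_num at h1
    | 1 => simpa using hj
    | j + 2 => exact absurd ((dvd_mul_left 4 (2 ^ j)).trans (by rwa [pow_add] at h2)) h4
  have ht1 : t' ≠ 1 := fun e => by
    have : t = 1 := congrArg Subtype.val e
    rw [this, orderOf_one] at hto
    norm_num at hto
  have hRt : zpowers t' = (R : Subgroup K) :=
    Centralize.sylow_le_iff_mem (hR (mem_zpowers _)) ht1 hR2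
  have hcN : u' • R = R := by
    refine Sylow.smul_eq_iff_mem_normalizer.2 (centralizer_le_normalizer _ ?_)
    show u' ∈ centralizer ((R : Subgroup K) : Set K)
    rw [← hRt, zpowers_eq_closure, centralizer_closure]
    exact mem_centralizer_singleton_iff.2 (Subtype.ext hc.eq)
  obtain ⟨S, hS⟩ : ∃ S : Sylow 2 K, zpowers u' ≤ (S : Subgroup K) :=
    (IsPGroup.of_card (n := 1) (by
      rw [Nat.card_zpowers, ← orderOf_coe u', huo, pow_one])).exists_le_sylow
  have huR : u' ∈ zpowers t' := hRt ▸ mem_of_smul_eq (hS (mem_zpowers _)) hcN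
  obtain ⟨k, hk⟩ := mem_zpowers_iff.1 huR
  have hto' : orderOf t' = 2 := by rw [← orderOf_coe t', hto]
  rw [← zpow_mod_orderOf, hto'] at hk
  rcases Int.emod_two_eq k with e | e <;> push_cast at hk <;> rw [e] at hk
  · rw [zpow_zero] at hk
    have : u = 1 := congrArg Subtype.val hk.symm
    rw [this, orderOf_one] at huo
    norm_num at huo
  · rw [zpow_one] at hk
    exact congrArg Subtype.val hk.symm

/-- The fixed cosets of `t`, counted through its conjugates in the subgroup. -/
theorem card_fixed_cosets (H : Subgroup G) (t : G) :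
    Nat.card H * Nat.card {c : G ⧸ H // t • c = c} =
      Nat.card (centralizer ({t} : Set G)) * Nat.card {y : G // IsConj t y ∧ y ∈ H} := by
  rw [← Basic.card_conjugating t (fun y => y ∈ H), ← Nat.card_prod]
  refine (Nat.card_congr ((QuotientGroup.preimageMkEquivSubgroupProdSet H {c | t • c = c}).symm.trans
    ?_))
  refine (Equiv.inv G).subtypeEquiv fun g => ?_
  show t • (g : G ⧸ H) = (g : G ⧸ H) ↔ g⁻¹ * t * g⁻¹⁻¹ ∈ H
  rw [inv_inv, show t • (g : G ⧸ H) = ((t * g : G) : G ⧸ H) from rfl, eq_comm, QuotientGroup.eq,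
    ← mul_assoc]

omit [Finite G] in
/-- A coset fixed by a subgroup. -/
theorem smul_coset_eq {H : Subgroup G} {z g : G} :
    z • (g : G ⧸ H) = (g : G ⧸ H) ↔ g⁻¹ * z * g ∈ H := by
  rw [show z • (g : G ⧸ H) = ((z * g : G) : G ⧸ H) from rfl, eq_comm, QuotientGroup.eq, ← mul_assoc]

theorem five_data_aux (hG : Cfsg.IsM11 G) : Nat.card (Sylow 5 G) = 396 := by
  haveI := hG.1
  have hna := nonab hG
  have hd : (5 : ℕ) ∣ Nat.card G := by rw [hG.2]; norm_num
  refine (five_cases hG).resolve_left fun h66 => ?_
  have Q : Sylow 5 G := default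
  have hQ := card_sylow5_eq hG Q
  have hN := Basic.card_normalizer_mul Q
  rw [hG.2, h66] at hN
  obtain ⟨e, he4, he1, hNC, hpC⟩ := Centralize.centralizer_data hna Q hQ
  set N := normalizer ((Q : Subgroup G) : Set G) with hNdef
  set C := centralizer ((Q : Subgroup G) : Set G) with hCdef
  have he : e = 2 ∨ e = 4 := by
    have key : ∀ n ∈ Nat.divisors 4, 1 < n → n = 2 ∨ n = 4 := by decide +kernel
    exact key e (Nat.mem_divisors.2 ⟨he4, by norm_num⟩) he1
  have hC : Nat.card C = 60 ∨ Nat.card C = 30 := by rcases he with rfl | rfl <;> omega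
  obtain ⟨⟨x, hxC⟩, hxo⟩ := exists_prime_orderOf_dvd_card' (G := C) 3 (by rcases hC with h | h <;> omega)
  rw [orderOf_mk] at hxo
  have hx1 : x ≠ 1 := fun e => by rw [e, orderOf_one] at hxo; norm_num at hxo
  have hcent3 : ∀ (R : Sylow 5 G) {z : G}, orderOf z = 3 → z • R = R →
      (R : Subgroup G) ≤ centralizer ({z} : Set G) := fun R z hz h =>
    le_centralizer_of_coprime (card_sylow5_eq hG R) (hz ▸ pow_orderOf_eq_one z)
      (Sylow.smul_eq_iff_mem_normalizer.1 h) (by norm_num)
  set H := centralizer ({x} : Set G) with hH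
  have hQH : (Q : Subgroup G) ≤ H := fun q hq =>
    mem_centralizer_singleton_iff.2 (mem_centralizer_iff.1 hxC q hq)
  -- the fixed Sylow subgroups of `x`
  set F := Nat.card {R : Sylow 5 G // x • R = R} with hF
  have hF3 : F % 3 = 0 := by
    have h := fixed_mod (α := Sylow 5 G) (p := 3) (hxo ▸ pow_orderOf_eq_one x) (Commute.one_right x)
    rw [Nat.card_congr (Equiv.subtypeUnivEquiv fun R => one_smul G R), h66,
      Nat.card_congr (Equiv.subtypeEquivRight (q := fun R : Sylow 5 G => x • R = R)
        fun R => by simp), ← hF] at h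
    omega
  obtain ⟨⟨y, hyQ⟩, hyo⟩ :=
    exists_prime_orderOf_dvd_card' (G := (Q : Subgroup G)) 5 (hQ.symm ▸ dvd_rfl)
  rw [orderOf_mk] at hyo
  have hy1 : y ≠ 1 := fun e => by rw [e, orderOf_one] at hyo; norm_num at hyo
  have hF5 : F % 5 = 1 := by
    have h := fixed_mod (α := Sylow 5 G) (hyo ▸ pow_orderOf_eq_one y)
      (show Commute y x from mem_centralizer_iff.1 hxC y hyQ)
    rw [← hF] at h
    have hu : Nat.card {R : Sylow 5 G // x • R = R ∧ y • R = R} = 1 := by
      refine Nat.card_eq_one_iff_unique.2 ⟨⟨fun a b => Subtype.ext ?_⟩, ⟨Q, ?_, smul_eq_of_mem hyQ⟩⟩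
      · rw [(smul_eq_iff_of_prime hQ hyQ hy1).1 a.2.2, (smul_eq_iff_of_prime hQ hyQ hy1).1 b.2.2]
      · exact Sylow.smul_eq_iff_mem_normalizer.2 (centralizer_le_normalizer _ hxC)
    rw [hu] at h
    omega
  have hF66 : F < 66 := by
    haveI := FixedPoints.faithful hna hd
    obtain ⟨R, hR⟩ : ∃ R : Sylow 5 G, ¬ x • R = R := by
      by_contra hall
      push Not at hall
      exact hx1 (eq_of_smul_eq_smul (α := Sylow 5 G) fun R => (hall R).trans (one_smul G R).symm)
    exact h66 ▸ Finite.card_subtype_lt hR
  have hFH : F = Nat.card (Sylow 5 H) := by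
    have hle : ∀ R : {R : Sylow 5 G // x • R = R}, (R.1 : Subgroup G) ≤ H := fun R =>
      hcent3 R.1 hxo R.2
    refine Nat.card_eq_of_bijective (fun R => R.1.subtype (hle R))
      ⟨fun R S hRS => Subtype.ext (Sylow.subtype_injective hRS), fun S => ?_⟩
    obtain ⟨R, hR⟩ := S.isPGroup'.map H.subtype |>.exists_le_sylow
    have hScard : Nat.card ((S : Subgroup H).map H.subtype) = 5 := by
      rw [card_map_of_injective H.subtype_injective, S.card_eq_multiplicity,
        ← (Q.subtype hQH).card_eq_multiplicity, Sylow.coe_subtype,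
        Nat.card_congr (subgroupOfEquivOfLe hQH).toEquiv, hQ]
    have heq := eq_of_le_of_card_ge hR (by rw [hScard, card_sylow5_eq hG R])
    have hRH : (R : Subgroup G) ≤ H := heq ▸ map_subtype_le _
    have hRfix : x • R = R := Sylow.smul_eq_iff_mem_normalizer.2 (centralizer_le_normalizer _
      (mem_centralizer_iff.2 fun r hr => mem_centralizer_singleton_iff.1 (hRH hr)))
    refine ⟨⟨R, hRfix⟩, Sylow.ext ?_⟩
    show (R : Subgroup G).subgroupOf H = (S : Subgroup H)
    rw [subgroupOf, ← heq, comap_map_eq_self_of_injective H.subtype_injective]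
  obtain ⟨P, hP⟩ : ∃ P : Sylow 3 G, zpowers x ≤ (P : Subgroup G) :=
    (IsPGroup.of_card (n := 1) (by rw [Nat.card_zpowers, hxo, pow_one])).exists_le_sylow
  have hxP : x ∈ (P : Subgroup G) := hP (mem_zpowers x)
  haveI := sylow3_comm hG P
  have hPH : (P : Subgroup G) ≤ H := fun z hz => mem_centralizer_singleton_iff.2
    (congrArg Subtype.val (mul_comm' (⟨z, hz⟩ : (P : Subgroup G)) ⟨x, hxP⟩))
  have h9H : 9 ∣ Nat.card H := card_sylow3_eq hG P ▸ card_dvd_of_le hPH
  have hHdvd : Nat.card H ∣ 7920 := hG.2 ▸ card_subgroup_dvd_card H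
  -- `15 F ∣ |H|`
  have h15 : 15 * F ∣ Nat.card H := by
    have h := Basic.card_normalizer_mul (Q.subtype hQH)
    rw [← hFH] at h
    rw [← h]
    refine mul_dvd_mul_right ?_ F
    set M := normalizer (((Q.subtype hQH : Sylow 5 H) : Subgroup H) : Set H)
    have h5 : 5 ∣ Nat.card M := by
      have h' := card_dvd_of_le (le_normalizer (H := ((Q.subtype hQH : Sylow 5 H) : Subgroup H)))
      rwa [Sylow.coe_subtype, Nat.card_congr (subgroupOfEquivOfLe hQH).toEquiv, hQ] at h'
    have h3 : 3 ∣ Nat.card M := by
      have hxM : (⟨x, mem_centralizer_singleton_iff.2 rfl⟩ : H) ∈ M := by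
        refine centralizer_le_normalizer _ (mem_centralizer_iff.2 fun q hq => Subtype.ext ?_)
        exact mem_centralizer_singleton_iff.1 q.2
      have := orderOf_dvd_natCard (⟨_, hxM⟩ : M)
      rwa [orderOf_mk, orderOf_mk, hxo] at this
    exact Nat.Coprime.mul_dvd_of_dvd_of_dvd (by norm_num : Nat.Coprime 3 5) h3 h5
  have hF6 : F = 6 := by
    have key : ∀ n < 66, n % 3 = 0 → n % 5 = 1 → 15 * n ∣ 7920 → n = 6 := by decide +kernel
    exact key F hF66 hF3 hF5 (h15.trans hHdvd)
  rw [hF6] at h15
  have h90 : 90 ∣ Nat.card H := h15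
  -- the conjugates of `x` in `N`
  have hm := FixedPoints.card_fixed_mul Q x
  rw [← hF, hF6, ← hH] at hm
  set m := Nat.card {z : G // IsConj x z ∧ z ∈ N} with hmdef
  have hN120 : Nat.card N = 120 := by omega
  rw [hN120] at hm
  have hordC : ∀ z : G, orderOf z = 3 → z ∈ N → z ∈ C := fun z hz hzN =>
    mem_centralizer_iff.2 fun q hq => mem_centralizer_singleton_iff.1
      (hcent3 Q hz (Sylow.smul_eq_iff_mem_normalizer.2 hzN) hq)
  have hC3 : ∀ T : Sylow 3 C, Nat.card (T : Subgroup C) = 3 := fun T => by
    rcases hC with h | h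
    · exact Basic.card_sylow_eq_pow (a := 1) (m := 20) (by rw [h]; norm_num) (by norm_num) T
    · exact Basic.card_sylow_eq_pow (a := 1) (m := 10) (by rw [h]; norm_num) (by norm_num) T
  obtain ⟨T, hT⟩ : ∃ T : Sylow 3 C, zpowers (⟨x, hxC⟩ : C) ≤ (T : Subgroup C) :=
    (IsPGroup.of_card (n := 1) (by
      rw [Nat.card_zpowers, orderOf_mk, hxo, pow_one])).exists_le_sylow
  have hTx := Centralize.sylow_le_iff_mem (hT (mem_zpowers _))
    (fun e => hx1 (congrArg Subtype.val e)) (hC3 T)
  obtain ⟨n, hn, hnx⟩ := inverted hG P hxP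
  have hconjinv : IsConj x x⁻¹ := isConj_iff.2 ⟨n, hnx⟩
  have hall : ∀ z : C, orderOf z = 3 → IsConj x (z : G) := by
    intro z hz
    obtain ⟨S, hS⟩ : ∃ S : Sylow 3 C, zpowers z ≤ (S : Subgroup C) :=
      (IsPGroup.of_card (n := 1) (by rw [Nat.card_zpowers, hz, pow_one])).exists_le_sylow
    obtain ⟨g, hg⟩ := MulAction.exists_smul_eq C T S
    have hzS : z ∈ ((g • T : Sylow 3 C) : Subgroup C) := hg.symm ▸ hS (mem_zpowers z)
    rw [Sylow.coe_subgroup_smul, mem_pointwise_smul_iff_inv_smul_mem, ← hTx,
      mem_zpowers_iff] at hzS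
    obtain ⟨k, hk⟩ := hzS
    have hk' : (z : G) = (g : G) * x ^ k * (g : G)⁻¹ := by
      have h := congrArg Subtype.val hk
      simp only [SubgroupClass.coe_zpow, MulAut.smul_def, MulAut.inv_apply, MulAut.conj_symm_apply,
        Subgroup.coe_mul, InvMemClass.coe_inv] at h
      rw [h]; group
    refine IsConj.trans (b := x ^ k) ?_ (isConj_iff.2 ⟨g, hk'.symm⟩)
    rw [← zpow_mod_orderOf, hxo]
    rcases (by omega : k % 3 = 0 ∨ k % 3 = 1 ∨ k % 3 = 2) with e | e | e
    · exfalso
      have hzk : (z : G) = 1 := by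
        rw [hk', ← zpow_mod_orderOf, hxo]; push_cast; rw [e]; simp
      have : z = 1 := Subtype.ext hzk
      rw [this, orderOf_one] at hz
      norm_num at hz
    · push_cast; rw [e, zpow_one]
    · push_cast; rw [e, show (2 : ℤ) = -1 + (orderOf x : ℤ) by rw [hxo]; rfl, zpow_add, zpow_natCast,
        pow_orderOf_eq_one, mul_one, zpow_neg_one]
      exact hconjinv
  have hm2 : m = Nat.card {z : C // orderOf z = 3} := by
    have hz3 : ∀ z : G, IsConj x z → orderOf z = 3 := by
      intro z hz
      obtain ⟨g, hg⟩ := isConj_iff.1 hz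
      rw [← hg, ← hxo]
      exact orderOf_injective (MulAut.conj g).toMonoidHom (MulAut.conj g).injective x
    exact (Nat.card_congr
      { toFun := fun (z : {z : C // orderOf z = 3}) =>
          (⟨(z.1 : G), hall z.1 z.2, centralizer_le_normalizer _ z.1.2⟩ :
            {z : G // IsConj x z ∧ z ∈ N})
        invFun := fun z => ⟨⟨z.1, hordC z.1 (hz3 _ z.2.1) z.2.2⟩,
          (orderOf_mk z.1 _).trans (hz3 _ z.2.1)⟩
        left_inv := fun z => rfl
        right_inv := fun z => rfl }).symm
  rw [card_orderOf_eq hC3] at hm2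
  have hn3 : Nat.card (Sylow 3 C) = 1 ∨ Nat.card (Sylow 3 C) = 4 := by
    have hmod : Nat.card (Sylow 3 C) % 3 = 1 := by
      have := card_sylow_modEq_one 3 C
      rwa [Nat.ModEq, Nat.one_mod] at this
    have h5 : 5 ∣ Nat.card (normalizer ((T : Subgroup C) : Set C)) := by
      have hyC : (⟨y, (le_centralizer_iff.1 (le_refl C)) hyQ |> fun _ => by
          exact mem_centralizer_iff.2 fun q hq => by
            haveI : IsCyclic (Q : Subgroup G) := isCyclic_of_prime_card hQ
            exact congrArg Subtype.val (mul_comm' (⟨q, hq⟩ : (Q : Subgroup G)) ⟨y, hyQ⟩)⟩ : C) ∈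
          normalizer ((T : Subgroup C) : Set C) := by
        refine centralizer_le_normalizer _ ?_
        rw [← hTx, zpowers_eq_closure, centralizer_closure]
        exact mem_centralizer_singleton_iff.2 (Subtype.ext (mem_centralizer_iff.1 hxC y hyQ))
      have := orderOf_dvd_natCard (⟨_, hyC⟩ : normalizer ((T : Subgroup C) : Set C))
      rwa [orderOf_mk, orderOf_mk, hyo] at this
    have h3 : 3 ∣ Nat.card (normalizer ((T : Subgroup C) : Set C)) := by
      have := card_dvd_of_le (le_normalizer (H := (T : Subgroup C)))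
      rwa [hC3 T] at this
    have h := Basic.card_normalizer_mul T
    obtain ⟨j, hj⟩ := Nat.Coprime.mul_dvd_of_dvd_of_dvd (by norm_num : Nat.Coprime 3 5) h3 h5
    rw [hj] at h
    have hd4 : Nat.card (Sylow 3 C) ∣ 4 := by
      rcases hC with hc | hc <;> rw [hc] at h
      · exact ⟨j, by linarith⟩
      · exact ⟨2 * j, by linarith⟩
    have hle := Nat.le_of_dvd (by norm_num) hd4
    omega
  rcases hn3 with h3 | h3 <;> rw [h3] at hm2 <;> rw [hm2] at hm
  · -- the normaliser of `⟨x⟩` would have index eleven
    have hH360 : Nat.card H = 360 := by omega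
    set M := normalizer (zpowers x : Set G) with hM
    have hM720 : Nat.card M = 720 := by
      have h := Basic.card_conjugating x (fun z => z ∈ zpowers x)
      have hset : Nat.card {z : G // IsConj x z ∧ z ∈ zpowers x} = 2 := by
        classical
        have hxx : x⁻¹ ≠ x := by
          intro h
          have h2 : x ^ 2 = 1 := by rw [sq]; nth_rw 1 [← h]; exact inv_mul_cancel x
          have := orderOf_dvd_of_pow_eq_one h2
          rw [hxo] at this
          norm_num at this
        rw [Nat.card_eq_two_iff]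
        refine ⟨⟨x, IsConj.refl x, mem_zpowers x⟩, ⟨x⁻¹, hconjinv, inv_mem (mem_zpowers x)⟩,
          fun h => hxx (congrArg Subtype.val h).symm, ?_⟩
        refine Set.eq_univ_of_forall fun ⟨z, hz1, hz2⟩ => ?_
        obtain ⟨k, rfl⟩ := mem_zpowers_iff.1 hz2
        simp only [Set.mem_insert_iff, Set.mem_singleton_iff, Subtype.mk.injEq]
        rw [← zpow_mod_orderOf, hxo]
        rcases (by omega : k % 3 = 0 ∨ k % 3 = 1 ∨ k % 3 = 2) with e | e | e
        · exfalso
          rw [← zpow_mod_orderOf, hxo] at hz1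
          push_cast at hz1; rw [e, zpow_zero] at hz1
          exact hx1 (isConj_one_left.1 hz1)
        · left; push_cast; rw [e, zpow_one]
        · right; push_cast
          rw [e, show (2 : ℤ) = -1 + (orderOf x : ℤ) by rw [hxo]; rfl, zpow_add, zpow_natCast,
            pow_orderOf_eq_one, mul_one, zpow_neg_one]
      rw [hset, ← hH, hH360] at h
      refine Eq.trans ?_ (h.trans (by norm_num))
      refine Nat.card_congr (Equiv.subtypeEquivRight fun g => ?_)
      constructor
      · intro hg
        exact (mem_normalizer_iff.1 hg x).1 (mem_zpowers x)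
      · intro hg
        refine mem_normalizer_iff.2 fun z => ?_
        have hle : (zpowers x).map (MulAut.conj g).toMonoidHom = zpowers x := by
          rw [MonoidHom.map_zpowers]
          refine eq_of_le_of_card_ge (zpowers_le.2 hg) ?_
          rw [Nat.card_zpowers, Nat.card_zpowers,
            orderOf_injective _ (MulAut.conj g).injective x]
        constructor
        · intro hz
          exact hle ▸ mem_map_of_mem (MulAut.conj g).toMonoidHom hz
        · intro hz
          rw [← hle] at hz
          obtain ⟨w, hw, hwe⟩ := hz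
          have : w = z := by
            simpa [MulAut.conj_apply] using hwe
          exact this ▸ hw
    have hidx : M.index = 11 := by
      have := M.card_mul_index
      rw [hM720, hG.2] at this
      omega
    set F₂ := Nat.card {c : G ⧸ M // x • c = c} with hF₂
    have h11 : Nat.card (G ⧸ M) = 11 := hidx
    have hF₂3 : F₂ % 3 = 2 := by
      have h := fixed_mod (α := G ⧸ M) (p := 3) (hxo ▸ pow_orderOf_eq_one x) (Commute.one_right x)
      rw [Nat.card_congr (Equiv.subtypeUnivEquiv fun c => one_smul G c), h11,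
        Nat.card_congr (Equiv.subtypeEquivRight (q := fun c : G ⧸ M => x • c = c)
          fun c => by simp), ← hF₂] at h
      omega
    have hF₂5 : F₂ % 5 = 1 := by
      have h := fixed_mod (α := G ⧸ M) (hyo ▸ pow_orderOf_eq_one y)
        (show Commute y x from mem_centralizer_iff.1 hxC y hyQ)
      rw [← hF₂] at h
      have hu : Nat.card {c : G ⧸ M // x • c = c ∧ y • c = c} = 1 := by
        refine Nat.card_eq_one_iff_unique.2 ⟨⟨fun a b => Subtype.ext ?_⟩,
          ⟨((1 : G) : G ⧸ M), smul_coset_eq.2 ?_, smul_coset_eq.2 ?_⟩⟩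
        · have honly : ∀ c : G ⧸ M, y • c = c → c = ((1 : G) : G ⧸ M) := by
            intro c hc
            induction c using QuotientGroup.induction_on with
            | _ g =>
              rw [QuotientGroup.eq, mul_one]
              refine inv_mem ?_
              -- `g x g⁻¹` is centralised by `y`, hence lies in `C`
              have hgy : g⁻¹ * y * g ∈ M := smul_coset_eq.1 hc
              have hc1 : g⁻¹ * y * g ∈ centralizer ({x} : Set G) := by
                have h' := le_centralizer_of_coprime (p := 3) (n := 5)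
                  (by rw [Nat.card_zpowers, hxo]) (y := g⁻¹ * y * g) (by
                    have hy5 : y ^ 5 = 1 := hyo ▸ pow_orderOf_eq_one y
                    rw [show g⁻¹ * y * g = g⁻¹ * y * g⁻¹⁻¹ by group, conj_pow, hy5]
                    group) hgy (by norm_num)
                exact mem_centralizer_singleton_iff.2
                  (mem_centralizer_singleton_iff.1 (h' (mem_zpowers x))).symm
              have hgx : g * x * g⁻¹ ∈ C := by
                refine mem_centralizer_iff.2 fun q hq => ?_
                rw [← Centralize.sylow_le_iff_mem hyQ hy1 hQ] at hq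
                obtain ⟨k, rfl⟩ := mem_zpowers_iff.1 hq
                have hc2 : Commute y (g * x * g⁻¹) := by
                  have h3 := mem_centralizer_singleton_iff.1 hc1
                  calc y * (g * x * g⁻¹) = g * (g⁻¹ * y * g * x) * g⁻¹ := by group
                    _ = g * (x * (g⁻¹ * y * g)) * g⁻¹ := by rw [h3]
                    _ = g * x * g⁻¹ * y := by group
                exact (hc2.zpow_left k).eq
              have hgo : orderOf (⟨g * x * g⁻¹, hgx⟩ : C) = 3 := by
                rw [orderOf_mk, ← hxo]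
                exact orderOf_injective (MulAut.conj g).toMonoidHom (MulAut.conj g).injective x
              haveI : Subsingleton (Sylow 3 C) := (Nat.card_eq_one_iff_unique.1 h3).1
              obtain ⟨S, hS⟩ : ∃ S : Sylow 3 C, zpowers (⟨g * x * g⁻¹, hgx⟩ : C) ≤ (S : Subgroup C) :=
                (IsPGroup.of_card (n := 1) (by
                  rw [Nat.card_zpowers, hgo, pow_one])).exists_le_sylow
              have hmem : (⟨g * x * g⁻¹, hgx⟩ : C) ∈ zpowers (⟨x, hxC⟩ : C) :=
                hTx ▸ Subsingleton.elim S T ▸ hS (mem_zpowers _)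
              obtain ⟨k, hk⟩ := mem_zpowers_iff.1 hmem
              refine mem_normalizer_iff.2 fun z => ?_
              have hle : (zpowers x).map (MulAut.conj g).toMonoidHom = zpowers x := by
                rw [MonoidHom.map_zpowers]
                refine eq_of_le_of_card_ge (zpowers_le.2 ?_) ?_
                · exact mem_zpowers_iff.2 ⟨k, by simpa using congrArg Subtype.val hk⟩
                · rw [Nat.card_zpowers, Nat.card_zpowers,
                    orderOf_injective _ (MulAut.conj g).injective x]
              constructor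
              · intro hz
                exact hle ▸ mem_map_of_mem (MulAut.conj g).toMonoidHom hz
              · intro hz
                rw [← hle] at hz
                obtain ⟨w, hw, hwe⟩ := hz
                have : w = z := by simpa [MulAut.conj_apply] using hwe
                exact this ▸ hw
          rw [honly _ a.2.2, honly _ b.2.2]
        · simpa using (le_normalizer (H := zpowers x)) (mem_zpowers x)
        · simp only [inv_one, one_mul, mul_one]
          refine centralizer_le_normalizer _ ?_
          rw [zpowers_eq_closure, centralizer_closure]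
          exact mem_centralizer_singleton_iff.2 (mem_centralizer_iff.1 hxC y hyQ)
      rw [hu] at h
      omega
    have hF₂le : F₂ ≤ 11 := h11 ▸ Finite.card_subtype_le _
    have hMtop : M ≠ ⊤ := fun h => by rw [h, index_top] at hidx; norm_num at hidx
    refine hx1 (Basic.toPermHom_injective M hMtop (Equiv.ext fun c => ?_))
    rw [map_one]
    by_contra hc
    have := Finite.card_subtype_lt (p := fun c : G ⧸ M => x • c = c) hc
    rw [← hF₂, h11] at this
    omega
  · -- `|H| = 90`
    have hH90 : Nat.card H = 90 := by omega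
    have hNP := Basic.card_normalizer_mul P
    rw [hG.2] at hNP
    have h5 : ¬ 5 ∣ Nat.card (normalizer ((P : Subgroup G) : Set G)) := by
      rcases three_cases hG with h | h <;> rw [h] at hNP <;> omega
    refine h5 ((FixedPoints.dvd_card_centralizer (r := 5) (a := 1) (l := 18) (by norm_num) P hPH ?_
      (by rw [hH90]; norm_num) (by norm_num) (by norm_num)).trans
        (card_dvd_of_le (centralizer_le_normalizer _)))
    set K := H ⊓ normalizer ((P : Subgroup G) : Set G) with hK
    have hmod := FixedPoints.relIndex_normalizer_mod P hPH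
    have hmul := relIndex_mul_relIndex ⊥ K H bot_le inf_le_left
    rw [relIndex_bot_left, relIndex_bot_left, hK, inf_relIndex_left, ← hK, hH90] at hmul
    have h9K : 9 ∣ Nat.card K := card_sylow3_eq hG P ▸ card_dvd_of_le (le_inf hPH le_normalizer)
    have hK9 : Nat.card K = 9 := by
      obtain ⟨j, hj⟩ := h9K
      rw [hj] at hmul
      have hj10 : j ∣ 10 := ⟨(normalizer ((P : Subgroup G) : Set G)).relIndex H, by linarith⟩
      have hjK : j * 9 ∣ Nat.card (normalizer ((P : Subgroup G) : Set G)) := by
        rw [mul_comm, ← hj]; exact card_dvd_of_le inf_le_right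
      have hj5 : ¬ 5 ∣ j := fun h => h5 ((h.mul_right 9).trans hjK)
      have key : ∀ j ∈ Nat.divisors 10, ¬ 5 ∣ j → j = 1 ∨ j = 2 := by decide +kernel
      rcases key j (Nat.mem_divisors.2 ⟨hj10, by norm_num⟩) hj5 with rfl | rfl <;> omega
    rw [show K = (P : Subgroup G) from (eq_of_le_of_card_ge (le_inf hPH le_normalizer)
      (by rw [hK9, card_sylow3_eq hG P])).symm]
    exact le_centralizer _

end Cfsg.Agent.M11Order
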