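import Mathlib
import Cfsg.Agent.Lib.M11Order.Five

/-!
# The Sylow 5-subgroups of a simple group of order 7920 are self-centralizing
-/

set_option linter.style.haveILetI false

namespace Cfsg.Agent.M11Order

open Subgroup MulAction
open Cfsg.Agent.SmallSimple

variable {G : Type*} [Group G] [Finite G]

local instance factPrimeTwo3 : Fact (Nat.Prime 2) := ⟨Nat.prime_two⟩
local instance factPrimeThree3 : Fact (Nat.Prime 3) := ⟨Nat.prime_three⟩
local instance factPrimeFive3 : Fact (Nat.Prime 5) := ⟨by norm_num⟩

/-- The orbit of `u` under conjugation by `H` has size divisible by `15`, if `3` and `5` do not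
divide the order of its stabilizer. -/
theorem orbit_dvd {H : Subgroup G} (hH : Nat.card H = 120) (S : Set G)
    (hS : ∀ h ∈ H, ∀ u ∈ S, h * u * h⁻¹ ∈ S)
    (h35 : ∀ u ∈ S, ∀ y ∈ H, y * u = u * y → orderOf y ≠ 3 ∧ orderOf y ≠ 5) :
    15 ∣ Nat.card S := by
  classical
  letI : MulAction H S :=
    { smul := fun h u => ⟨(h : G) * u * (h : G)⁻¹, hS h h.2 u u.2⟩
      one_smul := fun u => Subtype.ext (show (1 : G) * u * (1 : G)⁻¹ = u by group)
      mul_smul := fun a b u => Subtype.ext (show ((a * b : H) : G) * u * ((a * b : H) : G)⁻¹ =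
        (a : G) * ((b : G) * u * (b : G)⁻¹) * (a : G)⁻¹ by rw [Subgroup.coe_mul]; group) }
  rw [Nat.card_congr (selfEquivSigmaOrbits H S)]
  haveI := Fintype.ofFinite (orbitRel.Quotient H S)
  rw [Nat.card_sigma]
  refine Finset.dvd_sum fun w _ => ?_
  have h1 : Nat.card ↥(orbit H w.out) = (stabilizer H w.out).index := by
    rw [index_stabilizer, Nat.card_coe_set_eq]
  rw [h1]
  have h2 := (stabilizer H w.out).card_mul_index
  rw [hH] at h2
  have hp : ∀ p : ℕ, p = 3 ∨ p = 5 → ¬ p ∣ Nat.card (stabilizer H w.out) := by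
    intro p hp hd
    haveI : Fact p.Prime := ⟨by rcases hp with rfl | rfl <;> norm_num⟩
    obtain ⟨⟨y, hy⟩, hyo⟩ := exists_prime_orderOf_dvd_card' (G := stabilizer H w.out) p hd
    rw [orderOf_mk, ← orderOf_coe] at hyo
    have hy' : (y : G) * w.out * (y : G)⁻¹ = w.out := congrArg Subtype.val hy
    rw [mul_inv_eq_iff_eq_mul] at hy'
    obtain ⟨h3, h5⟩ := h35 w.out w.out.2 y y.2 hy'
    rcases hp with rfl | rfl
    · exact h3 hyo
    · exact h5 hyo
  have hcop : Nat.Coprime 15 (Nat.card (stabilizer H w.out)) := by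
    rw [show (15 : ℕ) = 3 * 5 from rfl]
    exact Nat.Coprime.mul_left ((Nat.prime_three).coprime_iff_not_dvd.2 (hp 3 (Or.inl rfl)))
      ((Fact.out : Nat.Prime 5).coprime_iff_not_dvd.2 (hp 5 (Or.inr rfl)))
  exact hcop.dvd_of_dvd_mul_left ⟨8, by omega⟩

theorem card_five_centralizer (hG : Cfsg.IsM11 G) (Q : Sylow 5 G) :
    Nat.card (centralizer ((Q : Subgroup G) : Set G)) = 5 := by
  haveI := hG.1
  have hna := nonab hG
  -- the orders of the centralisers and normalisers
  have hN : ∀ R : Sylow 5 G, Nat.card (normalizer ((R : Subgroup G) : Set G)) = 20 := fun R => by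
    have h := Basic.card_normalizer_mul R
    rw [five_data_aux hG, hG.2] at h
    omega
  have hCR : ∀ R : Sylow 5 G, Nat.card (centralizer ((R : Subgroup G) : Set G)) ∣ 10 ∧
      5 ∣ Nat.card (centralizer ((R : Subgroup G) : Set G)) := fun R => by
    obtain ⟨e, he4, he1, hNC, hpC⟩ := Centralize.centralizer_data hna R (card_sylow5_eq hG R)
    rw [hN R] at hNC
    have key : ∀ n ∈ Nat.divisors 4, 1 < n → n = 2 ∨ n = 4 := by decide +kernel
    refine ⟨?_, hpC⟩
    rcases key e (Nat.mem_divisors.2 ⟨he4, by norm_num⟩) he1 with rfl | rfl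
    · exact ⟨1, by omega⟩
    · exact ⟨2, by omega⟩
  obtain ⟨h10, h5⟩ := hCR Q
  have hcases : Nat.card (centralizer ((Q : Subgroup G) : Set G)) = 5 ∨
      Nat.card (centralizer ((Q : Subgroup G) : Set G)) = 10 := by
    have key : ∀ n ∈ Nat.divisors 10, 5 ∣ n → n = 5 ∨ n = 10 := by decide +kernel
    exact key _ (Nat.mem_divisors.2 ⟨h10, by norm_num⟩) h5
  refine hcases.resolve_right fun hC => ?_
  set N := normalizer ((Q : Subgroup G) : Set G) with hNdef
  set C := centralizer ((Q : Subgroup G) : Set G) with hCdef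
  obtain ⟨⟨y, hyQ⟩, hyo⟩ :=
    exists_prime_orderOf_dvd_card' (G := (Q : Subgroup G)) 5 ((card_sylow5_eq hG Q).symm ▸ dvd_rfl)
  rw [orderOf_mk] at hyo
  have hy1 : y ≠ 1 := fun e => by rw [e, orderOf_one] at hyo; norm_num at hyo
  have hyC : y ∈ C := mem_centralizer_iff.2 fun q hq => by
    haveI : IsCyclic (Q : Subgroup G) := isCyclic_of_prime_card (card_sylow5_eq hG Q)
    exact congrArg Subtype.val (mul_comm' (⟨q, hq⟩ : (Q : Subgroup G)) ⟨y, hyQ⟩)
  obtain ⟨⟨t, htC⟩, hto⟩ := exists_prime_orderOf_dvd_card' (G := C) 2 (by rw [hC]; norm_num)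
  rw [orderOf_mk] at hto
  have ht1 : t ≠ 1 := fun e => by rw [e, orderOf_one] at hto; norm_num at hto
  have ht2 : t * t = 1 := by rw [← sq]; exact hto ▸ pow_orderOf_eq_one t
  have hyt : Commute y t := mem_centralizer_iff.1 htC y hyQ
  -- an involution of any `C(R)` is central there and unique
  have huniq : ∀ (R : Sylow 5 G) (u v : G), u ∈ centralizer ((R : Subgroup G) : Set G) →
      v ∈ centralizer ((R : Subgroup G) : Set G) → orderOf u = 2 → orderOf v = 2 → u = v := by
    intro R u v hu hv huo hvo
    set D := centralizer ((R : Subgroup G) : Set G)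
    have h4 : ¬ 4 ∣ Nat.card D := fun h => by
      have := h.trans (hCR R).1
      norm_num at this
    refine involution_unique h4 hu hv huo hvo ?_
    -- `D` is cyclic of order ten
    have hD10 : Nat.card D = 10 := by
      have key : ∀ n ∈ Nat.divisors 10, 5 ∣ n → 2 ∣ n → n = 10 := by decide +kernel
      refine key _ (Nat.mem_divisors.2 ⟨(hCR R).1, by norm_num⟩) (hCR R).2 ?_
      have := orderOf_dvd_natCard (⟨u, hu⟩ : D)
      rwa [orderOf_mk, huo] at this
    obtain ⟨⟨z, hz⟩, hzo⟩ := exists_prime_orderOf_dvd_card' (G := (R : Subgroup G)) 5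
      ((card_sylow5_eq hG R).symm ▸ dvd_rfl)
    rw [orderOf_mk] at hzo
    have hzD : z ∈ D := mem_centralizer_iff.2 fun q hq => by
      haveI : IsCyclic (R : Subgroup G) := isCyclic_of_prime_card (card_sylow5_eq hG R)
      exact congrArg Subtype.val (mul_comm' (⟨q, hq⟩ : (R : Subgroup G)) ⟨z, hz⟩)
    have hzu : Commute (⟨z, hzD⟩ : D) ⟨u, hu⟩ := Subtype.ext (mem_centralizer_iff.1 hu z hz)
    have ho : orderOf ((⟨z, hzD⟩ : D) * ⟨u, hu⟩) = 10 := by
      rw [hzu.orderOf_mul_eq_mul_orderOf_of_coprime (by rw [orderOf_mk, orderOf_mk, hzo, huo]; norm_num),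
        orderOf_mk, orderOf_mk, hzo, huo]
    haveI : IsCyclic D := isCyclic_of_orderOf_eq_card _ (by rw [ho, hD10])
    exact congrArg Subtype.val (mul_comm' (⟨u, hu⟩ : D) ⟨v, hv⟩)
  -- `N(Q)` centralises `t`
  set H := centralizer ({t} : Set G) with hH
  have hNH : N ≤ H := by
    intro n hn
    have hnt : n * t * n⁻¹ ∈ C := by
      refine mem_centralizer_iff.2 fun q hq => ?_
      have hq' : n⁻¹ * q * n ∈ (Q : Subgroup G) := (mem_normalizer_iff''.1 hn q).1 hq
      have h := mem_centralizer_iff.1 htC _ hq'
      calc q * (n * t * n⁻¹) = n * (n⁻¹ * q * n * t) * n⁻¹ := by group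
        _ = n * (t * (n⁻¹ * q * n)) * n⁻¹ := by rw [h]
        _ = n * t * n⁻¹ * q := by group
    have := huniq Q _ _ hnt htC
      ((orderOf_injective (MulAut.conj n).toMonoidHom (MulAut.conj n).injective t).trans hto) hto
    rw [mul_inv_eq_iff_eq_mul] at this
    exact mem_centralizer_singleton_iff.2 this
  -- the order of `C(t)`
  have hQH : (Q : Subgroup G) ≤ H := le_normalizer.trans hNH
  have hmod := FixedPoints.relIndex_normalizer_mod Q hQH
  have hHcard : Nat.card H = 20 * N.relIndex H := by
    have h := relIndex_mul_relIndex ⊥ N H bot_le hNH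
    rw [relIndex_bot_left, relIndex_bot_left, hN] at h
    exact h.symm
  have hHdvd : Nat.card H ∣ 7920 := hG.2 ▸ card_subgroup_dvd_card H
  have h40 : 40 ∣ Nat.card H := by
    have h := card_fixed_cosets C t
    have h1 : Nat.card {z : G // IsConj t z ∧ z ∈ C} = 1 := by
      refine Nat.card_eq_one_iff_unique.2 ⟨⟨fun a b => Subtype.ext ?_⟩, ⟨t, IsConj.refl t, htC⟩⟩
      have ho : ∀ z : G, IsConj t z → orderOf z = 2 := fun z hz => by
        obtain ⟨g, rfl⟩ := isConj_iff.1 hz
        exact (orderOf_injective (MulAut.conj g).toMonoidHom (MulAut.conj g).injective t).trans hto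
      exact huniq Q _ _ a.2.2 b.2.2 (ho _ a.2.1) (ho _ b.2.1)
    rw [h1, mul_one, hC, ← hH] at h
    have h4 := FixedPoints.four_dvd_moved hna (α := G ⧸ C) ht2
    have hi : Nat.card (G ⧸ C) = 792 := by
      have := C.card_mul_index
      rw [hC, hG.2] at this
      change C.index = 792
      omega
    rw [hi] at h4
    have hle : Nat.card {c : G ⧸ C // t • c = c} ≤ 792 := hi ▸ Finite.card_subtype_le _
    omega
  have hk : N.relIndex H = 6 ∨ N.relIndex H = 36 ∨ N.relIndex H = 66 ∨ N.relIndex H = 396 := by
    rw [hHcard] at h40 hHdvd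
    have hd : N.relIndex H ∣ 396 := by
      have : 20 * N.relIndex H ∣ 20 * 396 := by norm_num; exact hHdvd
      exact (Nat.mul_dvd_mul_iff_left (by norm_num : 0 < 20)).1 this
    have key : ∀ n ∈ Nat.divisors 396, n % 5 = 1 → 40 ∣ 20 * n →
        n = 6 ∨ n = 36 ∨ n = 66 ∨ n = 396 := by decide +kernel
    exact key _ (Nat.mem_divisors.2 ⟨hd, by norm_num⟩) hmod h40
  have hidx := H.card_mul_index
  rw [hG.2, hHcard] at hidx
  have hHtop : H ≠ ⊤ := by
    intro h
    have : t ∈ Subgroup.center G := Subgroup.mem_center_iff.2 fun g =>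
      mem_centralizer_singleton_iff.1 (show g ∈ H from h ▸ mem_top g)
    rw [Basic.center_eq_bot hna] at this
    exact ht1 (Subgroup.mem_bot.1 this)
  -- `Q` fixes one coset of `C(t)`
  have hQfix : ∀ c : G ⧸ H, y • c = c → c = ((1 : G) : G ⧸ H) := by
    intro c hc
    induction c using QuotientGroup.induction_on with
    | _ g =>
      rw [QuotientGroup.eq, mul_one]
      refine inv_mem ?_
      have hgy := mem_centralizer_singleton_iff.1 (smul_coset_eq.1 hc)
      have hgt : g * t * g⁻¹ ∈ C := by
        refine mem_centralizer_iff.2 fun q hq => ?_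
        rw [← Centralize.sylow_le_iff_mem hyQ hy1 (card_sylow5_eq hG Q)] at hq
        obtain ⟨k, rfl⟩ := mem_zpowers_iff.1 hq
        have hc2 : Commute y (g * t * g⁻¹) := by
          calc y * (g * t * g⁻¹) = g * (g⁻¹ * y * g * t) * g⁻¹ := by group
            _ = g * (t * (g⁻¹ * y * g)) * g⁻¹ := by rw [hgy]
            _ = g * t * g⁻¹ * y := by group
        exact (hc2.zpow_left k).eq
      have := huniq Q _ _ hgt htC
        ((orderOf_injective (MulAut.conj g).toMonoidHom (MulAut.conj g).injective t).trans hto) hto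
      rw [mul_inv_eq_iff_eq_mul] at this
      exact mem_centralizer_singleton_iff.2 this
  set F := Nat.card {c : G ⧸ H // t • c = c} with hF
  have hF5 : F % 5 = 1 := by
    have h := fixed_mod (α := G ⧸ H) (hyo ▸ pow_orderOf_eq_one y) hyt
    rw [← hF] at h
    have hu : Nat.card {c : G ⧸ H // t • c = c ∧ y • c = c} = 1 := by
      refine Nat.card_eq_one_iff_unique.2 ⟨⟨fun a b => Subtype.ext ?_⟩,
        ⟨((1 : G) : G ⧸ H), smul_coset_eq.2 ?_, smul_coset_eq.2 ?_⟩⟩
      · rw [hQfix _ a.2.2, hQfix _ b.2.2]
      · simp only [inv_one, one_mul, mul_one]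
        exact mem_centralizer_singleton_iff.2 rfl
      · simp only [inv_one, one_mul, mul_one]
        exact hQH hyQ
    rw [hu] at h
    omega
  have h4 := FixedPoints.four_dvd_moved hna (α := G ⧸ H) ht2
  have hFlt : F < Nat.card (G ⧸ H) := by
    obtain ⟨c, hc⟩ : ∃ c : G ⧸ H, ¬ t • c = c := by
      by_contra hall
      push Not at hall
      exact ht1 (Basic.toPermHom_injective H hHtop (Equiv.ext fun c => by rw [map_one]; exact hall c))
    exact Finite.card_subtype_lt hc
  change 20 * N.relIndex H * Nat.card (G ⧸ H) = 7920 at hidx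
  rw [← hF] at h4
  rcases hk with h | h | h | h <;> rw [h] at hidx hHcard
  · -- `|C(t)| = 120`
    have hcount := card_fixed_cosets H t
    rw [← hH, ← hF] at hcount
    have hcnt : Nat.card {z : G // IsConj t z ∧ z ∈ H} = F :=
      (Nat.eq_of_mul_eq_mul_left (by omega) hcount).symm
    norm_num at hHcard
    -- the other conjugates of `t` in `C(t)`
    set S : Set G := {z | IsConj t z ∧ z ∈ H ∧ z ≠ t} with hS
    have hSF : Nat.card S + 1 = F := by
      have h0 : Nat.card {z : G // (IsConj t z ∧ z ∈ H) ∧ z = t} = 1 :=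
        Nat.card_eq_one_iff_unique.2 ⟨⟨fun a b => Subtype.ext (a.2.2.trans b.2.2.symm)⟩,
          ⟨t, ⟨IsConj.refl t, mem_centralizer_singleton_iff.2 rfl⟩, rfl⟩⟩
      rw [← hcnt, ← h0]
      classical
      haveI := Fintype.ofFinite G
      rw [show Nat.card S = (Finset.univ.filter fun z => (IsConj t z ∧ z ∈ H) ∧ ¬ z = t).card by
          rw [← Nat.card_eq_finsetCard]
          exact Nat.card_congr (Equiv.subtypeEquivRight fun z => by simp [hS, and_assoc]),
        Nat.card_eq_fintype_card, Nat.card_eq_fintype_card, Fintype.card_subtype, Fintype.card_subtype,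
        add_comm]
      rw [show (Finset.univ.filter fun z => (IsConj t z ∧ z ∈ H) ∧ z = t) =
          (Finset.univ.filter fun z => IsConj t z ∧ z ∈ H).filter (· = t) by rw [Finset.filter_filter],
        show (Finset.univ.filter fun z => (IsConj t z ∧ z ∈ H) ∧ ¬ z = t) =
          (Finset.univ.filter fun z => IsConj t z ∧ z ∈ H).filter (fun z => ¬ z = t) by
            rw [Finset.filter_filter]]
      exact Finset.card_filter_add_card_filter_not _
    have hH5 : ∀ R : Sylow 5 H, Nat.card (R : Subgroup H) = 5 := fun R =>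
      Basic.card_sylow_eq_pow (a := 1) (m := 24) (by rw [hHcard]; norm_num) (by norm_num) R
    have hH3 : ∀ R : Sylow 3 H, Nat.card (R : Subgroup H) = 3 := fun R =>
      Basic.card_sylow_eq_pow (a := 1) (m := 40) (by rw [hHcard]; norm_num) (by norm_num) R
    let t' : H := ⟨t, mem_centralizer_singleton_iff.2 rfl⟩
    have ht'o : orderOf t' = 2 := by rw [orderOf_mk, hto]
    have htc : ∀ z : H, Commute t' z := fun z =>
      Subtype.ext (mem_centralizer_singleton_iff.1 z.2).symm
    have hn5 : Nat.card (Sylow 5 H) = 6 := by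
      rw [(Q.subtype hQH).card_eq_index_normalizer, ← h]
      have e : normalizer ((Q.subtype hQH : Sylow 5 H) : Set H) = N.subgroupOf H := by
        ext u
        change u ∈ normalizer (((Q.subtype hQH : Sylow 5 H) : Subgroup H) : Set H) ↔ _
        rw [Sylow.coe_subtype, mem_subgroupOf]
        constructor
        · intro hu
          refine mem_normalizer_iff.2 fun z => ?_
          by_cases hz : z ∈ H
          · have := mem_normalizer_iff.1 hu ⟨z, hz⟩
            simp only [mem_subgroupOf] at this
            exact this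
          · refine iff_of_false (fun h => hz (hQH h)) (fun h => hz ?_)
            have := H.mul_mem (H.mul_mem (H.inv_mem u.2) (hQH h)) u.2
            simpa [mul_assoc] using this
        · intro hu
          refine mem_normalizer_iff.2 fun z => ?_
          simp only [mem_subgroupOf]
          exact mem_normalizer_iff.1 hu (z : G)
      rw [e]
      rfl
    -- elements of order three
    have hX : ∀ x : H, orderOf x = 3 → Nat.card (Sylow 3 H) = 10 ∧
        Nat.card (centralizer ({x} : Set H)) ≠ 12 ∧ Nat.card (centralizer ({x} : Set H)) ∣ 12 := by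
      intro x hxo
      obtain ⟨X, hXx⟩ : ∃ X : Sylow 3 H, zpowers x ≤ (X : Subgroup H) :=
        (IsPGroup.of_card (n := 1) (by rw [Nat.card_zpowers, hxo, pow_one])).exists_le_sylow
      have hx1 : x ≠ 1 := fun e => by rw [e, orderOf_one] at hxo; norm_num at hxo
      have hXeq := Centralize.sylow_le_iff_mem (hXx (mem_zpowers x)) hx1 (hH3 X)
      set M := normalizer ((X : Subgroup H) : Set H) with hM
      have hcM : centralizer ({x} : Set H) ≤ M := by
        rw [hM, ← hXeq]
        refine le_trans ?_ (centralizer_le_normalizer _)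
        rw [zpowers_eq_closure, centralizer_closure]
      have hmul := Basic.card_normalizer_mul X
      rw [hHcard, ← hM] at hmul
      have h6 : 6 ∣ Nat.card M := by
        refine Nat.Coprime.mul_dvd_of_dvd_of_dvd (by norm_num : Nat.Coprime 2 3) ?_ ?_
        · have htM : t' ∈ M := hcM (mem_centralizer_singleton_iff.2 (htc x).eq)
          have := orderOf_dvd_natCard (⟨t', htM⟩ : M)
          rwa [orderOf_mk, ht'o] at this
        · have := card_dvd_of_le (le_normalizer (H := (X : Subgroup H)))
          rwa [hH3 X] at this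
      have hmod : Nat.card (Sylow 3 H) % 3 = 1 := by
        have := card_sylow_modEq_one 3 H
        rwa [Nat.ModEq, Nat.one_mod] at this
      have hn20 : Nat.card (Sylow 3 H) ∣ 20 := by
        obtain ⟨j, hj⟩ := h6
        rw [hj] at hmul
        exact ⟨j, by linarith⟩
      have hcases : Nat.card (Sylow 3 H) = 1 ∨ Nat.card (Sylow 3 H) = 4 ∨
          Nat.card (Sylow 3 H) = 10 := by
        have key : ∀ n ∈ Nat.divisors 20, n % 3 = 1 → n = 1 ∨ n = 4 ∨ n = 10 := by decide +kernel
        exact key _ (Nat.mem_divisors.2 ⟨hn20, by norm_num⟩) hmod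
      have hn10 : Nat.card (Sylow 3 H) = 10 := by
        refine (hcases.resolve_left fun h1 => ?_).resolve_left fun h4 => ?_
        all_goals
          -- some Sylow 3-subgroup is normalised, hence centralised, by an element of order five
          obtain ⟨X', hX'⟩ : ∃ X' : Sylow 3 H, (⟨y, hQH hyQ⟩ : H) • X' = X' := by
            have hm := fixed_mod (α := Sylow 3 H) (p := 5) (x := (⟨y, hQH hyQ⟩ : H)) (r := 1)
              (Subtype.ext (hyo ▸ pow_orderOf_eq_one y)) (Commute.one_right _)
            rw [Nat.card_congr (Equiv.subtypeUnivEquiv fun c => one_smul H c)] at hm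
            by_contra hnone
            push Not at hnone
            haveI : IsEmpty {a : Sylow 3 H // (1 : H) • a = a ∧ (⟨y, hQH hyQ⟩ : H) • a = a} :=
              ⟨fun a => hnone a.1 a.2.2⟩
            rw [Nat.card_of_isEmpty (α := {a : Sylow 3 H // (1 : H) • a = a ∧
              (⟨y, hQH hyQ⟩ : H) • a = a})] at hm
            omega
          have hle := le_centralizer_of_coprime (p := 3) (n := 5) (hH3 X')
            (y := (⟨y, hQH hyQ⟩ : H)) (Subtype.ext (hyo ▸ pow_orderOf_eq_one y))
            (Sylow.smul_eq_iff_mem_normalizer.1 hX') (by norm_num)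
          have hsub : ((X' : Subgroup H).map H.subtype) ≤ C := by
            rintro _ ⟨z, hz, rfl⟩
            refine mem_centralizer_iff.2 fun q hq => ?_
            rw [← Centralize.sylow_le_iff_mem hyQ hy1 (card_sylow5_eq hG Q)] at hq
            obtain ⟨k, rfl⟩ := mem_zpowers_iff.1 hq
            have hc2 : Commute y (z : G) :=
              congrArg Subtype.val (mem_centralizer_singleton_iff.1 (hle hz)).symm
            exact (hc2.zpow_left k).eq
          have := card_dvd_of_le hsub
          rw [card_map_of_injective H.subtype_injective, hH3 X', hC] at this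
          norm_num at this
      rw [hn10] at hmul
      have hM12 : Nat.card M = 12 := by omega
      refine ⟨hn10, fun h12 => ?_, hM12 ▸ card_dvd_of_le hcM⟩
      have hMC : M = centralizer ({x} : Set H) := (eq_of_le_of_card_ge hcM (by rw [hM12, h12])).symm
      have := FixedPoints.dvd_card_centralizer (r := 5) (a := 1) (l := 24) (by norm_num) X
        (H := ⊤) le_top (by
          rw [top_inf_eq, ← hM, hMC, ← hXeq, zpowers_eq_closure, centralizer_closure])
        (by rw [card_top, hHcard]; norm_num) (by norm_num) (by norm_num)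
      rw [← hXeq, zpowers_eq_closure, centralizer_closure, h12] at this
      norm_num at this
    have h15 := orbit_dvd hHcard S (by
      rintro g hg u ⟨hu1, hu2, hu3⟩
      refine ⟨hu1.trans (isConj_iff.2 ⟨g, rfl⟩), H.mul_mem (H.mul_mem hg hu2) (H.inv_mem hg),
        fun e => hu3 ?_⟩
      have hgt := mem_centralizer_singleton_iff.1 hg
      rw [mul_inv_eq_iff_eq_mul, ← hgt] at e
      exact mul_left_cancel e) (by
      rintro u ⟨hu1, hu2, hu3⟩ z hz hzu
      have huo : orderOf u = 2 := by
        obtain ⟨g, rfl⟩ := isConj_iff.1 hu1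
        exact (orderOf_injective (MulAut.conj g).toMonoidHom (MulAut.conj g).injective t).trans hto
      have hzt : Commute z t := mem_centralizer_singleton_iff.1 hz
      refine ⟨fun hz3 => ?_, fun hz5 => ?_⟩
      · obtain ⟨-, h12, hd⟩ := hX ⟨z, hz⟩ (by rw [orderOf_mk, hz3])
        have h4' : ¬ 4 ∣ Nat.card (centralizer ({(⟨z, hz⟩ : H)} : Set H)) := by
          intro h4'
          apply h12
          have h3' : 3 ∣ Nat.card (centralizer ({(⟨z, hz⟩ : H)} : Set H)) := by
            have := orderOf_dvd_natCard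
              (⟨⟨z, hz⟩, mem_centralizer_singleton_iff.2 rfl⟩ : centralizer ({(⟨z, hz⟩ : H)} : Set H))
            rwa [orderOf_mk, orderOf_mk, hz3] at this
          exact Nat.dvd_antisymm hd (Nat.Coprime.mul_dvd_of_dvd_of_dvd (m := 4) (n := 3)
            (by norm_num) h4' h3')
        have := involution_unique h4' (u := (⟨u, hu2⟩ : H)) (t := t')
          (mem_centralizer_singleton_iff.2 (Subtype.ext hzu.symm))
          (mem_centralizer_singleton_iff.2 (htc _).eq)
          (by rw [orderOf_mk, huo]) ht'o (htc _).symm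
        exact hu3 (congrArg Subtype.val this)
      · obtain ⟨R, hR⟩ : ∃ R : Sylow 5 G, zpowers z ≤ (R : Subgroup G) :=
          (IsPGroup.of_card (n := 1) (by rw [Nat.card_zpowers, hz5, pow_one])).exists_le_sylow
        have hz1 : z ≠ 1 := fun e => by rw [e, orderOf_one] at hz5; norm_num at hz5
        have hzR := Centralize.sylow_le_iff_mem (hR (mem_zpowers z)) hz1 (card_sylow5_eq hG R)
        have hm : ∀ w : G, Commute z w → w ∈ centralizer ((R : Subgroup G) : Set G) := fun w hw =>
          mem_centralizer_iff.2 fun q hq => by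
            rw [← hzR] at hq
            obtain ⟨k, rfl⟩ := mem_zpowers_iff.1 hq
            exact (hw.zpow_left k).eq
        exact hu3 (huniq R u t (hm u hzu) (hm t hzt) huo hto))
    -- the number of involutions of `C(t)`
    have h5count := card_orderOf_eq hH5
    rw [hn5] at h5count
    obtain ⟨x, hx⟩ := exists_prime_orderOf_dvd_card' (G := H) 3 (by rw [hHcard]; norm_num)
    have h3count := card_orderOf_eq hH3
    rw [(hX x hx).1] at h3count
    have hmult : ∀ p : ℕ, Nat.Coprime p 2 → Nat.card {z : H // orderOf z = p} ≤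
        Nat.card {z : H // orderOf z = 2 * p} := fun p hp =>
      Nat.card_le_card_of_injective (fun z => ⟨t' * z.1, by
          rw [(htc z.1).orderOf_mul_eq_mul_orderOf_of_coprime (by rw [ht'o, z.2]; exact hp.symm),
            ht'o, z.2]⟩)
        (fun a b hab => Subtype.ext (mul_left_cancel (congrArg Subtype.val hab)))
    have h10count := hmult 5 (by norm_num)
    have h6count := hmult 3 (by norm_num)
    have h2count : Nat.card {z : G // IsConj t z ∧ z ∈ H} ≤ Nat.card {z : H // orderOf z = 2} :=
      Nat.card_le_card_of_injective (fun z => ⟨⟨z.1, z.2.2⟩, by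
          rw [orderOf_mk]
          obtain ⟨g, hg⟩ := isConj_iff.1 z.2.1
          rw [← hg]
          exact (orderOf_injective (MulAut.conj g).toMonoidHom (MulAut.conj g).injective t).trans hto⟩)
        (fun a b hab => Subtype.ext (congrArg (fun w : {z : H // orderOf z = 2} => (w.1 : G)) hab))
    have hsum : Nat.card {z : H // orderOf z = 2} + Nat.card {z : H // orderOf z = 3} +
        Nat.card {z : H // orderOf z = 5} + Nat.card {z : H // orderOf z = 6} +
        Nat.card {z : H // orderOf z = 10} ≤ 120 := by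
      classical
      haveI := Fintype.ofFinite H
      simp only [Nat.card_eq_fintype_card, Fintype.card_subtype]
      rw [Nat.card_eq_fintype_card] at hHcard
      have hfib := Finset.card_eq_sum_card_fiberwise (s := (Finset.univ : Finset H))
        (f := fun z : H => orderOf z) (t := Nat.divisors 120)
          (fun z _ => Finset.mem_coe.2 (Nat.mem_divisors.2 ⟨by
            rw [← hHcard]; exact orderOf_dvd_card, by norm_num⟩))
      rw [Finset.card_univ, hHcard] at hfib
      refine le_trans (le_of_eq ?_) (le_trans (Finset.sum_le_sum_of_subset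
        (show ({2, 3, 5, 6, 10} : Finset ℕ) ⊆ Nat.divisors 120 by decide +kernel)) hfib.ge)
      simp [add_assoc]
    rw [hcnt] at h2count
    norm_num at h10count h6count
    omega
  · -- `|C(t)| = 720`
    omega
  · -- index six
    have h6 : H.index = 6 := by
      change Nat.card (G ⧸ H) = 6
      omega
    have := Basic.two_mul_card_dvd_factorial hna H hHtop
    rw [h6, hG.2] at this
    norm_num [Nat.factorial] at this
  · apply hHtop
    exact eq_top_of_card_eq _ (by rw [hHcard, hG.2])

theorem five_data (hG : Cfsg.IsM11 G) (Q : Sylow 5 G) :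
    Nat.card (normalizer ((Q : Subgroup G) : Set G)) = 20 ∧
      Exceptional.SelfCent (Q : Subgroup G) ∧
      (Q : Subgroup G).relIndex (normalizer ((Q : Subgroup G) : Set G)) = 4 := by
  haveI := hG.1
  have hQ := card_sylow5_eq hG Q
  have hN := Basic.card_normalizer_mul Q
  rw [five_data_aux hG, hG.2] at hN
  have hN' : Nat.card (normalizer ((Q : Subgroup G) : Set G)) = 20 := by omega
  have hC : centralizer ((Q : Subgroup G) : Set G) = (Q : Subgroup G) := by
    haveI : IsCyclic (Q : Subgroup G) := isCyclic_of_prime_card hQ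
    exact (eq_of_le_of_card_ge (le_centralizer _) (by rw [card_five_centralizer hG Q, hQ])).symm
  refine ⟨hN', ⟨Basic.sylow_ne_bot (by rw [hG.2]; norm_num) Q, fun x hx hx1 => ?_⟩, ?_⟩
  · refine Eq.trans ?_ hC
    rw [← centralizer_closure {x}, ← zpowers_eq_closure, Centralize.sylow_le_iff_mem hx hx1 hQ]
  · have h := relIndex_mul_relIndex ⊥ (Q : Subgroup G) (normalizer ((Q : Subgroup G) : Set G)) bot_le
      le_normalizer
    rw [relIndex_bot_left, relIndex_bot_left, hQ, hN'] at h
    omega

end Cfsg.Agent.M11Order
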