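import Mathlib
import Cfsg.Agent.Lib.Perm.Degree11Simple
import Cfsg.Agent.Lib.M11Order.FiveCentralizer

/-!
# The groups of order 7920 on eleven points are conjugate
-/

set_option linter.style.haveILetI false

namespace Cfsg.Agent.M11Order.Eleven

open Cfsg.Agent.Perm.Degree11 Cfsg.Agent.SmallSimple
open scoped IsMulCommutative

local notation "P11" => Equiv.Perm (ZMod 11)

local instance factPrimeEleven10 : Fact (Nat.Prime 11) := ⟨by norm_num⟩
local instance factPrimeFive10 : Fact (Nat.Prime 5) := ⟨by norm_num⟩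
local instance factPrimeTwo10 : Fact (Nat.Prime 2) := ⟨Nat.prime_two⟩

/-- Three, as a unit. -/
def three : (ZMod 11)ˣ := ⟨3, 4, by decide, by decide⟩

/-- The map with `T (3 z) = 9 * T z`, `T 1 = a` and `T 2 = b`. -/
def T (a b : ZMod 11) (z : ZMod 11) : ZMod 11 :=
  [0, a, b, 9 * a, 5 * a, 3 * a, 9 * b, 4 * b, 5 * b, 4 * a, 3 * b].getD z.val 0

theorem T_spec : ∀ a b z : ZMod 11, T a b (3 * z) = 9 * T a b z := by decide +kernel

theorem exists_scalar : ∀ a : ZMod 11, a ≠ 0 →
    ∃ s : ZMod 11, s ^ 5 = 1 ∧ (s * a = 1 ∨ s * a = 2) := by decide +kernel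

theorem shift_apply (z : ZMod 11) : shift z = z + 1 := rfl

/-- The candidates surviving the test. -/
theorem candidates : ∀ a ∈ ([1, 2] : List (ZMod 11)), ∀ b : ZMod 11,
    (∀ y z, T a b y = T a b z → y = z) → (a = 1 ∧ (b = 6 ∨ b = 10)) ∨
      ∃ i : Fin 11, ∃ j : Fin 11,
        (Finset.univ.filter fun z : ZMod 11 =>
          T a b (T a b (z + (i : ℕ)) + (j : ℕ)) ≠ z).card ∈ Finset.Icc 1 7 := by
  decide +kernel

theorem exists_w {K : Subgroup P11} (ht : shift ∈ K) (hK : Nat.card K = 7920) :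
    mu three ∈ K ∧ ∃ w ∈ K, ∃ b : ZMod 11, (b = 6 ∨ b = 10) ∧ ∀ z, w z = T 1 b z := by
  classical
  haveI := isSimpleGroup_of_card_7920 ht hK
  have hG : Cfsg.IsM11 K := ⟨inferInstance, hK⟩
  have hA : ¬ alternatingGroup (ZMod 11) ≤ K := fun hle => by
    have := Nat.le_of_dvd Nat.card_pos (Subgroup.card_dvd_of_le hle)
    rw [card_A11, hK] at this
    omega
  obtain ⟨hS, -⟩ := main ht (not_solvable_of_card ht (by omega)) hA
  obtain ⟨hsq, -⟩ := card_normalizer hS.le_alt ht hS.card_ne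
  have h3 : (three ^ 5 : (ZMod 11)ˣ) = 1 := by decide +kernel
  have hm : mu three ∈ K := hsq three h3
  refine ⟨hm, ?_⟩
  let m : K := ⟨mu three, hm⟩
  have hmo : orderOf m = 5 := by
    refine orderOf_eq_prime (Subtype.ext ?_) fun h => ?_
    · show mu three ^ 5 = 1
      rw [← map_pow, h3, map_one]
    · have h' : mu three = 1 := congrArg Subtype.val h
      have := Equiv.congr_fun h' 1
      rw [mu_apply] at this
      revert this
      decide +kernel
  have hm1 : m ≠ 1 := fun e => by rw [e, orderOf_one] at hmo; norm_num at hmo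
  obtain ⟨Q, hQ⟩ : ∃ Q : Sylow 5 K, Subgroup.zpowers m ≤ (Q : Subgroup K) :=
    (IsPGroup.of_card (n := 1) (by rw [Nat.card_zpowers, hmo, pow_one])).exists_le_sylow
  obtain ⟨hN, hQs, -⟩ := five_data hG Q
  have hQc := card_sylow5_eq hG Q
  haveI : IsCyclic (Q : Subgroup K) := isCyclic_of_prime_card hQc
  set φ := (Q : Subgroup K).normalizerMonoidHom with hφ
  -- conjugation induces the whole automorphism group
  have hker : Nat.card φ.ker = 5 := by
    rw [hφ, Subgroup.normalizerMonoidHom_ker]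
    rw [Nat.card_congr (Subgroup.subgroupOfEquivOfLe (Subgroup.centralizer_le_normalizer _)).toEquiv,
      card_five_centralizer hG Q]
  have hrange : φ.range = ⊤ := by
    refine Subgroup.eq_top_of_card_eq _ ?_
    have h1 := φ.ker.card_mul_index
    rw [Subgroup.index_ker, hker, hN] at h1
    rw [IsCyclic.card_mulAut, hQc, Nat.totient_prime (by norm_num : Nat.Prime 5)]
    omega
  have hbij : Function.Bijective (powMonoidHom 2 : (Q : Subgroup K) →* (Q : Subgroup K)) := by
    exact (powCoprime (n := 2) (by rw [hQc]; norm_num : (Nat.card (Q : Subgroup K)).Coprime 2)).bijective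
  obtain ⟨g, hg⟩ : MulEquiv.ofBijective _ hbij ∈ φ.range := hrange ▸ Subgroup.mem_top _
  have hgm : (g : K) * m * (g : K)⁻¹ = m ^ 2 := by
    have h := DFunLike.congr_fun hg ⟨m, hQ (Subgroup.mem_zpowers m)⟩
    exact congrArg Subtype.val h
  set v : P11 := ((g : K) : P11) with hv
  have hv' : v * mu three = mu three ^ 2 * v :=
    mul_inv_eq_iff_eq_mul.1 (congrArg Subtype.val hgm)
  have hspec : ∀ z, v (3 * z) = 9 * v z := by
    intro z
    have h := Equiv.congr_fun hv' z
    rw [Equiv.Perm.mul_apply, Equiv.Perm.mul_apply, ← map_pow, mu_apply, mu_apply] at h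
    exact h.trans (by rw [show ((three ^ 2 : (ZMod 11)ˣ) : ZMod 11) = 9 by decide +kernel])
  have hv0 : v 0 = 0 := by
    have h := hspec 0
    rw [mul_zero] at h
    have key : ∀ y : ZMod 11, y = 9 * y → y = 0 := by decide +kernel
    exact key _ h
  have hv1 : v 1 ≠ 0 := fun h => absurd (v.injective (h.trans hv0.symm)) (by decide)
  obtain ⟨s, hs5, hs⟩ := exists_scalar (v 1) hv1
  let u : (ZMod 11)ˣ := ⟨s, s ^ 4, by rw [← pow_succ']; exact hs5, by rw [← pow_succ]; exact hs5⟩
  have hu : u ^ 5 = 1 := Units.ext (by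
    rw [Units.val_pow_eq_pow_val, Units.val_one]
    exact hs5)
  set w : P11 := mu u * v with hw
  have hwK : w ∈ K := K.mul_mem (hsq u hu) (g : K).2
  have hwz : ∀ z, w z = s * v z := fun z => by rw [hw, Equiv.Perm.mul_apply, mu_apply]
  have hwspec : ∀ z, w (3 * z) = 9 * w z := fun z => by rw [hwz, hwz, hspec]; ring
  have hwT : ∀ z, w z = T (w 1) (w 2) z := by
    have h0 : w 0 = 0 := by rw [hwz, hv0, mul_zero]
    have key : ∀ z : ZMod 11, z = 0 ∨ ∃ i : Fin 5, z = 3 ^ (i : ℕ) * 1 ∨ z = 3 ^ (i : ℕ) * 2 := by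
      decide +kernel
    have hpow : ∀ (i : ℕ) (x : ZMod 11), w x = T (w 1) (w 2) x →
        w (3 ^ i * x) = T (w 1) (w 2) (3 ^ i * x) := by
      intro i x hx
      induction i with
      | zero => simpa using hx
      | succ i ih => rw [pow_succ', mul_assoc, hwspec, T_spec, ih]
    intro z
    rcases key z with rfl | ⟨i, rfl | rfl⟩
    · rw [h0]; rfl
    · exact hpow _ _ rfl
    · exact hpow _ _ rfl
  have hw1 : w 1 ∈ ([1, 2] : List (ZMod 11)) := by
    rw [hwz]
    rcases hs with h | h <;> rw [h] <;> simp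
  have hinj : ∀ y z, T (w 1) (w 2) y = T (w 1) (w 2) z → y = z := fun y z h =>
    w.injective ((hwT y).trans (h.trans (hwT z).symm))
  rcases candidates _ hw1 _ hinj with ⟨ha, hb⟩ | ⟨i, j, hij⟩
  · exact ⟨w, hwK, w 2, hb, fun z => by rw [← ha]; exact hwT z⟩
  -- a non-trivial element with too many fixed points
  exfalso
  set e : P11 := w * shift ^ (j : ℕ) * (w * shift ^ (i : ℕ)) with he
  have hez : ∀ z, e z = T (w 1) (w 2) (T (w 1) (w 2) (z + (i : ℕ)) + (j : ℕ)) := fun z => by
    rw [← hwT, ← hwT]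
    show w ((shift ^ (j : ℕ)) (w ((shift ^ (i : ℕ)) z))) = _
    rw [shift_pow, shift_pow]
  have heK : e ∈ K := K.mul_mem (K.mul_mem hwK (K.pow_mem ht _)) (K.mul_mem hwK (K.pow_mem ht _))
  have hsupp : e.support = Finset.univ.filter fun z : ZMod 11 =>
      T (w 1) (w 2) (T (w 1) (w 2) (z + (i : ℕ)) + (j : ℕ)) ≠ z := by
    ext z
    rw [Equiv.Perm.mem_support, hez, Finset.mem_filter]
    simp
  rw [← hsupp, Finset.mem_Icc] at hij
  have h1 := hS.eq_one_of_fix heK hij.2
  rw [h1, Equiv.Perm.support_one] at hij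
  simp at hij

theorem order_facts : ∀ b ∈ ([6, 10] : List (ZMod 11)),
    (∀ z, T 1 b (T 1 b (T 1 b (T 1 b z))) = z) ∧ T 1 b (T 1 b 2) ≠ 2 ∧
      ∀ c d : ZMod 11, c * 0 + d = 0 → c * 1 + d = 1 → c * 2 + d ≠ b := by
  decide +kernel

/-- The group generated by the translation, the multiplication by three and `w`. -/
theorem closure_eq {K : Subgroup P11} (ht : shift ∈ K) (hK : Nat.card K = 7920) (hm : mu three ∈ K)
    {w : P11} (hw : w ∈ K) {b : ZMod 11} (hb : b = 6 ∨ b = 10) (hwT : ∀ z, w z = T 1 b z) :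
    Subgroup.closure {shift, mu three, w} = K := by
  classical
  set H := Subgroup.closure {shift, mu three, w} with hH
  have hle : H ≤ K := (Subgroup.closure_le K).2 (by
    rintro x (rfl | rfl | rfl) <;> assumption)
  refine Subgroup.eq_of_le_of_card_ge hle ?_
  have htH : shift ∈ H := Subgroup.subset_closure (by simp)
  have hwH : w ∈ H := Subgroup.subset_closure (by simp)
  haveI := isSimpleGroup_of_card_7920 ht hK
  have hA : ¬ alternatingGroup (ZMod 11) ≤ K := fun hle => by
    have := Nat.le_of_dvd Nat.card_pos (Subgroup.card_dvd_of_le hle)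
    rw [card_A11, hK] at this
    omega
  obtain ⟨hKs, -⟩ := main ht (not_solvable_of_card ht (by omega)) hA
  obtain ⟨hq, hq2, haff⟩ := order_facts b (by rcases hb with rfl | rfl <;> simp)
  have hw0 : w 0 = 0 := by rw [hwT]; rfl
  have hw1 : w 1 = 1 := by rw [hwT]; rfl
  have hw2 : w 2 = b := by rw [hwT]; rfl
  have hne11 : Nat.card H ≠ 11 := fun h11 => by
    rw [zpowers_of_card_eleven htH h11] at hwH
    obtain ⟨n, rfl⟩ := (isOfFinOrder_of_finite shift).mem_powers_iff_mem_zpowers.2 hwH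
    rw [shift_pow] at hw0 hw2
    rw [zero_add] at hw0
    rw [hw0, add_zero] at hw2
    rcases hb with rfl | rfl <;> revert hw2 <;> decide
  have hHs : Cfsg.Agent.Perm.Degree11.Small H := ⟨hle.trans hKs.le_alt, htH, hne11, fun h => hA (h.trans hle)⟩
  obtain ⟨n, hn, hcard, -⟩ := hHs.card_cases
  simp only [List.mem_cons, List.not_mem_nil, or_false] at hn
  rcases hn with rfl | rfl | rfl
  · exfalso
    obtain ⟨-, R, hR, hNR⟩ := card_normalizer hHs.le_alt htH hne11
    have hgN : (⟨w, hwH⟩ : H) ∈ Subgroup.normalizer ((R : Subgroup H) : Set H) := by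
      rw [Subgroup.eq_top_of_card_eq _ (hNR.trans (by rw [hcard, mul_one]))]
      trivial
    have hmem := (Subgroup.mem_normalizer_iff.1 hgN ⟨shift, htH⟩).1 (by
      rw [hR]; exact Subgroup.mem_zpowers _)
    rw [hR, mem_zpowers_coe] at hmem
    obtain ⟨c, d, -, hcd⟩ := exists_affine htH hwH hmem
    exact haff c d ((hcd 0).symm.trans hw0) ((hcd 1).symm.trans hw1) ((hcd 2).symm.trans hw2)
  · exfalso
    have hc660 : Nat.card H = 660 := by rw [hcard]
    haveI := isSimpleGroup_of_card hHs hc660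
    let w' : H := ⟨w, hwH⟩
    have hw4 : w' ^ 2 ^ (1 + 1) = 1 := by
      refine Subtype.ext (Equiv.ext fun z => ?_)
      show (w ^ 4) z = z
      rw [show (4 : ℕ) = 1 + 1 + 1 + 1 from rfl, pow_succ, pow_succ, pow_succ, pow_one,
        Equiv.Perm.mul_apply, Equiv.Perm.mul_apply, Equiv.Perm.mul_apply, hwT, hwT, hwT, hwT, hq]
    have hw2' : ¬ w' ^ 2 ^ 1 = 1 := fun h => by
      have h' : w ^ 2 = 1 := congrArg Subtype.val h
      have h'' := Equiv.congr_fun h' 2
      rw [sq, Equiv.Perm.mul_apply, hwT, hwT] at h''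
      exact hq2 h''
    have ho : orderOf w' = 4 := orderOf_eq_prime_pow hw2' hw4
    obtain ⟨R, hR⟩ : ∃ R : Sylow 2 H, Subgroup.zpowers w' ≤ (R : Subgroup H) :=
      (IsPGroup.of_card (n := 2) (by rw [Nat.card_zpowers, ho]; norm_num)).exists_le_sylow
    have hR4 : Nat.card (R : Subgroup H) = 4 :=
      Basic.card_sylow_eq_pow (a := 2) (m := 165) (by rw [hc660]; norm_num) (by norm_num) R
    have hcyc : IsCyclic (R : Subgroup H) := by
      rw [← Subgroup.eq_of_le_of_card_ge hR (by rw [hR4, Nat.card_zpowers, ho])]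
      infer_instance
    refine Basic.not_normalizer_le_centralizer (Basic.not_comm_of_not_prime ?_) ?_ R
      (hcyc.normalizer_le_centralizer ?_)
    · rw [hc660]; norm_num
    · rw [hc660]; norm_num
    · rw [hc660, Nat.minFac_eq_two_iff]; norm_num
  · rw [hK, hcard]

/-- Groups of order 7920 on eleven points with the same second value of `w` are equal. -/
theorem eq_of_same {K K' : Subgroup P11} (ht : shift ∈ K) (hK : Nat.card K = 7920) (ht' : shift ∈ K')
    (hK' : Nat.card K' = 7920) (hm : mu three ∈ K) (hm' : mu three ∈ K') {w w' : P11} (hw : w ∈ K)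
    (hw' : w' ∈ K') {b : ZMod 11} (hb : b = 6 ∨ b = 10) (hwT : ∀ z, w z = T 1 b z)
    (hwT' : ∀ z, w' z = T 1 b z) : K = K' := by
  rw [← closure_eq ht hK hm hw hb hwT, ← closure_eq ht' hK' hm' hw' hb hwT',
    show w = w' from Equiv.ext fun z => (hwT z).trans (hwT' z).symm]

theorem flip_facts : ∀ z : ZMod 11, 3 * -(T 1 6 (-z)) = T 1 10 z := by decide +kernel

theorem equiv_of_six_ten {K K' : Subgroup P11} (ht : shift ∈ K) (hK : Nat.card K = 7920)
    (ht' : shift ∈ K') (hK' : Nat.card K' = 7920) (hm : mu three ∈ K) (hm' : mu three ∈ K')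
    {w w' : P11} (hw : w ∈ K) (hw' : w' ∈ K') (hwT : ∀ z, w z = T 1 6 z)
    (hwT' : ∀ z, w' z = T 1 10 z) : Nonempty (K ≃* K') := by
  set c : P11 := mu (-1) with hc
  have hcc : c * c = 1 := by rw [hc, ← map_mul]; simp
  have hci : c⁻¹ = c := inv_eq_of_mul_eq_one_right hcc
  have hcz : ∀ z, c z = -z := fun z => by rw [hc, mu_apply]; simp
  set L := K.map (MulAut.conj c).toMonoidHom with hL
  have hmemL : ∀ x ∈ K, c * x * c ∈ L := fun x hx => ⟨x, hx, by simp [MulAut.conj_apply, hci]⟩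
  have htL : shift ∈ L := by
    convert hmemL shift⁻¹ (K.inv_mem ht) using 1
    refine Equiv.ext fun z => ?_
    rw [Equiv.Perm.mul_apply, Equiv.Perm.mul_apply, hcz, hcz, shift_apply]
    have h : shift⁻¹ (-z) = -z - 1 := by
      rw [Equiv.Perm.inv_eq_iff_eq, shift_apply, sub_add_cancel]
    rw [h]
    ring
  have hmL : mu three ∈ L := by
    convert hmemL _ hm using 1
    refine Equiv.ext fun z => ?_
    rw [Equiv.Perm.mul_apply, Equiv.Perm.mul_apply, hcz, hcz, mu_apply, mu_apply]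
    ring
  have hwL : mu three * (c * w * c) ∈ L := L.mul_mem hmL (hmemL w hw)
  have hLc : Nat.card L = 7920 := by
    rw [hL, Subgroup.card_map_of_injective (MulAut.conj c).injective, hK]
  have heq : L = K' := eq_of_same htL hLc ht' hK' hmL hm' hwL hw' (Or.inr rfl) (fun z => by
    rw [Equiv.Perm.mul_apply, Equiv.Perm.mul_apply, Equiv.Perm.mul_apply, hcz, hcz, mu_apply, hwT]
    exact flip_facts z) hwT'
  exact ⟨(K.equivMapOfInjective _ (MulAut.conj c).injective).trans (MulEquiv.subgroupCongr heq)⟩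

/-- All of them are isomorphic. -/
theorem equiv {K K' : Subgroup P11} (ht : shift ∈ K) (hK : Nat.card K = 7920) (ht' : shift ∈ K')
    (hK' : Nat.card K' = 7920) : Nonempty (K ≃* K') := by
  obtain ⟨hm, w, hw, b, hb, hwT⟩ := exists_w ht hK
  obtain ⟨hm', w', hw', b', hb', hwT'⟩ := exists_w ht' hK'
  rcases hb with rfl | rfl <;> rcases hb' with rfl | rfl
  · exact ⟨MulEquiv.subgroupCongr (eq_of_same ht hK ht' hK' hm hm' hw hw' (Or.inl rfl) hwT hwT')⟩
  · exact equiv_of_six_ten ht hK ht' hK' hm hm' hw hw' hwT hwT'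
  · exact (equiv_of_six_ten ht' hK' ht hK hm' hm hw' hw hwT' hwT).map MulEquiv.symm
  · exact ⟨MulEquiv.subgroupCongr (eq_of_same ht hK ht' hK' hm hm' hw hw' (Or.inr rfl) hwT hwT')⟩

end Cfsg.Agent.M11Order.Eleven
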