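import Mathlib

/-!
# Arithmetic of the character values at an involution for order 7920
-/

namespace Cfsg.Agent.M11Order.InvolutionData

/-- The possible signed degrees congruent to their sign modulo five. -/
theorem candidates : ∀ d : ℕ, d ∈ Nat.divisors 7920 → d < 89 → 1 < d →
    d ∉ ([4, 9, 24, 36] : List ℕ) → ∀ b ∈ ([1, -1] : List ℤ), ((d : ℤ) - b) % 5 = 0 →
    (b, d) ∈ ([(1, 6), (1, 11), (1, 16), (1, 66), (-1, 44)] : List (ℤ × ℕ)) := by
  decide +kernel

theorem small_divisors : ∀ d : ℕ, d ∈ Nat.divisors 7920 → d < 89 → ∀ b ∈ ([2, -2] : List ℤ),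
    1 + b * (d : ℤ) ≠ 0 := by
  decide +kernel

/-- The signed degrees. -/
theorem degrees : ∀ a ∈ ([(1, 6), (1, 11), (1, 16), (1, 66), (-1, 44)] : List (ℤ × ℕ)),
    ∀ b ∈ ([(1, 6), (1, 11), (1, 16), (1, 66), (-1, 44)] : List (ℤ × ℕ)),
    ∀ c ∈ ([(1, 6), (1, 11), (1, 16), (1, 66), (-1, 44)] : List (ℤ × ℕ)),
    ∀ e ∈ ([(1, 6), (1, 11), (1, 16), (1, 66), (-1, 44)] : List (ℤ × ℕ)),
    1 + (a.1 * a.2 + b.1 * b.2 + c.1 * c.2 + e.1 * e.2) = 0 →
    1 + (a.2 ^ 2 + b.2 ^ 2 + c.2 ^ 2 + e.2 ^ 2) ≤ 7920 →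
    List.Perm [a, b, c, e] [(1, 11), (1, 16), (1, 16), (-1, 44)] := by
  decide +kernel

/-- The possible orders of the centralizer. -/
def cs : List ℤ := [1, 2, 3, 4, 5, 6, 8, 9, 10, 12, 15, 16, 18, 20, 24, 30, 36, 40, 45, 48, 60, 72,
  80, 90, 120, 144]

theorem mem_cs : ∀ c : ℕ, c ∈ Nat.divisors 7920 → c ≤ 154 → c % 11 ≠ 0 → (c : ℤ) ∈ cs := by
  decide +kernel

/-- The check on a triple of values. -/
def check (w a b : ℤ) : Bool :=
  let z := 1 + w + a + b
  let R := 7920 + 720 * (w * w) + 495 * (a * a + b * b) - 180 * (z * z)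
  let S := 1 + w * w + a * a + b * b + z * z
  decide (44 < z) || decide (z < -44) ||
    ((decide (R ≠ 0) || decide (2570 ≤ S)) &&
      ((decide (154 < S) || decide (R % 5 ≠ 0)) ||
        cs.all fun c => decide (5 * (c * c) ≠ R) || decide (c < S) || decide (c = 48)))

/-- The check on all triples. -/
def checkAll : Bool :=
  (List.range 23).all fun w => (List.range 33).all fun a => (List.range 33).all fun b =>
    check ((w : ℤ) - 11) ((a : ℤ) - 16) ((b : ℤ) - 16)

theorem checkAll_eq : checkAll = true := by decide +kernel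

theorem check_eq {w a b : ℤ} (hw : |w| ≤ 11) (ha : |a| ≤ 16) (hb : |b| ≤ 16) :
    check w a b = true := by
  rw [abs_le] at hw ha hb
  have h := checkAll_eq
  simp only [checkAll, List.all_eq_true, List.mem_range] at h
  have h' := h (w + 11).toNat (by omega) (a + 16).toNat (by omega) (b + 16).toNat (by omega)
  rwa [show (((w + 11).toNat : ℕ) : ℤ) - 11 = w by omega,
    show (((a + 16).toNat : ℕ) : ℤ) - 16 = a by omega,
    show (((b + 16).toNat : ℕ) : ℤ) - 16 = b by omega] at h'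

end Cfsg.Agent.M11Order.InvolutionData
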