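import Mathlib
import Cfsg.Agent.Lib.M11Order.FiveCentralizer
import Cfsg.Agent.Lib.M11Order.Orbit
import Cfsg.Agent.Lib.M11Order.InvolutionData

/-!
# The centralisers of the involutions of a simple group of order 7920
-/

set_option linter.style.haveILetI false

namespace Cfsg.Agent.M11Order

open Subgroup MulAction
open Cfsg.Agent.SmallSimple Cfsg.Agent.Characters Cfsg.Agent.OddChar
open scoped BigOperators

universe u

local instance factPrimeTwo4 : Fact (Nat.Prime 2) := ⟨Nat.prime_two⟩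
local instance factPrimeFive4 : Fact (Nat.Prime 5) := ⟨by norm_num⟩
local instance factPrimeEleven4 : Fact (Nat.Prime 11) := ⟨by norm_num⟩

variable {G : Type u} [Group G]

theorem coeff_arith : ∀ d ∈ ([4, 9, 24, 36] : List ℕ), ∀ a ∈ ([-2, -1, 0, 1, 2] : List ℤ),
    ∀ b ∈ ([-2, -1, 0, 1, 2] : List ℤ), ((d : ℤ) + 5 * (a + b)) % 11 = 0 →
    ∃ c ∈ [a, b], c * c = 4 ∧ ¬ (1 + c * (d : ℤ)).natAbs ∣ 7920 := by
  decide +kernel

/-- Four degrees are excluded by the characters attached to the Sylow 11-subgroups. -/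
theorem degree_ne [Fintype G] (hG : Cfsg.IsM11 G) {χ₀ : Cfsg.IrrCharacter G}
    (hne : χ₀ ≠ trivIrr G) {d : ℕ} (hd : (χ₀ : G → ℂ) 1 = (d : ℂ)) :
    d ∉ ([4, 9, 24, 36] : List ℕ) := by
  classical
  haveI := hG.1
  intro hmem
  have P : Sylow 11 G := default
  obtain ⟨-, -, hP, he⟩ := eleven_data hG P
  haveI := Fintype.ofFinite (Cfsg.IrrCharacter G)
  haveI : Finite ((P : Subgroup G) →* ℂˣ) := Nat.finite_of_card_ne_zero
    (by rw [Exceptional.card_dual hP]; exact Nat.card_pos.ne')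
  haveI := Fintype.ofFinite ((P : Subgroup G) →* ℂˣ)
  obtain ⟨r, hr1, -, hsum⟩ := Exceptional.exists_reps hP (t := 2) he
    (by rw [card_sylow11_eq hG P])
  choose deg hdeg0 hdeg using fun χ : Cfsg.IrrCharacter G => irr_one_pos χ.2
  have hd0 : deg χ₀ = d := by exact_mod_cast (hdeg χ₀).symm.trans hd
  set f : Fin 2 → Cfsg.IrrCharacter G → ℤ :=
    fun i => Exceptional.a (P : Subgroup G) (r i) with hf
  have hkey : ∀ i, f i χ₀ * f i χ₀ ≤ 5 ∧
      (f i χ₀ * f i χ₀ = 4 → (1 + f i χ₀ * (d : ℤ)).natAbs ∣ 7920) := by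
    intro i
    have hgen := Exceptional.A_isGen (G := G) (P := (P : Subgroup G)) (r i)
    have hsq : ∑ χ, f i χ ^ 2 = 6 := by
      refine Lattice.sum_sq_of_norm hgen ?_
      rw [Exceptional.inner_A_eq hP (hr1 i) (hr1 i),
        if_pos ((Exceptional.sameOrbit_equivalence _).refl (r i)), he]
      norm_num
    have hdz : ∑ χ, f i χ * (deg χ : ℤ) = 0 := by
      have := Lattice.apply_eq_sum hgen 1
      rw [Exceptional.A_one] at this
      simp only [hdeg] at this
      exact_mod_cast this.symm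
    have htriv : f i (trivIrr G) = 1 :=
      Lattice.coeff_eq_of_inner (by simpa using Exceptional.inner_A_one (hr1 i))
    have hdtriv : deg (trivIrr G) = 1 := by
      have h := hdeg (trivIrr G)
      simp only [trivIrr_coe] at h
      exact_mod_cast h.symm
    set T := (Finset.univ.erase (trivIrr G)).erase χ₀ with hT
    have hmemT : χ₀ ∈ Finset.univ.erase (trivIrr G) := Finset.mem_erase.2 ⟨hne, Finset.mem_univ _⟩
    have hsplit : ∀ g : Cfsg.IrrCharacter G → ℤ,
        ∑ χ, g χ = g (trivIrr G) + (g χ₀ + ∑ χ ∈ T, g χ) := fun g => by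
      rw [hT, Finset.add_sum_erase _ _ hmemT, Finset.add_sum_erase _ _ (Finset.mem_univ _)]
    rw [hsplit, htriv] at hsq
    rw [hsplit, htriv, hdtriv, hd0] at hdz
    have hT0 : 0 ≤ ∑ χ ∈ T, f i χ ^ 2 := Finset.sum_nonneg fun χ _ => sq_nonneg _
    refine ⟨by nlinarith, fun h4 => ?_⟩
    have hT1 : ∑ χ ∈ T, f i χ ^ 2 = 1 := by nlinarith
    obtain ⟨χ₁, hχ₁, hne0⟩ := Finset.exists_ne_zero_of_sum_ne_zero (s := T)
      (f := fun χ => f i χ ^ 2) (by rw [hT1]; norm_num)
    have hrest := Finset.add_sum_erase T (fun χ => f i χ ^ 2) hχ₁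
    rw [hT1] at hrest
    have h0 : 0 ≤ ∑ χ ∈ T.erase χ₁, f i χ ^ 2 := Finset.sum_nonneg fun χ _ => sq_nonneg _
    have hpos : 1 ≤ f i χ₁ ^ 2 := Int.add_one_le_iff.2 (lt_of_le_of_ne (sq_nonneg _) (Ne.symm hne0))
    have hzero : ∀ χ ∈ T, χ ≠ χ₁ → f i χ = 0 := fun χ hχ hχne => by
      have := (Finset.sum_eq_zero_iff_of_nonneg (fun χ _ => sq_nonneg (f i χ))).1
        (by linarith : ∑ χ ∈ T.erase χ₁, f i χ ^ 2 = 0) χ
        (Finset.mem_erase.2 ⟨hχne, hχ⟩)
      exact sq_eq_zero_iff.1 this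
    have hsum1 : ∑ χ ∈ T, f i χ * (deg χ : ℤ) = f i χ₁ * (deg χ₁ : ℤ) :=
      Finset.sum_eq_single χ₁ (fun χ hχ hχne => by rw [hzero χ hχ hχne, zero_mul])
        (fun h => absurd hχ₁ h)
    rw [hsum1] at hdz
    have hf1 : f i χ₁ = 1 ∨ f i χ₁ = -1 := sq_eq_one_iff.1 (by
      linarith)
    have hval : (1 + f i χ₀ * (d : ℤ)).natAbs = deg χ₁ := by
      rcases hf1 with h | h <;> rw [h] at hdz <;> push_cast at hdz <;> omega
    rw [hval]
    obtain ⟨n, hn1, -, hn2⟩ := irr_degree_dvd_card χ₁.2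
    have : deg χ₁ = n := by exact_mod_cast (hdeg χ₁).symm.trans hn1
    rw [← hG.2, this]
    exact hn2
  have hin : ∀ a : ℤ, a * a ≤ 5 → a ∈ ([-2, -1, 0, 1, 2] : List ℤ) := fun a ha => by
    have h1 : -3 < a := by nlinarith
    have h2 : a < 3 := by nlinarith
    interval_cases a <;> simp
  have hc := Exceptional.degree_congr hP χ₀ hd
  rw [hsum χ₀, Fin.sum_univ_two, card_sylow11_eq hG P] at hc
  obtain ⟨c, hc', hc4, hnd⟩ := coeff_arith d hmem (f 0 χ₀) (hin _ (hkey 0).1) (f 1 χ₀)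
    (hin _ (hkey 1).1) (Int.emod_eq_zero_of_dvd (by exact_mod_cast hc))
  simp only [List.mem_cons, List.not_mem_nil, or_false] at hc'
  rcases hc' with rfl | rfl
  · exact hnd ((hkey 0).2 hc4)
  · exact hnd ((hkey 1).2 hc4)

theorem perm_four {α : Type*} {a b c d : α} :
    ({a, b, c, d} : Multiset α) = ↑[a, b, c, d] := rfl

/-- The values at a class of involutions of which `k` invert a given element of order five. -/
theorem value_data [Fintype G] (hG : Cfsg.IsM11 G) (Q : Sylow 5 G) {x : G} (hx : orderOf x = 2)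
    {k : ℕ}
    (hk : ∀ y ∈ (Q : Subgroup G), y ≠ 1 →
      Nat.card {u : G // IsConj x u ∧ u * y * u⁻¹ = y⁻¹} = k) :
    ∃ w a b : ℤ, |w| ≤ 11 ∧ |a| ≤ 16 ∧ |b| ≤ 16 ∧ |1 + w + a + b| ≤ 44 ∧
      (k : ℤ) * (Nat.card (centralizer ({x} : Set G)) : ℤ) ^ 2 =
        7920 + 720 * (w * w) + 495 * (a * a + b * b) - 180 * ((1 + w + a + b) * (1 + w + a + b)) ∧
      1 + w * w + a * a + b * b + (1 + w + a + b) * (1 + w + a + b) ≤
        (Nat.card (centralizer ({x} : Set G)) : ℤ) := by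
  haveI := hG.1
  obtain ⟨-, hQ, he⟩ := five_data hG Q
  obtain ⟨s, hsq, hdeg, hsqd, hval, heq, hbound, hchar, hmem⟩ :=
    Orbit.data (nonab hG) hQ he (by rw [card_sylow5_eq hG Q])
      (by rw [card_sylow5_eq hG Q]; decide) hx hk
  rw [hG.2] at hsqd heq
  rw [card_sylow5_eq hG Q] at hmem
  -- each coefficient is a sign
  have hb : ∀ w ∈ s, w.1 * w.1 = 1 ∧ (w.1, w.2.1) ∈
      ([(1, 6), (1, 11), (1, 16), (1, 66), (-1, 44)] : List (ℤ × ℕ)) := by
    intro w hw
    obtain ⟨t, rfl⟩ := Multiset.exists_cons_of_mem hw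
    obtain ⟨hw0, hw1, hwd, hwc, -⟩ := hmem w hw
    have hlt : w.2.1 < 89 := by
      simp only [Multiset.map_cons, Multiset.sum_cons] at hsqd
      by_contra h
      push Not at h
      have := Nat.mul_le_mul h h
      rw [pow_two] at hsqd
      nlinarith [Nat.zero_le (t.map fun w => w.2.1 ^ 2).sum]
    have hdiv : w.2.1 ∈ Nat.divisors 7920 := Nat.mem_divisors.2 ⟨hG.2 ▸ hwd, by norm_num⟩
    have htn : 0 ≤ (t.map fun w => w.1 ^ 2).sum :=
      Multiset.sum_nonneg fun a ha => by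
        obtain ⟨v, -, rfl⟩ := Multiset.mem_map.1 ha
        exact sq_nonneg _
    simp only [Multiset.map_cons, Multiset.sum_cons] at hsq
    have hle : w.1 * w.1 ≤ 4 := by push_cast at hsq; nlinarith
    have h1 : -3 < w.1 := by nlinarith
    have h2 : w.1 < 3 := by nlinarith
    have hsing : w.1 = 2 ∨ w.1 = -2 → False := by
      intro h
      have ht0 : t = 0 := by
        by_contra ht
        obtain ⟨v, hv⟩ := Multiset.exists_mem_of_ne_zero ht
        obtain ⟨t', rfl⟩ := Multiset.exists_cons_of_mem hv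
        have hv0 := (hmem v (Multiset.mem_cons_of_mem hv)).1
        have hv1 : 1 ≤ v.1 ^ 2 :=
          Int.add_one_le_iff.2 (lt_of_le_of_ne (sq_nonneg _) (Ne.symm (pow_ne_zero 2 hv0)))
        have ht'n : 0 ≤ (t'.map fun w => w.1 ^ 2).sum :=
          Multiset.sum_nonneg fun a ha => by
            obtain ⟨v, -, rfl⟩ := Multiset.mem_map.1 ha
            exact sq_nonneg _
        simp only [Multiset.map_cons, Multiset.sum_cons] at hsq
        rcases h with h | h <;> rw [h] at hsq <;> push_cast at hsq <;> linarith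
      subst ht0
      simp only [Multiset.map_cons, Multiset.map_zero, Multiset.sum_cons, Multiset.sum_zero,
        add_zero] at hdeg
      exact InvolutionData.small_divisors _ hdiv hlt w.1
        (by rcases h with h | h <;> simp [h]) hdeg
    have hpm : w.1 = 1 ∨ w.1 = -1 := by
      by_contra h
      exact hsing (by omega)
    refine ⟨by rcases hpm with h | h <;> rw [h] <;> norm_num, ?_⟩
    obtain ⟨χ, hχ, hχd⟩ := hchar w hw
    exact InvolutionData.candidates _ hdiv hlt hw1 (degree_ne hG hχ hχd) w.1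
      (by rcases hpm with h | h <;> simp [h]) (Int.emod_eq_zero_of_dvd (by exact_mod_cast hwc))
  -- there are four of them
  have hcard : Multiset.card s = 4 := by
    have h1 : (s.map fun w => w.1 ^ 2) = s.map fun _ => (1 : ℤ) :=
      Multiset.map_congr rfl fun w hw => by rw [sq]; exact (hb w hw).1
    rw [h1, Multiset.map_const', Multiset.sum_replicate] at hsq
    simp only [nsmul_eq_mul, mul_one] at hsq
    exact_mod_cast hsq
  obtain ⟨w1, s1, rfl⟩ : ∃ w t, s = w ::ₘ t := by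
    obtain ⟨w, hw⟩ := Multiset.card_pos_iff_exists_mem.1 (by omega : 0 < Multiset.card s)
    exact ⟨w, Multiset.exists_cons_of_mem hw⟩
  simp only [Multiset.card_cons] at hcard
  obtain ⟨w2, w3, w4, rfl⟩ := Multiset.card_eq_three.1 (by omega : Multiset.card s1 = 3)
  have hperm := InvolutionData.degrees _ (hb w1 (by simp)).2 _ (hb w2 (by simp)).2
    _ (hb w3 (by simp)).2 _ (hb w4 (by simp)).2
    (by simp at hdeg; linarith) (by simp at hsqd; linarith)
  have hmap : (w1 ::ₘ {w2, w3, w4}).map (fun w : ℤ × ℕ × ℤ => (w.1, w.2.1)) =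
      ((1 : ℤ), (11 : ℕ)) ::ₘ (1, 16) ::ₘ (1, 16) ::ₘ (-1, 44) ::ₘ 0 := by
    exact Multiset.coe_eq_coe.2 hperm
  obtain ⟨v1, hv1, h1, hr1⟩ := (Multiset.map_eq_cons _ _ _ _).2 hmap
  obtain ⟨v2, hv2, h2, hr2⟩ := (Multiset.map_eq_cons _ _ _ _).2 hr1
  obtain ⟨v3, hv3, h3, hr3⟩ := (Multiset.map_eq_cons _ _ _ _).2 hr2
  obtain ⟨v4, hv4, h4, hr4⟩ := (Multiset.map_eq_cons _ _ _ _).2 hr3
  have hs : w1 ::ₘ ({w2, w3, w4} : Multiset (ℤ × ℕ × ℤ)) = v1 ::ₘ v2 ::ₘ v3 ::ₘ v4 ::ₘ 0 := by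
    have h0 := Multiset.map_eq_zero.1 hr4
    conv_lhs => rw [← Multiset.cons_erase hv1, ← Multiset.cons_erase hv2, ← Multiset.cons_erase hv3,
      ← Multiset.cons_erase hv4, h0]
  rw [hs] at hmem hbound heq hval
  obtain ⟨e1, f1⟩ := Prod.ext_iff.1 h1
  obtain ⟨e2, f2⟩ := Prod.ext_iff.1 h2
  obtain ⟨e3, f3⟩ := Prod.ext_iff.1 h3
  obtain ⟨e4, f4⟩ := Prod.ext_iff.1 h4
  simp only at e1 e2 e3 e4 f1 f2 f3 f4
  have hz1 := (hmem v1 (by simp)).2.2.2.2
  have hz2 := (hmem v2 (by simp)).2.2.2.2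
  have hz3 := (hmem v3 (by simp)).2.2.2.2
  have hz4 := (hmem v4 (by simp)).2.2.2.2
  simp only [Multiset.map_cons, Multiset.map_zero, Multiset.sum_cons, Multiset.sum_zero, add_zero,
    e1, e2, e3, e4, f1, f2, f3, f4] at hbound heq hval hz1 hz2 hz3 hz4
  have hv : v4.2.2 = 1 + v1.2.2 + v2.2.2 + v3.2.2 := by linarith
  rw [hv] at hbound heq hz4
  refine ⟨v1.2.2, v2.2.2, v3.2.2, by exact_mod_cast hz1, by exact_mod_cast hz2,
    by exact_mod_cast hz3, by exact_mod_cast hz4, ?_, ?_⟩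
  · push_cast at heq
    field_simp at heq
    have : (((k : ℤ) * (Nat.card (centralizer ({x} : Set G)) : ℤ) ^ 2 : ℤ) : ℚ) =
        ((7920 + 720 * (v1.2.2 * v1.2.2) + 495 * (v2.2.2 * v2.2.2 + v3.2.2 * v3.2.2) -
          180 * ((1 + v1.2.2 + v2.2.2 + v3.2.2) * (1 + v1.2.2 + v2.2.2 + v3.2.2)) : ℤ) : ℚ) := by
      push_cast
      linarith
    exact_mod_cast this
  · linarith

/-- The involutions inverting an element of order five: none or five. -/
theorem inverting_count [Finite G] (hG : Cfsg.IsM11 G) (Q : Sylow 5 G) {x : G}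
    (hx : orderOf x = 2) :
    ∃ k : ℕ, (k = 0 ∨ k = 5) ∧ ∀ y ∈ (Q : Subgroup G), y ≠ 1 →
      Nat.card {u : G // IsConj x u ∧ u * y * u⁻¹ = y⁻¹} = k := by
  classical
  haveI := hG.1
  obtain ⟨-, hQ, -⟩ := five_data hG Q
  have hQc := card_sylow5_eq hG Q
  have hall : ∀ u : G, ∀ y ∈ (Q : Subgroup G), y ≠ 1 → u * y * u⁻¹ = y⁻¹ →
      ∀ z ∈ (Q : Subgroup G), u * z * u⁻¹ = z⁻¹ := by
    intro u y hy hy1 hu z hz
    rw [← Centralize.sylow_le_iff_mem hy hy1 hQc] at hz
    obtain ⟨i, rfl⟩ := mem_zpowers_iff.1 hz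
    rw [← conj_zpow, hu, inv_zpow]
  by_cases hex : ∃ u, IsConj x u ∧ ∀ z ∈ (Q : Subgroup G), u * z * u⁻¹ = z⁻¹
  swap
  · refine ⟨0, Or.inl rfl, fun y hy hy1 => ?_⟩
    haveI : IsEmpty {u : G // IsConj x u ∧ u * y * u⁻¹ = y⁻¹} :=
      ⟨fun u => hex ⟨u.1, u.2.1, hall u.1 y hy hy1 u.2.2⟩⟩
    exact Nat.card_of_isEmpty
  obtain ⟨u0, hu0c, hu0⟩ := hex
  refine ⟨5, Or.inr rfl, fun y hy hy1 => ?_⟩
  rw [← hQc]
  have hm1 : ∀ q : (Q : Subgroup G), IsConj x (u0 * (q : G)) := fun q => by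
    -- `q` is a square in `Q`
    set r := (q : G) ^ 3 with hr
    have hr2 : r * r = (q : G) := by
      have h5 : (q : G) ^ 5 = 1 := by
        have h' : q ^ Nat.card (Q : Subgroup G) = 1 := pow_card_eq_one'
        rw [hQc] at h'
        exact congrArg Subtype.val h'
      rw [hr, ← pow_add, pow_succ, h5, one_mul]
    have hrQ : r ∈ (Q : Subgroup G) := pow_mem q.2 3
    have h1 := hu0 r hrQ
    refine hu0c.trans (isConj_iff.2 ⟨r⁻¹, ?_⟩)
    have h2 : r⁻¹ * u0 = u0 * r := by rw [← h1]; group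
    calc r⁻¹ * u0 * r⁻¹⁻¹ = u0 * r * r := by rw [h2, inv_inv]
      _ = u0 * (q : G) := by rw [mul_assoc, hr2]
  have hm2 : ∀ q : (Q : Subgroup G), u0 * (q : G) * y * (u0 * (q : G))⁻¹ = y⁻¹ := fun q => by
    have hc : (q : G) * y = y * q := congrArg Subtype.val (hQ.comm q ⟨y, hy⟩)
    rw [show u0 * (q : G) * y * (u0 * (q : G))⁻¹ = u0 * ((q : G) * y * (q : G)⁻¹) * u0⁻¹ by group,
      hc, mul_inv_cancel_right]
    exact hu0 y hy
  have hm3 : ∀ u : {u : G // IsConj x u ∧ u * y * u⁻¹ = y⁻¹}, u0⁻¹ * u.1 ∈ (Q : Subgroup G) :=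
    fun u => by
    rw [← hQ.centralizer_eq y hy hy1, mem_centralizer_singleton_iff]
    have h1 := hu0 y hy
    have h2 := u.2.2
    have h3 : u.1 * y * u.1⁻¹ = u0 * y * u0⁻¹ := h2.trans h1.symm
    calc u0⁻¹ * u.1 * y = u0⁻¹ * (u.1 * y * u.1⁻¹) * u.1 := by group
      _ = u0⁻¹ * (u0 * y * u0⁻¹) * u.1 := by rw [h3]
      _ = y * (u0⁻¹ * u.1) := by group
  exact (Nat.card_congr
    { toFun := fun q : (Q : Subgroup G) =>
        (⟨u0 * (q : G), hm1 q, hm2 q⟩ : {u : G // IsConj x u ∧ u * y * u⁻¹ = y⁻¹})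
      invFun := fun u => ⟨u0⁻¹ * u.1, hm3 u⟩
      left_inv := fun q => Subtype.ext (inv_mul_cancel_left u0 (q : G))
      right_inv := fun u => Subtype.ext (mul_inv_cancel_left u0 u.1) }).symm

theorem involution_data [Finite G] (hG : Cfsg.IsM11 G) {x : G} (hx : orderOf x = 2)
    (Q : Sylow 5 G) :
    Nat.card (centralizer ({x} : Set G)) = 48 ∧ ∀ y ∈ (Q : Subgroup G), y ≠ 1 →
      Nat.card {u : G // IsConj x u ∧ u * y * u⁻¹ = y⁻¹} = 5 := by
  haveI := hG.1
  haveI := Fintype.ofFinite G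
  have hna := nonab hG
  obtain ⟨k, hk, hcount⟩ := inverting_count hG Q hx
  obtain ⟨w, a, b, hw, ha, hb, hz, heq, hS⟩ := value_data hG Q hx hcount
  set c := Nat.card (centralizer ({x} : Set G)) with hc
  have hcd : c ∣ 7920 := hG.2 ▸ card_subgroup_dvd_card _
  have hne : centralizer ({x} : Set G) ≠ ⊤ := by
    intro h
    have : x ∈ Subgroup.center G := Subgroup.mem_center_iff.2 fun g =>
      mem_centralizer_singleton_iff.1 (show g ∈ centralizer ({x} : Set G) from h ▸ mem_top g)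
    rw [Basic.center_eq_bot hna] at this
    rw [Subgroup.mem_bot.1 this, orderOf_one] at hx
    norm_num at hx
  have h11 : c % 11 ≠ 0 := by
    intro h
    obtain ⟨⟨y, hy⟩, hyo⟩ := exists_prime_orderOf_dvd_card' (G := centralizer ({x} : Set G)) 11
      (Nat.dvd_of_mod_eq_zero h)
    rw [orderOf_mk] at hyo
    have hxy : x ∈ centralizer ({y} : Set G) :=
      mem_centralizer_singleton_iff.2 (mem_centralizer_singleton_iff.1 hy).symm
    have := orderOf_dvd_natCard (⟨x, hxy⟩ : centralizer ({y} : Set G))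
    rw [orderOf_mk, hx] at this
    exact absurd (not_eleven_centralizer hG hyo this) (by norm_num)
  have hchk := InvolutionData.check_eq hw ha hb
  rw [abs_le] at hz
  simp only [InvolutionData.check, Bool.or_eq_true, Bool.and_eq_true, decide_eq_true_eq,
    List.all_eq_true] at hchk
  have hchk' := hchk.resolve_left (by omega)
  rcases hk with rfl | rfl
  · exfalso
    have h2570 := hchk'.1.resolve_left (fun h => h (by push_cast at heq; linarith))
    have hle : 2570 ≤ c := by exact_mod_cast le_trans h2570 hS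
    have hidx := (centralizer ({x} : Set G)).card_mul_index
    rw [hG.2, ← hc] at hidx
    have h3 : (centralizer ({x} : Set G)).index ≤ 3 := by
      by_contra h
      push Not at h
      have := Nat.mul_le_mul hle h
      omega
    have := Basic.two_mul_card_dvd_factorial hna _ hne
    rw [hG.2] at this
    have h4 := this.trans (Nat.factorial_dvd_factorial h3)
    norm_num [Nat.factorial] at h4
  · refine ⟨?_, hcount⟩
    push_cast at heq
    have hpos : (0 : ℤ) < c := by exact_mod_cast Nat.card_pos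
    have h154 : (c : ℤ) ≤ 154 := by
      have hz2 := mul_self_nonneg (1 + w + a + b)
      nlinarith
    have hS' : ¬ (154 : ℤ) < 1 + w * w + a * a + b * b + (1 + w + a + b) * (1 + w + a + b) :=
      fun h => by linarith
    have hall := (hchk'.2.resolve_left (fun h => h.elim hS' fun h5 => h5 (by omega)))
    have hmem := InvolutionData.mem_cs c (Nat.mem_divisors.2 ⟨hcd, by norm_num⟩)
      (by exact_mod_cast h154) h11
    rcases hall _ hmem with (h | h) | h
    · exact absurd (by rw [← sq]; exact heq) h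
    · exact absurd hS (not_le.2 h)
    · exact_mod_cast h

theorem card_involution_centralizer [Finite G] (hG : Cfsg.IsM11 G) {x : G} (hx : orderOf x = 2) :
    Nat.card (centralizer ({x} : Set G)) = 48 :=
  (involution_data hG hx default).1

theorem involutions_conj [Finite G] (hG : Cfsg.IsM11 G) {x z : G} (hx : orderOf x = 2)
    (hz : orderOf z = 2) : IsConj x z := by
  haveI := hG.1
  have Q : Sylow 5 G := default
  obtain ⟨⟨y, hyQ⟩, hyo⟩ :=
    exists_prime_orderOf_dvd_card' (G := (Q : Subgroup G)) 5 ((card_sylow5_eq hG Q).symm ▸ dvd_rfl)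
  rw [orderOf_mk] at hyo
  have hy1 : y ≠ 1 := fun e => by rw [e, orderOf_one] at hyo; norm_num at hyo
  have h1 := (involution_data hG hx Q).2 y hyQ hy1
  have h2 := (involution_data hG hz Q).2 y hyQ hy1
  obtain ⟨⟨u, huc, hu⟩⟩ := (Nat.card_pos_iff.1 (by rw [h1]; norm_num)).1
  obtain ⟨⟨v, hvc, hv⟩⟩ := (Nat.card_pos_iff.1 (by rw [h2]; norm_num)).1
  -- both invert `y`, so they differ by an element of `Q`
  obtain ⟨-, hQ, -⟩ := five_data hG Q
  have hq : u⁻¹ * v ∈ (Q : Subgroup G) := by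
    rw [← hQ.centralizer_eq y hyQ hy1, mem_centralizer_singleton_iff]
    have h3 : v * y * v⁻¹ = u * y * u⁻¹ := hv.trans hu.symm
    calc u⁻¹ * v * y = u⁻¹ * (v * y * v⁻¹) * v := by group
      _ = u⁻¹ * (u * y * u⁻¹) * v := by rw [h3]
      _ = y * (u⁻¹ * v) := by group
  have hQc := card_sylow5_eq hG Q
  have huQ : ∀ w ∈ (Q : Subgroup G), u * w * u⁻¹ = w⁻¹ := fun w hw => by
    rw [← Centralize.sylow_le_iff_mem hyQ hy1 hQc] at hw
    obtain ⟨i, rfl⟩ := mem_zpowers_iff.1 hw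
    rw [← conj_zpow, hu, inv_zpow]
  have h5 : (u⁻¹ * v) ^ 5 = 1 := by
    have h' : (⟨_, hq⟩ : (Q : Subgroup G)) ^ Nat.card (Q : Subgroup G) = 1 := pow_card_eq_one'
    rw [hQc] at h'
    exact congrArg Subtype.val h'
  set r := (u⁻¹ * v) ^ 3 with hr
  have hr2 : r * r = u⁻¹ * v := by rw [hr, ← pow_add, pow_succ, h5, one_mul]
  have h1' := huQ r (pow_mem hq 3)
  have huv : IsConj u v := isConj_iff.2 ⟨r⁻¹, by
    have h2' : r⁻¹ * u = u * r := by rw [← h1']; group
    calc r⁻¹ * u * r⁻¹⁻¹ = u * r * r := by rw [h2', inv_inv]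
      _ = v := by rw [mul_assoc, hr2, mul_inv_cancel_left]⟩
  exact (huc.trans huv).trans hvc.symm

end Cfsg.Agent.M11Order
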