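import Mathlib
import Cfsg.Agent.Lib.M11Order.Involution

/-!
# The Sylow 3-normalisers of a simple group of order 7920
-/

set_option linter.style.haveILetI false

namespace Cfsg.Agent.M11Order

open Subgroup MulAction
open Cfsg.Agent.SmallSimple
open scoped IsMulCommutative

variable {G : Type*} [Group G] [Finite G]

local instance factPrimeTwo5 : Fact (Nat.Prime 2) := ⟨Nat.prime_two⟩
local instance factPrimeThree5 : Fact (Nat.Prime 3) := ⟨Nat.prime_three⟩
local instance factPrimeFive5 : Fact (Nat.Prime 5) := ⟨by norm_num⟩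

omit [Finite G] in
theorem orderOf_conj_eq (g x : G) : orderOf (g * x * g⁻¹) = orderOf x :=
  orderOf_injective (MulAut.conj g).toMonoidHom (MulAut.conj g).injective x

/-- A member of a subgroup of order three is trivial, a given element or its inverse. -/
theorem eq_or_inv_of_card_three {K : Subgroup G} (hK : Nat.card K = 3) {x z : G} (hx : x ∈ K)
    (hx1 : x ≠ 1) (hz : z ∈ K) (hz1 : z ≠ 1) : z = x ∨ z = x⁻¹ := by
  have hx3 : orderOf x = 3 := by
    have h : orderOf (⟨x, hx⟩ : K) ∣ 3 := hK ▸ orderOf_dvd_natCard _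
    rw [orderOf_mk] at h
    rcases (Nat.dvd_prime Nat.prime_three).1 h with h | h
    · exact absurd (orderOf_eq_one_iff.1 h) hx1
    · exact h
  have hKx : zpowers x = K := eq_of_le_of_card_ge (zpowers_le.2 hx) (by rw [Nat.card_zpowers, hx3, hK])
  obtain ⟨k, rfl⟩ := mem_zpowers_iff.1 (hKx ▸ hz)
  rw [← zpow_mod_orderOf, hx3] at hz1 ⊢
  push_cast at hz1 ⊢
  rcases (by omega : k % 3 = 0 ∨ k % 3 = 1 ∨ k % 3 = 2) with e | e | e <;> rw [e] at hz1 ⊢
  · exact absurd (zpow_zero x) hz1
  · exact Or.inl (zpow_one x)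
  · right
    rw [show (2 : ℤ) = -1 + (orderOf x : ℤ) by rw [hx3]; rfl, zpow_add, zpow_natCast,
      pow_orderOf_eq_one, mul_one, zpow_neg_one]

/-- An element of order three conjugate to its inverse: `|N(⟨x⟩)| = 2 |C(x)|`. -/
theorem card_normalizer_zpowers {x : G} (hx : orderOf x = 3) (hinv : IsConj x x⁻¹) :
    Nat.card (normalizer (zpowers x : Set G)) = 2 * Nat.card (centralizer ({x} : Set G)) := by
  classical
  have hx1 : x ≠ 1 := fun e => by rw [e, orderOf_one] at hx; norm_num at hx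
  have h := Basic.card_conjugating x (fun z => z ∈ zpowers x)
  have hxx : x⁻¹ ≠ x := by
    intro h
    have h2 : x ^ 2 = 1 := by rw [sq]; nth_rw 1 [← h]; exact inv_mul_cancel x
    have := orderOf_dvd_of_pow_eq_one h2
    rw [hx] at this
    norm_num at this
  have hset : Nat.card {z : G // IsConj x z ∧ z ∈ zpowers x} = 2 := by
    rw [Nat.card_eq_two_iff]
    refine ⟨⟨x, IsConj.refl x, mem_zpowers x⟩, ⟨x⁻¹, hinv, inv_mem (mem_zpowers x)⟩,
      fun h => hxx (congrArg Subtype.val h).symm, ?_⟩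
    refine Set.eq_univ_of_forall fun ⟨z, hz1, hz2⟩ => ?_
    have hz' : z ≠ 1 := fun e => hx1 (isConj_one_left.1 (e ▸ hz1))
    simp only [Set.mem_insert_iff, Set.mem_singleton_iff, Subtype.mk.injEq]
    exact eq_or_inv_of_card_three (by rw [Nat.card_zpowers, hx]) (mem_zpowers x) hx1 hz2 hz'
  rw [hset, mul_comm] at h
  rw [← h]
  refine Nat.card_congr (Equiv.subtypeEquivRight fun g => ?_)
  constructor
  · intro hg
    exact (mem_normalizer_iff.1 hg x).1 (mem_zpowers x)
  · intro hg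
    refine mem_normalizer_iff.2 fun z => ?_
    have hle : (zpowers x).map (MulAut.conj g).toMonoidHom = zpowers x := by
      rw [MonoidHom.map_zpowers]
      refine eq_of_le_of_card_ge (zpowers_le.2 hg) ?_
      rw [Nat.card_zpowers, Nat.card_zpowers, orderOf_injective _ (MulAut.conj g).injective x]
    constructor
    · intro hz
      exact hle ▸ mem_map_of_mem (MulAut.conj g).toMonoidHom hz
    · intro hz
      rw [← hle] at hz
      obtain ⟨w, hw, hwe⟩ := hz
      have : w = z := by simpa [MulAut.conj_apply] using hwe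
      exact this ▸ hw

/-- No involution centralises a Sylow 3-subgroup. -/
theorem card_three_centralizer_odd (hG : Cfsg.IsM11 G) (P : Sylow 3 G) :
    ¬ 2 ∣ Nat.card (centralizer ((P : Subgroup G) : Set G)) := by
  intro h
  obtain ⟨⟨u, hu⟩, huo⟩ := exists_prime_orderOf_dvd_card' (G := centralizer ((P : Subgroup G) : Set G)) 2 h
  rw [orderOf_mk] at huo
  have hle : (P : Subgroup G) ≤ centralizer ({u} : Set G) := fun z hz =>
    mem_centralizer_singleton_iff.2 (mem_centralizer_iff.1 hu z hz)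
  have := card_dvd_of_le hle
  rw [card_sylow3_eq hG P, card_involution_centralizer hG huo] at this
  norm_num at this

/-- The elements of order three of the centraliser of an involution: one class. -/
theorem isConj_of_commute_involution (hG : Cfsg.IsM11 G) {u x z : G} (hu : orderOf u = 2)
    (hx : orderOf x = 3) (hz : orderOf z = 3) (hux : Commute u x) (huz : Commute u z) :
    IsConj x z ∨ IsConj x z⁻¹ := by
  set H := centralizer ({u} : Set G) with hH
  have hxH : x ∈ H := mem_centralizer_singleton_iff.2 hux.symm.eq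
  have hzH : z ∈ H := mem_centralizer_singleton_iff.2 huz.symm.eq
  have hH3 : ∀ R : Sylow 3 H, Nat.card (R : Subgroup H) = 3 := fun R =>
    Basic.card_sylow_eq_pow (a := 1) (m := 16)
      (by rw [card_involution_centralizer hG hu]; norm_num) (by norm_num) R
  obtain ⟨S, hS⟩ : ∃ S : Sylow 3 H, zpowers (⟨x, hxH⟩ : H) ≤ (S : Subgroup H) :=
    (IsPGroup.of_card (n := 1) (by rw [Nat.card_zpowers, orderOf_mk, hx, pow_one])).exists_le_sylow
  obtain ⟨T, hT⟩ : ∃ T : Sylow 3 H, zpowers (⟨z, hzH⟩ : H) ≤ (T : Subgroup H) :=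
    (IsPGroup.of_card (n := 1) (by rw [Nat.card_zpowers, orderOf_mk, hz, pow_one])).exists_le_sylow
  obtain ⟨g, hg⟩ := MulAction.exists_smul_eq H S T
  have hgx : g * ⟨x, hxH⟩ * g⁻¹ ∈ (T : Subgroup H) := by
    rw [← hg, Sylow.coe_subgroup_smul, mem_pointwise_smul_iff_inv_smul_mem]
    simpa [mul_assoc] using hS (mem_zpowers _)
  have hg1 : g * ⟨x, hxH⟩ * g⁻¹ ≠ (1 : H) := fun e => by
    rw [conj_eq_one_iff] at e
    have : x = 1 := congrArg Subtype.val e
    rw [this, orderOf_one] at hx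
    norm_num at hx
  have hz1 : (⟨z, hzH⟩ : H) ≠ 1 := fun e => by
    have : z = 1 := congrArg Subtype.val e
    rw [this, orderOf_one] at hz
    norm_num at hz
  rcases eq_or_inv_of_card_three (hH3 T) (hT (mem_zpowers _)) hz1 hgx hg1 with e | e
  · exact Or.inl (isConj_iff.2 ⟨g, congrArg Subtype.val e⟩)
  · exact Or.inr (isConj_iff.2 ⟨g, congrArg Subtype.val e⟩)

/-- An element of order three whose normaliser meets its centraliser in `P` only: no such group. -/
theorem false_of_centralizer_inf (hG : Cfsg.IsM11 G) (h220 : Nat.card (Sylow 3 G) = 220)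
    (P : Sylow 3 G) {x t : G} (hx : orderOf x = 3) (hxP : x ∈ (P : Subgroup G)) (ht : orderOf t = 2)
    (htx : Commute t x)
    (hK : ∀ a ∈ normalizer ((P : Subgroup G) : Set G), orderOf a = 2 → ¬ Commute a x) : False := by
  classical
  haveI := hG.1
  haveI := sylow3_comm hG P
  have hP := card_sylow3_eq hG P
  have hx1 : x ≠ 1 := fun e => by rw [e, orderOf_one] at hx; norm_num at hx
  set H := centralizer ({x} : Set G) with hH
  have hPH : (P : Subgroup G) ≤ H := fun z hz => mem_centralizer_singleton_iff.2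
    (congrArg Subtype.val (mul_comm' (⟨z, hz⟩ : (P : Subgroup G)) ⟨x, hxP⟩))
  set N := normalizer ((P : Subgroup G) : Set G) with hN
  have hNc : Nat.card N = 36 := by
    have h := Basic.card_normalizer_mul P
    rw [h220, hG.2] at h
    change Nat.card N * 220 = 7920 at h
    omega
  -- `N ∩ C(x) = P`
  have hK9 : Nat.card ↥(N ⊓ H) = 9 := by
    have h1 : 9 ∣ Nat.card ↥(N ⊓ H) := hP ▸ card_dvd_of_le (le_inf le_normalizer hPH)
    have h2 : Nat.card ↥(N ⊓ H) ∣ 36 := hNc ▸ card_dvd_of_le inf_le_left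
    have h3 : ¬ 2 ∣ Nat.card ↥(N ⊓ H) := fun h => by
      obtain ⟨⟨a, ha⟩, hao⟩ := exists_prime_orderOf_dvd_card' (G := ↥(N ⊓ H)) 2 h
      rw [orderOf_mk] at hao
      exact hK a ha.1 hao (mem_centralizer_singleton_iff.1 ha.2)
    have key : ∀ n ∈ Nat.divisors 36, 9 ∣ n → ¬ 2 ∣ n → n = 9 := by decide +kernel
    exact key _ (Nat.mem_divisors.2 ⟨h2, by norm_num⟩) h1 h3
  have hmod := FixedPoints.relIndex_normalizer_mod P hPH
  rw [← hN] at hmod
  have hHc : Nat.card H = 9 * N.relIndex H := by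
    have h := relIndex_mul_relIndex ⊥ (N ⊓ H) H bot_le inf_le_right
    rw [relIndex_bot_left, relIndex_bot_left, hK9, inf_relIndex_right] at h
    exact h.symm
  have hHd : Nat.card H ∣ 7920 := hG.2 ▸ card_subgroup_dvd_card H
  have h2H : 2 ∣ Nat.card H := by
    have := orderOf_dvd_natCard (⟨t, mem_centralizer_singleton_iff.2 htx.eq⟩ : H)
    rwa [orderOf_mk, ht] at this
  have h5H : ¬ 5 ∣ Nat.card H := fun h => by
    obtain ⟨⟨y, hy⟩, hyo⟩ := exists_prime_orderOf_dvd_card' (G := H) 5 h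
    rw [orderOf_mk] at hyo
    obtain ⟨Q, hQ⟩ : ∃ Q : Sylow 5 G, zpowers y ≤ (Q : Subgroup G) :=
      (IsPGroup.of_card (n := 1) (by rw [Nat.card_zpowers, hyo, pow_one])).exists_le_sylow
    have hy1 : y ≠ 1 := fun e => by rw [e, orderOf_one] at hyo; norm_num at hyo
    have hxQ : x ∈ (Q : Subgroup G) := by
      rw [← (five_data hG Q).2.1.centralizer_eq y (hQ (mem_zpowers y)) hy1]
      exact mem_centralizer_singleton_iff.2 (mem_centralizer_singleton_iff.1 hy).symm
    have := orderOf_dvd_natCard (⟨x, hxQ⟩ : (Q : Subgroup G))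
    rw [orderOf_mk, hx, card_sylow5_eq hG Q] at this
    norm_num at this
  have h11H : ¬ 11 ∣ Nat.card H := fun h => by
    haveI : Fact (Nat.Prime 11) := ⟨by norm_num⟩
    obtain ⟨⟨y, hy⟩, hyo⟩ := exists_prime_orderOf_dvd_card' (G := H) 11 h
    rw [orderOf_mk] at hyo
    have hxy : x ∈ centralizer ({y} : Set G) :=
      mem_centralizer_singleton_iff.2 (mem_centralizer_singleton_iff.1 hy).symm
    have := orderOf_dvd_natCard (⟨x, hxy⟩ : centralizer ({y} : Set G))
    rw [orderOf_mk, hx] at this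
    exact absurd (not_eleven_centralizer hG hyo this) (by norm_num)
  obtain ⟨n, hn, hnx⟩ := inverted hG P hxP
  have hinv : IsConj x x⁻¹ := isConj_iff.2 ⟨n, hnx⟩
  have hm : N.relIndex H = 4 := by
    have hd : N.relIndex H ∣ 880 := by
      rw [hHc] at hHd
      exact (Nat.mul_dvd_mul_iff_left (by norm_num : 0 < 9)).1 (by norm_num; exact hHd)
    have key : ∀ m ∈ Nat.divisors 880, m % 3 = 1 → 2 ∣ 9 * m → ¬ 5 ∣ 9 * m → ¬ 11 ∣ 9 * m →
        m = 4 ∨ m = 16 := by decide +kernel
    rcases key _ (Nat.mem_divisors.2 ⟨hd, by norm_num⟩) hmod (hHc ▸ h2H) (hHc ▸ h5H) (hHc ▸ h11H)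
      with h | h
    · exact h
    · exfalso
      have h288 := card_subgroup_dvd_card (normalizer (zpowers x : Set G))
      rw [card_normalizer_zpowers hx hinv, ← hH, hHc, h, hG.2] at h288
      norm_num at h288
  rw [hm] at hHc
  norm_num at hHc
  -- counting commuting pairs
  set C := centralizer ({t} : Set G) with hC
  have hC3 : ∀ R : Sylow 3 C, Nat.card (R : Subgroup C) = 3 := fun R =>
    Basic.card_sylow_eq_pow (a := 1) (m := 16)
      (by rw [card_involution_centralizer hG ht]; norm_num) (by norm_num) R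
  have hxC : x ∈ C := mem_centralizer_singleton_iff.2 htx.symm.eq
  obtain ⟨R, hR⟩ : ∃ R : Sylow 3 C, zpowers (⟨x, hxC⟩ : C) ≤ (R : Subgroup C) :=
    (IsPGroup.of_card (n := 1) (by rw [Nat.card_zpowers, orderOf_mk, hx, pow_one])).exists_le_sylow
  have hn3 : Nat.card (Sylow 3 C) = 1 ∨ Nat.card (Sylow 3 C) = 4 := by
    have hmod : Nat.card (Sylow 3 C) % 3 = 1 := by
      have := card_sylow_modEq_one 3 C
      rwa [Nat.ModEq, Nat.one_mod] at this
    have hmul := Basic.card_normalizer_mul R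
    rw [card_involution_centralizer hG ht] at hmul
    have h6 : 6 ∣ Nat.card (normalizer ((R : Subgroup C) : Set C)) := by
      refine Nat.Coprime.mul_dvd_of_dvd_of_dvd (by norm_num : Nat.Coprime 2 3) ?_ ?_
      · have htR : (⟨t, mem_centralizer_singleton_iff.2 rfl⟩ : C) ∈
            normalizer ((R : Subgroup C) : Set C) :=
          centralizer_le_normalizer _ (mem_centralizer_iff.2 fun q _ =>
            Subtype.ext (mem_centralizer_singleton_iff.1 q.2))
        have := orderOf_dvd_natCard (⟨_, htR⟩ : normalizer ((R : Subgroup C) : Set C))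
        rwa [orderOf_mk, orderOf_mk, ht] at this
      · have := card_dvd_of_le (le_normalizer (H := (R : Subgroup C)))
        rwa [hC3 R] at this
    obtain ⟨j, hj⟩ := h6
    rw [hj] at hmul
    have hd : Nat.card (Sylow 3 C) ∣ 8 := ⟨j, by linarith⟩
    have key : ∀ m ∈ Nat.divisors 8, m % 3 = 1 → m = 1 ∨ m = 4 := by decide +kernel
    exact key _ (Nat.mem_divisors.2 ⟨hd, by norm_num⟩) hmod
  set i := Nat.card {z : H // orderOf z = 2} with hi
  have hcount : 48 * i = 36 * (Nat.card (Sylow 3 C) * 2) := by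
    have h1 := Basic.card_conjugating t (fun z => z ∈ H)
    have h2 := Basic.card_conjugating x (fun z => z ∈ C)
    have e1 : Nat.card {z : G // IsConj t z ∧ z ∈ H} = i := by
      refine Nat.card_congr
        { toFun := fun z => (⟨⟨z.1, z.2.2⟩, ?_⟩ : {z : H // orderOf z = 2})
          invFun := fun z => ⟨(z.1 : G), involutions_conj hG ht ((orderOf_coe z.1).trans z.2), z.1.2⟩
          left_inv := fun z => rfl
          right_inv := fun z => rfl }
      rw [orderOf_mk]
      obtain ⟨g, hg⟩ := isConj_iff.1 z.2.1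
      rw [← hg, orderOf_conj_eq, ht]
    have e2 : Nat.card {z : G // IsConj x z ∧ z ∈ C} = Nat.card (Sylow 3 C) * 2 := by
      refine Eq.trans ?_ (card_orderOf_eq hC3)
      refine Nat.card_congr
        { toFun := fun z => (⟨⟨z.1, z.2.2⟩, ?_⟩ : {z : C // orderOf z = 3})
          invFun := fun z => ⟨(z.1 : G), ?_, z.1.2⟩
          left_inv := fun z => rfl
          right_inv := fun z => rfl }
      · rw [orderOf_mk]
        obtain ⟨g, hg⟩ := isConj_iff.1 z.2.1
        rw [← hg, orderOf_conj_eq, hx]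
      · rcases isConj_of_commute_involution hG ht hx ((orderOf_coe z.1).trans z.2) htx
            (mem_centralizer_singleton_iff.1 z.1.2).symm with h | h
        · exact h
        · obtain ⟨g, hg⟩ := isConj_iff.1 h
          refine hinv.trans (isConj_iff.2 ⟨g, ?_⟩)
          rw [← conj_inv, hg, inv_inv]
    rw [e1, card_involution_centralizer hG ht] at h1
    rw [e2, ← hH, hHc] at h2
    rw [← h1, ← h2]
    refine Nat.card_congr ((Equiv.inv G).subtypeEquiv fun g => ?_)
    rw [hH, hC, mem_centralizer_singleton_iff, mem_centralizer_singleton_iff, Equiv.inv_apply,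
      inv_inv]
    constructor <;> intro h
    · calc g⁻¹ * x * g * t = g⁻¹ * (x * (g * t * g⁻¹)) * g := by group
        _ = g⁻¹ * (g * t * g⁻¹ * x) * g := by rw [h]
        _ = t * (g⁻¹ * x * g) := by group
    · calc g * t * g⁻¹ * x = g * (t * (g⁻¹ * x * g)) * g⁻¹ := by group
        _ = g * (g⁻¹ * x * g * t) * g⁻¹ := by rw [h]
        _ = x * (g * t * g⁻¹) := by group
  have hi6 : i = 6 := by omega
  -- at most three involutions in `C(x)`
  let x' : H := ⟨x, mem_centralizer_singleton_iff.2 rfl⟩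
  have hx'o : orderOf x' = 3 := by rw [orderOf_mk, hx]
  have hH9 : ∀ S : Sylow 3 H, Nat.card (S : Subgroup H) = 9 := fun S =>
    Basic.card_sylow_eq_pow (a := 2) (m := 4) (by rw [hHc]; norm_num) (by norm_num) S
  have hn4 : Nat.card (Sylow 3 H) = 4 := by
    rw [(P.subtype hPH).card_eq_index_normalizer, ← hm]
    have e : normalizer ((P.subtype hPH : Sylow 3 H) : Set H) = N.subgroupOf H := by
      ext u
      change u ∈ normalizer (((P.subtype hPH : Sylow 3 H) : Subgroup H) : Set H) ↔ _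
      rw [Sylow.coe_subtype, mem_subgroupOf]
      constructor
      · intro hu
        refine mem_normalizer_iff.2 fun z => ?_
        by_cases hz : z ∈ H
        · have := mem_normalizer_iff.1 hu ⟨z, hz⟩
          simp only [mem_subgroupOf] at this
          exact this
        · refine iff_of_false (fun h => hz (hPH h)) (fun h => hz ?_)
          have := H.mul_mem (H.mul_mem (H.inv_mem u.2) (hPH h)) u.2
          simpa [mul_assoc] using this
      · intro hu
        refine mem_normalizer_iff.2 fun z => ?_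
        simp only [mem_subgroupOf]
        exact mem_normalizer_iff.1 hu (z : G)
    rw [e]
    rfl
  have hxc : ∀ z : H, Commute x' z := fun z =>
    Subtype.ext (mem_centralizer_singleton_iff.1 z.2).symm
  have hxS : ∀ S : Sylow 3 H, x' ∈ (S : Subgroup H) := by
    intro S
    obtain ⟨T, hT⟩ : ∃ T : Sylow 3 H, zpowers x' ≤ (T : Subgroup H) :=
      (IsPGroup.of_card (n := 1) (by rw [Nat.card_zpowers, hx'o, pow_one])).exists_le_sylow
    refine mem_of_smul_eq (hT (mem_zpowers x')) (Sylow.smul_eq_iff_mem_normalizer.2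
      (centralizer_le_normalizer _ (mem_centralizer_iff.2 fun z _ => (hxc z).eq.symm)))
  have hinter : ∀ (S T : Sylow 3 H) (g : H), g ∈ (S : Subgroup H) → g ∈ (T : Subgroup H) →
      g ∉ zpowers x' → S = T := by
    intro S T g hgS hgT hgx
    refine Sylow.ext ?_
    have hge : ∀ U : Sylow 3 H, g ∈ (U : Subgroup H) → (S : Subgroup H) ⊓ (T : Subgroup H) ≤ U →
        (S : Subgroup H) ⊓ (T : Subgroup H) = U := fun U hgU hle => by
      refine eq_of_le_of_card_ge hle ?_
      rw [hH9 U]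
      have h1 : Nat.card ↥((S : Subgroup H) ⊓ (T : Subgroup H)) ∣ 9 :=
        hH9 U ▸ card_dvd_of_le hle
      have h2 : 3 < Nat.card ↥((S : Subgroup H) ⊓ (T : Subgroup H)) := by
        refine lt_of_eq_of_lt (hx'o.symm.trans (Nat.card_zpowers x').symm) ?_
        refine lt_of_not_ge fun h => hgx ?_
        have := eq_of_le_of_card_ge (le_inf (zpowers_le.2 (hxS S)) (zpowers_le.2 (hxS T))) h
        exact this ▸ ⟨hgS, hgT⟩
      have key : ∀ m ∈ Nat.divisors 9, 3 < m → m = 9 := by decide +kernel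
      rw [key _ (Nat.mem_divisors.2 ⟨h1, by norm_num⟩) h2]
    exact (hge S hgS inf_le_left).symm.trans (hge T hgT inf_le_right)
  haveI := Fintype.ofFinite (Sylow 3 H)
  let f : (Σ S : Sylow 3 H, {g : (S : Subgroup H) // (g : H) ∉ zpowers x'}) ⊕
      ↥(zpowers x') ⊕ ({z : H // orderOf z = 2} × ↥(zpowers x')) → H :=
    Sum.elim (fun s => ((s.2.1 : (s.1 : Subgroup H)) : H))
      (Sum.elim (fun z => (z : H)) (fun p => p.1.1 * (p.2 : H)))
  have hcube : ∀ (p : {z : H // orderOf z = 2} × ↥(zpowers x')) (U : Subgroup H),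
      IsPGroup 3 U → x' ∈ U → p.1.1 * (p.2 : H) ∈ U → False := by
    intro p U hU hxU hmem
    have hpU : p.1.1 ∈ U := by
      have h2 : (p.2 : H) ∈ U := (zpowers_le.2 hxU) p.2.2
      simpa using U.mul_mem hmem (U.inv_mem h2)
    obtain ⟨k, hk⟩ := IsPGroup.iff_orderOf.1 hU ⟨_, hpU⟩
    rw [orderOf_mk, p.1.2] at hk
    have h32 : Odd (3 ^ k) := Odd.pow (by decide)
    rw [← hk] at h32
    exact absurd h32 (by decide)
  have hf : Function.Injective f := by
    rintro (⟨S, ⟨g, hg⟩, hgx⟩ | z | p) (⟨T, ⟨g', hg'⟩, hgx'⟩ | z' | p') hab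
    · have hgg : g = g' := hab
      subst hgg
      obtain rfl := hinter S T g hg hg' hgx
      rfl
    · have h : g = (z' : H) := hab
      subst h
      exact absurd z'.2 hgx
    · have h : g = p'.1.1 * (p'.2 : H) := hab
      exact (hcube p' _ S.isPGroup' (hxS S) (h ▸ hg)).elim
    · have h : (z : H) = g' := hab
      subst h
      exact absurd z.2 hgx'
    · exact congrArg (Sum.inr ∘ Sum.inl) (Subtype.ext hab)
    · have h : (z : H) = p'.1.1 * (p'.2 : H) := hab
      exact (hcube p' _ (IsPGroup.of_card (n := 1) (by rw [Nat.card_zpowers, hx'o, pow_one]))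
        (mem_zpowers x') (h ▸ z.2)).elim
    · have h : p.1.1 * (p.2 : H) = g' := hab
      exact (hcube p _ T.isPGroup' (hxS T) (h.symm ▸ hg')).elim
    · have h : p.1.1 * (p.2 : H) = (z' : H) := hab
      exact (hcube p _ (IsPGroup.of_card (n := 1) (by rw [Nat.card_zpowers, hx'o, pow_one]))
        (mem_zpowers x') (h.symm ▸ z'.2)).elim
    · have hab' : p.1.1 * (p.2 : H) = p'.1.1 * (p'.2 : H) := hab
      -- the odd parts are determined by squaring
      have hsq : ∀ q : {z : H // orderOf z = 2} × ↥(zpowers x'),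
          (q.1.1 * (q.2 : H)) ^ 4 = (q.2 : H) := by
        intro q
        have hc : Commute q.1.1 (q.2 : H) := by
          obtain ⟨k, hk⟩ := mem_zpowers_iff.1 q.2.2
          exact hk ▸ ((hxc q.1.1).symm.zpow_right k)
        have h3 : (q.2 : H) ^ 3 = 1 := by
          have h' : q.2 ^ Nat.card ↥(zpowers x') = 1 := pow_card_eq_one'
          rw [Nat.card_zpowers, hx'o] at h'
          exact congrArg Subtype.val h'
        have h2 : q.1.1 ^ 4 = 1 := orderOf_dvd_iff_pow_eq_one.1 (by rw [q.1.2]; norm_num)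
        rw [hc.mul_pow, h2, one_mul, pow_succ, h3, one_mul]
      have hx2 : (p.2 : H) = (p'.2 : H) := by rw [← hsq p, ← hsq p', hab']
      rw [hx2] at hab'
      exact congrArg (Sum.inr ∘ Sum.inr) (Prod.ext (Subtype.ext (mul_right_cancel hab'))
        (Subtype.ext hx2))
  have hle := Nat.card_le_card_of_injective f hf
  have hS6 : ∀ S : Sylow 3 H,
      Nat.card {g : (S : Subgroup H) // (g : H) ∉ zpowers x'} = 6 := by
    intro S
    haveI := Fintype.ofFinite (S : Subgroup H)
    rw [Nat.card_eq_fintype_card, Fintype.card_subtype_compl, ← Nat.card_eq_fintype_card, hH9 S,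
      ← Nat.card_eq_fintype_card]
    have : Nat.card {g : (S : Subgroup H) // (g : H) ∈ zpowers x'} = 3 := by
      refine Eq.trans ?_ ((Nat.card_zpowers x').trans hx'o)
      exact Nat.card_congr
        { toFun := fun g => ⟨g.1, g.2⟩
          invFun := fun g => ⟨⟨g.1, zpowers_le.2 (hxS S) g.2⟩, g.2⟩
          left_inv := fun _ => rfl
          right_inv := fun _ => rfl }
    omega
  rw [Nat.card_sum, Nat.card_sum, Nat.card_sigma, Finset.sum_congr rfl fun S _ => hS6 S,
    Finset.sum_const, Finset.card_univ, smul_eq_mul, ← Nat.card_eq_fintype_card, hn4, Nat.card_prod,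
    ← hi, hi6, Nat.card_zpowers, hx'o, hHc] at hle
  omega

theorem three_count (hG : Cfsg.IsM11 G) : Nat.card (Sylow 3 G) = 55 := by
  classical
  haveI := hG.1
  refine (three_cases hG).resolve_right fun h220 => ?_
  obtain ⟨t, ht⟩ := exists_prime_orderOf_dvd_card' (G := G) 2 (by rw [hG.2]; norm_num)
  obtain ⟨⟨x, hxC⟩, hx⟩ := exists_prime_orderOf_dvd_card' (G := centralizer ({t} : Set G)) 3
    (by rw [card_involution_centralizer hG ht]; norm_num)
  rw [orderOf_mk] at hx
  have htx : Commute t x := (mem_centralizer_singleton_iff.1 hxC).symm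
  have hx1 : x ≠ 1 := fun e => by rw [e, orderOf_one] at hx; norm_num at hx
  obtain ⟨P, hPx⟩ : ∃ P : Sylow 3 G, zpowers x ≤ (P : Subgroup G) :=
    (IsPGroup.of_card (n := 1) (by rw [Nat.card_zpowers, hx, pow_one])).exists_le_sylow
  have hxP : x ∈ (P : Subgroup G) := hPx (mem_zpowers x)
  haveI := sylow3_comm hG P
  have hP := card_sylow3_eq hG P
  set N := normalizer ((P : Subgroup G) : Set G) with hN
  have hNc : Nat.card N = 36 := by
    have h := Basic.card_normalizer_mul P
    rw [h220, hG.2] at h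
    change Nat.card N * 220 = 7920 at h
    omega
  by_cases hK : ∀ a ∈ N, orderOf a = 2 → ¬ Commute a x
  · exact false_of_centralizer_inf hG h220 P hx hxP ht htx hK
  push Not at hK
  obtain ⟨a, haN, hao, hax⟩ := hK
  have haa : a * a = 1 := by rw [← sq]; exact hao ▸ pow_orderOf_eq_one a
  have hai : a⁻¹ = a := inv_eq_of_mul_eq_one_right haa
  have hconjP : ∀ n ∈ N, ∀ z ∈ (P : Subgroup G), n * z * n⁻¹ ∈ (P : Subgroup G) := fun n hn z hz =>
    (mem_normalizer_iff.1 hn z).1 hz
  have hcommP : ∀ z ∈ (P : Subgroup G), ∀ w ∈ (P : Subgroup G), z * w = w * z := fun z hz w hw =>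
    congrArg Subtype.val (mul_comm' (⟨z, hz⟩ : (P : Subgroup G)) ⟨w, hw⟩)
  obtain ⟨z, hzP, hz⟩ : ∃ z ∈ (P : Subgroup G), a * z * a⁻¹ ≠ z := by
    by_contra hall
    push Not at hall
    refine card_three_centralizer_odd hG P ?_
    have := orderOf_dvd_natCard (⟨a, mem_centralizer_iff.2 fun z hz => by
      have h := hall z hz; rw [mul_inv_eq_iff_eq_mul] at h; exact h.symm⟩ :
      centralizer ((P : Subgroup G) : Set G))
    rwa [orderOf_mk, hao] at this
  set y := z⁻¹ * (a * z * a⁻¹) with hy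
  have hyP : y ∈ (P : Subgroup G) := mul_mem (inv_mem hzP) (hconjP a haN z hzP)
  have hy1 : y ≠ 1 := fun e => hz (inv_mul_eq_one.1 e).symm
  have hay : a * y * a⁻¹ = y⁻¹ := by
    have h2 : a * (a * z * a⁻¹) * a⁻¹ = z := by
      calc a * (a * z * a⁻¹) * a⁻¹ = (a * a) * z * (a * a)⁻¹ := by group
        _ = z := by rw [haa]; group
    calc a * y * a⁻¹ = (a * z * a⁻¹)⁻¹ * (a * (a * z * a⁻¹) * a⁻¹) := by rw [hy]; group
      _ = (a * z * a⁻¹)⁻¹ * z := by rw [h2]
      _ = y⁻¹ := by rw [hy]; group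
  -- conjugation by `N` commutes with conjugation by `a` on `P`
  have hcomm : ∀ n ∈ N, ∀ w ∈ (P : Subgroup G),
      a * (n * w * n⁻¹) * a⁻¹ = n * (a * w * a⁻¹) * n⁻¹ := by
    intro n hn w hw
    set M : Subgroup N := (P : Subgroup G).subgroupOf N
    haveI : M.Normal := normal_in_normalizer
    have hq : Nat.card (N ⧸ M) = 2 ^ 2 := by
      have h := M.card_mul_index
      rw [Nat.card_congr (subgroupOfEquivOfLe (le_normalizer (H := (P : Subgroup G)))).toEquiv, hP,
        hNc] at h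
      change M.index = 2 ^ 2
      omega
    have hk : (⟨n, hn⟩ * ⟨a, haN⟩)⁻¹ * (⟨a, haN⟩ * ⟨n, hn⟩) ∈ M := by
      rw [← QuotientGroup.eq, QuotientGroup.mk_mul, QuotientGroup.mk_mul]
      exact IsPGroup.commutative_of_card_eq_prime_sq hq _ _
    rw [mem_subgroupOf] at hk
    simp only [Subgroup.coe_mul, InvMemClass.coe_inv] at hk
    have h := hcommP _ hk w hw
    calc a * (n * w * n⁻¹) * a⁻¹
        = n * a * ((n * a)⁻¹ * (a * n) * w) * ((n * a)⁻¹ * (a * n))⁻¹ * (n * a)⁻¹ := by group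
      _ = n * a * (w * ((n * a)⁻¹ * (a * n))) * ((n * a)⁻¹ * (a * n))⁻¹ * (n * a)⁻¹ := by rw [h]
      _ = n * (a * w * a⁻¹) * n⁻¹ := by group
  -- the fixed points and the inverted points of `a`
  let X : Subgroup G :=
    { carrier := {w | w ∈ (P : Subgroup G) ∧ a * w * a⁻¹ = w}
      mul_mem' := fun {u v} hu hv => ⟨mul_mem hu.1 hv.1, by
        calc a * (u * v) * a⁻¹ = (a * u * a⁻¹) * (a * v * a⁻¹) := by group
          _ = u * v := by rw [hu.2, hv.2]⟩
      one_mem' := ⟨one_mem _, by group⟩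
      inv_mem' := fun {u} hu => ⟨inv_mem hu.1, by
        calc a * u⁻¹ * a⁻¹ = (a * u * a⁻¹)⁻¹ := by group
          _ = u⁻¹ := by rw [hu.2]⟩ }
  let Y : Subgroup G :=
    { carrier := {w | w ∈ (P : Subgroup G) ∧ a * w * a⁻¹ = w⁻¹}
      mul_mem' := fun {u v} hu hv => ⟨mul_mem hu.1 hv.1, by
        calc a * (u * v) * a⁻¹ = (a * u * a⁻¹) * (a * v * a⁻¹) := by group
          _ = (v * u)⁻¹ := by rw [hu.2, hv.2, mul_inv_rev]
          _ = (u * v)⁻¹ := by rw [hcommP v hv.1 u hu.1]⟩
      one_mem' := ⟨one_mem _, by group⟩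
      inv_mem' := fun {u} hu => ⟨inv_mem hu.1, by
        calc a * u⁻¹ * a⁻¹ = (a * u * a⁻¹)⁻¹ := by group
          _ = u⁻¹⁻¹ := by rw [hu.2]⟩ }
  have hXY : ∀ w, w ∈ X → w ∈ Y → w = 1 := by
    intro w hwX hwY
    have h1 : w = w⁻¹ := hwX.2.symm.trans hwY.2
    have h2 : (⟨w, hwX.1⟩ : (P : Subgroup G)) ^ 2 = 1 := by
      apply Subtype.ext
      push_cast
      rw [sq]
      exact mul_eq_one_iff_eq_inv.2 h1
    have h3 : orderOf (⟨w, hwX.1⟩ : (P : Subgroup G)) ∣ 2 := orderOf_dvd_of_pow_eq_one h2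
    have h9 : orderOf (⟨w, hwX.1⟩ : (P : Subgroup G)) ∣ 9 := hP ▸ orderOf_dvd_natCard _
    rw [orderOf_mk] at h3 h9
    exact orderOf_eq_one_iff.1 (Nat.eq_one_of_dvd_coprimes (by norm_num) h3 h9)
  have hxX : x ∈ X := ⟨hxP, by rw [hax.eq, mul_inv_cancel_right]⟩
  have hyY : y ∈ Y := ⟨hyP, hay⟩
  have hY3 : Nat.card Y = 3 := by
    have h1 : Nat.card Y ∣ 9 := hP ▸ card_dvd_of_le (fun w hw => hw.1)
    have h2 : Nat.card Y ≠ 1 := fun h => hy1 (Subgroup.mem_bot.1 (card_eq_one.1 h ▸ hyY))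
    have h3 : Nat.card Y ≠ 9 := fun h => by
      have hYP : Y = (P : Subgroup G) := eq_of_le_of_card_ge (fun w hw => hw.1) (by rw [h, hP])
      exact hx1 (hXY x hxX (hYP ▸ hxP))
    have key : ∀ m ∈ Nat.divisors 9, m = 1 ∨ m = 3 ∨ m = 9 := by decide +kernel
    rcases key _ (Nat.mem_divisors.2 ⟨h1, by norm_num⟩) with h | h | h <;> omega
  have hYinv : ∀ n ∈ N, ∀ w ∈ Y, n * w * n⁻¹ ∈ Y := fun n hn w hw =>
    ⟨hconjP n hn w hw.1, by rw [hcomm n hn w hw.1, hw.2]; group⟩
  have hXinv : ∀ n ∈ N, ∀ w ∈ X, n * w * n⁻¹ ∈ X := fun n hn w hw =>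
    ⟨hconjP n hn w hw.1, by rw [hcomm n hn w hw.1, hw.2]⟩
  -- some involution centralises `y`
  obtain ⟨m, hmN, hmx⟩ := inverted hG P hxP
  obtain ⟨g, hgN, hgx, hgy⟩ : ∃ g ∈ N, g * x * g⁻¹ = x⁻¹ ∧ g * y * g⁻¹ = y := by
    have hne : m * y * m⁻¹ ≠ 1 := fun e => hy1 (conj_eq_one_iff.1 e)
    rcases eq_or_inv_of_card_three hY3 hyY hy1 (hYinv m hmN y hyY) hne with e | e
    · exact ⟨m, hmN, hmx, e⟩
    · refine ⟨m * a, mul_mem hmN haN, ?_, ?_⟩
      · rw [show m * a * x * (m * a)⁻¹ = m * (a * x * a⁻¹) * m⁻¹ by group, hxX.2, hmx]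
      · rw [show m * a * y * (m * a)⁻¹ = m * (a * y * a⁻¹) * m⁻¹ by group, hay, ← conj_inv, e,
          inv_inv]
  have hgeven : 2 ∣ orderOf g := by
    by_contra hodd
    have hd : orderOf g ∣ 36 := hNc ▸ orderOf_mk g hgN ▸ orderOf_dvd_natCard _
    have h9 : orderOf g ∣ 3 ^ 2 := by
      have key : ∀ m ∈ Nat.divisors 36, ¬ 2 ∣ m → m ∣ 3 ^ 2 := by decide +kernel
      exact key _ (Nat.mem_divisors.2 ⟨hd, by norm_num⟩) hodd
    obtain ⟨k, -, hk⟩ := (Nat.dvd_prime_pow Nat.prime_three).1 h9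
    obtain ⟨R, hR⟩ : ∃ R : Sylow 3 G, zpowers g ≤ (R : Subgroup G) :=
      (IsPGroup.of_card (n := k) (by rw [Nat.card_zpowers, hk])).exists_le_sylow
    have hgP := mem_of_smul_eq (hR (mem_zpowers g)) (Sylow.smul_eq_iff_mem_normalizer.2 hgN : g • P = P)
    have hxx : x = x⁻¹ := by
      rw [← hgx, hcommP g hgP x hxP, mul_inv_cancel_right]
    exact hx1 (hXY x hxX ⟨hxP, hxX.2.trans hxx⟩)
  set u := g ^ (orderOf g / 2) with hu
  have huo : orderOf u = 2 := by
    rw [hu, orderOf_pow_orderOf_div (orderOf_pos g).ne' hgeven]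
  have huy : Commute u y := Commute.pow_left (by rw [mul_inv_eq_iff_eq_mul] at hgy; exact hgy) _
  -- transport `y` into `C(a)`
  obtain ⟨k, hk⟩ := isConj_iff.1 (involutions_conj hG huo hao)
  have hy3 : orderOf y = 3 := by
    have h : orderOf (⟨y, hyY⟩ : Y) ∣ 3 := hY3 ▸ orderOf_dvd_natCard _
    rw [orderOf_mk] at h
    rcases (Nat.dvd_prime Nat.prime_three).1 h with h | h
    · exact absurd (orderOf_eq_one_iff.1 h) hy1
    · exact h
  have hay' : Commute a (k * y * k⁻¹) := by
    rw [← hk]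
    exact huy.map (MulAut.conj k).toMonoidHom
  obtain ⟨y', hy', hy'1, hconj⟩ : ∃ y' ∈ Y, y' ≠ 1 ∧ IsConj x y' := by
    have hky : IsConj (k * y * k⁻¹) y := (isConj_iff.2 ⟨k, rfl⟩ : IsConj y (k * y * k⁻¹)).symm
    rcases isConj_of_commute_involution hG hao hx (by rw [orderOf_conj_eq, hy3]) hax hay' with h | h
    · exact ⟨y, hyY, hy1, h.trans hky⟩
    · refine ⟨y⁻¹, inv_mem hyY, inv_ne_one.2 hy1, h.trans ?_⟩
      obtain ⟨l, hl⟩ := isConj_iff.1 hky
      exact isConj_iff.2 ⟨l, by rw [← conj_inv, hl]⟩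
  obtain ⟨l, hl⟩ := isConj_iff.1 hconj
  obtain ⟨n, hn, hne⟩ := P.conj_eq_normalizer_conj_of_mem x l⁻¹ hxP
    (by rw [inv_inv, hl]; exact hy'.1)
  rw [inv_inv, hl] at hne
  have hX' : y' ∈ X := by
    rw [hne]
    have h := hXinv n⁻¹ (inv_mem hn) x hxX
    rwa [inv_inv] at h
  exact hy'1 (hXY y' hX' hy')

theorem card_three_normalizer (hG : Cfsg.IsM11 G) (P : Sylow 3 G) :
    Nat.card (normalizer ((P : Subgroup G) : Set G)) = 144 := by
  have h := Basic.card_normalizer_mul P
  rw [three_count hG, hG.2] at h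
  omega

end Cfsg.Agent.M11Order
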