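import Mathlib
import Cfsg.Agent.Lib.M11Order.Three

/-!
# The 3-local structure of a simple group of order 7920
-/

set_option linter.style.haveILetI false

namespace Cfsg.Agent.M11Order

open Subgroup MulAction
open Cfsg.Agent.SmallSimple
open scoped IsMulCommutative Pointwise

variable {G : Type*} [Group G] [Finite G]

local instance factPrimeTwo6 : Fact (Nat.Prime 2) := ⟨Nat.prime_two⟩
local instance factPrimeThree6 : Fact (Nat.Prime 3) := ⟨Nat.prime_three⟩
local instance factPrimeFive6 : Fact (Nat.Prime 5) := ⟨by norm_num⟩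
local instance factPrimeEleven6 : Fact (Nat.Prime 11) := ⟨by norm_num⟩

theorem three_mul_comm (hG : Cfsg.IsM11 G) (P : Sylow 3 G) {u v : G} (hu : u ∈ (P : Subgroup G))
    (hv : v ∈ (P : Subgroup G)) : u * v = v * u :=
  haveI := sylow3_comm hG P
  congrArg Subtype.val (mul_comm' (⟨u, hu⟩ : (P : Subgroup G)) ⟨v, hv⟩)

theorem three_centralizer_eq (hG : Cfsg.IsM11 G) (P : Sylow 3 G) :
    centralizer ((P : Subgroup G) : Set G) = (P : Subgroup G) := by
  haveI := sylow3_comm hG P
  refine (eq_of_le_of_card_ge (le_centralizer _) ?_).symm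
  rw [card_sylow3_eq hG P]
  have h1 : Nat.card (centralizer ((P : Subgroup G) : Set G)) ∣ 144 :=
    card_three_normalizer hG P ▸ card_dvd_of_le (centralizer_le_normalizer _)
  have key : ∀ n ∈ Nat.divisors 144, ¬ 2 ∣ n → n ≤ 9 := by decide +kernel
  exact key _ (Nat.mem_divisors.2 ⟨h1, by norm_num⟩) (card_three_centralizer_odd hG P)

/-- An element of order prime to three centralising `P` is trivial. -/
theorem eq_one_of_centralizes (hG : Cfsg.IsM11 G) (P : Sylow 3 G) {v : G} {n : ℕ} (hv : v ^ n = 1)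
    (hn : Nat.Coprime n 9) (hc : ∀ w ∈ (P : Subgroup G), v * w = w * v) : v = 1 := by
  have hvP : v ∈ (P : Subgroup G) := by
    rw [← three_centralizer_eq hG P]
    exact mem_centralizer_iff.2 fun w hw => (hc w hw).symm
  refine orderOf_eq_one_iff.1 (Nat.eq_one_of_dvd_coprimes hn (orderOf_dvd_of_pow_eq_one hv) ?_)
  have := orderOf_dvd_natCard (⟨v, hvP⟩ : (P : Subgroup G))
  rwa [orderOf_mk, card_sylow3_eq hG P] at this

/-- An involution inverts what it moves to a conjugate. -/
theorem conj_quotient {a w : G} (haa : a * a = 1) :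
    a * (w⁻¹ * (a * w * a⁻¹)) * a⁻¹ = (a * w * a⁻¹)⁻¹ * w := by
  have hai : a⁻¹ = a := inv_eq_of_mul_eq_one_right haa
  calc a * (w⁻¹ * (a * w * a⁻¹)) * a⁻¹
      = (a * w * a⁻¹)⁻¹ * ((a * a) * w * (a * a)⁻¹) := by group
    _ = (a * w * a⁻¹)⁻¹ * w := by rw [haa]; group

/-- An involution of `N(P)` that centralises no non-trivial element of `P` inverts `P`. -/
theorem inverts_of_free (hG : Cfsg.IsM11 G) (P : Sylow 3 G) {a : G}
    (ha : a ∈ normalizer ((P : Subgroup G) : Set G)) (haa : a * a = 1)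
    (hfree : ∀ w ∈ (P : Subgroup G), a * w * a⁻¹ = w → w = 1) {p : G}
    (hp : p ∈ (P : Subgroup G)) : a * p * a⁻¹ = p⁻¹ := by
  have hap : a * p * a⁻¹ ∈ (P : Subgroup G) := (mem_normalizer_iff.1 ha p).1 hp
  have h := hfree (p * (a * p * a⁻¹)) (mul_mem hp hap) (by
    calc a * (p * (a * p * a⁻¹)) * a⁻¹ = (a * p * a⁻¹) * ((a * a) * p * (a * a)⁻¹) := by group
      _ = (a * p * a⁻¹) * p := by rw [haa]; group
      _ = p * (a * p * a⁻¹) := three_mul_comm hG P hap hp)
  exact eq_inv_of_mul_eq_one_right h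

theorem card_inverted_le (hG : Cfsg.IsM11 G) (P : Sylow 3 G) {Y : Subgroup G}
    (hY : Y ≤ (P : Subgroup G)) {y x : G} (hy : y ∈ Y) (hy1 : y ≠ 1) (hx : x ∈ (P : Subgroup G))
    (hxY : x ∉ Y) : Nat.card Y = 3 := by
  have h1 : Nat.card Y ∣ 9 := card_sylow3_eq hG P ▸ card_dvd_of_le hY
  have key : ∀ m ∈ Nat.divisors 9, m = 1 ∨ m = 3 ∨ m = 9 := by decide +kernel
  rcases key _ (Nat.mem_divisors.2 ⟨h1, by norm_num⟩) with h | h | h
  · exact absurd (Subgroup.mem_bot.1 (card_eq_one.1 h ▸ hy)) hy1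
  · exact h
  · exact absurd ((eq_of_le_of_card_ge hY (by rw [h, card_sylow3_eq hG P])).symm ▸ hx) hxY

/-- No subgroup of order four of `N(P)` centralises a non-trivial element of `P`. -/
theorem not_four_fix (hG : Cfsg.IsM11 G) (P : Sylow 3 G) {x : G} (hx : x ∈ (P : Subgroup G))
    (hx1 : x ≠ 1) {V : Subgroup G} (hV : Nat.card V = 4)
    (hVN : V ≤ normalizer ((P : Subgroup G) : Set G)) (hVx : ∀ v ∈ V, v * x = x * v) : False := by
  obtain ⟨⟨a, haV⟩, hao⟩ := exists_prime_orderOf_dvd_card' (G := V) 2 (by rw [hV]; norm_num)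
  rw [orderOf_mk] at hao
  have haa : a * a = 1 := by rw [← sq]; exact hao ▸ pow_orderOf_eq_one a
  have ha1 : a ≠ 1 := fun e => by rw [e, orderOf_one] at hao; norm_num at hao
  obtain ⟨w, hw, hwa⟩ : ∃ w ∈ (P : Subgroup G), a * w * a⁻¹ ≠ w := by
    by_contra hall
    push Not at hall
    exact ha1 (eq_one_of_centralizes hG P (n := 2) (by rw [sq, haa]) (by norm_num)
      fun w hw => mul_inv_eq_iff_eq_mul.1 (hall w hw))
  set y := w⁻¹ * (a * w * a⁻¹) with hy
  have hy1 : y ≠ 1 := fun e => hwa (inv_mul_eq_one.1 e).symm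
  have hyP : y ∈ (P : Subgroup G) := mul_mem (inv_mem hw) ((mem_normalizer_iff.1 (hVN haV) w).1 hw)
  have hay : a * y * a⁻¹ = y⁻¹ := by
    rw [hy]
    exact (conj_quotient haa).trans (by group)
  let Y : Subgroup G :=
    { carrier := {u | u ∈ (P : Subgroup G) ∧ a * u * a⁻¹ = u⁻¹}
      mul_mem' := fun {u v} hu hv => ⟨mul_mem hu.1 hv.1, by
        calc a * (u * v) * a⁻¹ = (a * u * a⁻¹) * (a * v * a⁻¹) := by group
          _ = (v * u)⁻¹ := by rw [hu.2, hv.2, mul_inv_rev]
          _ = (u * v)⁻¹ := by rw [three_mul_comm hG P hu.1 hv.1]⟩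
      one_mem' := ⟨one_mem _, by group⟩
      inv_mem' := fun {u} hu => ⟨inv_mem hu.1, by
        calc a * u⁻¹ * a⁻¹ = (a * u * a⁻¹)⁻¹ := by group
          _ = u⁻¹⁻¹ := by rw [hu.2]⟩ }
  have hxY : x ∉ Y := fun h => by
    have h2 : x = x⁻¹ := by rw [← h.2, hVx a haV, mul_inv_cancel_right]
    have h3 : orderOf (⟨x, hx⟩ : (P : Subgroup G)) ∣ 2 := orderOf_dvd_of_pow_eq_one (Subtype.ext (by
      push_cast
      rw [sq]
      exact mul_eq_one_iff_eq_inv.2 h2))
    have h9 := orderOf_dvd_natCard (⟨x, hx⟩ : (P : Subgroup G))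
    rw [card_sylow3_eq hG P] at h9
    rw [orderOf_mk] at h3 h9
    exact hx1 (orderOf_eq_one_iff.1 (Nat.eq_one_of_dvd_coprimes (by norm_num) h3 h9))
  have hY3 := card_inverted_le hG P (Y := Y) (fun u hu => hu.1) (show y ∈ Y from ⟨hyP, hay⟩) hy1 hx hxY
  have hVc : ∀ u ∈ V, ∀ v ∈ V, u * v = v * u := fun u hu v hv =>
    congrArg Subtype.val (IsPGroup.commutative_of_card_eq_prime_sq (p := 2) (by rw [hV]; norm_num)
      (⟨u, hu⟩ : V) ⟨v, hv⟩)
  have hdich : ∀ v ∈ V, v * y * v⁻¹ = y ∨ v * y * v⁻¹ = y⁻¹ := by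
    intro v hv
    refine eq_or_inv_of_card_three hY3 ⟨hyP, hay⟩ hy1 ⟨(mem_normalizer_iff.1 (hVN hv) y).1 hyP, ?_⟩
      (fun e => hy1 (conj_eq_one_iff.1 e))
    calc a * (v * y * v⁻¹) * a⁻¹ = (a * v) * y * (a * v)⁻¹ := by group
      _ = (v * a) * y * (v * a)⁻¹ := by rw [hVc a haV v hv]
      _ = v * (a * y * a⁻¹) * v⁻¹ := by group
      _ = (v * y * v⁻¹)⁻¹ := by rw [hay, conj_inv]
  -- an element centralising `x` and `y` centralises `P`
  have htriv : ∀ v ∈ V, v * y * v⁻¹ = y → v = 1 := by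
    intro v hv hvy
    have hv4 : v ^ 4 = 1 := by
      have h' : (⟨v, hv⟩ : V) ^ Nat.card V = 1 := pow_card_eq_one'
      rw [hV] at h'
      exact congrArg Subtype.val h'
    refine eq_one_of_centralizes hG P hv4 (by norm_num) fun u hu => ?_
    have hP : (P : Subgroup G) ≤ centralizer ({v} : Set G) := by
      have hle : Y ≤ centralizer ({v} : Set G) := fun u hu => by
        rcases eq_or_ne u 1 with rfl | hu1
        · exact one_mem _
        have hvy' : y ∈ centralizer ({v} : Set G) :=
          mem_centralizer_singleton_iff.2 (mul_inv_eq_iff_eq_mul.1 hvy).symm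
        rcases eq_or_inv_of_card_three hY3 (show y ∈ Y from ⟨hyP, hay⟩) hy1 hu hu1 with rfl | rfl
        · exact hvy'
        · exact inv_mem hvy'
      set D := (P : Subgroup G) ⊓ centralizer ({v} : Set G)
      have hYD : Y ≤ D := le_inf (fun u hu => hu.1) hle
      have hxD : x ∈ D := ⟨hx, mem_centralizer_singleton_iff.2 (hVx v hv).symm⟩
      have hD9 : Nat.card D = 9 := by
        have h1 : Nat.card D ∣ 9 := card_sylow3_eq hG P ▸ card_dvd_of_le inf_le_left
        have h3 : 3 ∣ Nat.card D := hY3 ▸ card_dvd_of_le hYD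
        have h4 : Nat.card D ≠ 3 := fun h => hxY ((eq_of_le_of_card_ge hYD (by rw [h, hY3])).symm ▸ hxD)
        have key : ∀ m ∈ Nat.divisors 9, 3 ∣ m → m ≠ 3 → m = 9 := by decide +kernel
        exact key _ (Nat.mem_divisors.2 ⟨h1, by norm_num⟩) h3 h4
      exact (eq_of_le_of_card_ge (inf_le_left : D ≤ _) (by rw [hD9, card_sylow3_eq hG P])).ge.trans
        inf_le_right
    exact (mem_centralizer_singleton_iff.1 (hP hu)).symm
  -- at most two elements
  have hsub : ∀ v ∈ V, v = 1 ∨ v = a := by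
    intro v hv
    rcases hdich v hv with h | h
    · exact Or.inl (htriv v hv h)
    · right
      have h' := htriv (a * v) (mul_mem haV hv) (by
        rw [show a * v * y * (a * v)⁻¹ = a * (v * y * v⁻¹) * a⁻¹ by group, h, ← conj_inv, hay,
          inv_inv])
      rw [mul_eq_one_iff_eq_inv] at h'
      exact inv_injective (h'.symm.trans (inv_eq_of_mul_eq_one_right haa).symm)
  have hle := Nat.card_le_card_of_surjective (fun b : Bool => if b then (⟨a, haV⟩ : V) else 1) (by
    rintro ⟨v, hv⟩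
    rcases hsub v hv with rfl | rfl
    · exact ⟨false, rfl⟩
    · exact ⟨true, rfl⟩)
  rw [hV, Nat.card_eq_fintype_card, Fintype.card_bool] at hle
  norm_num at hle

theorem card_inf_centralizer (hG : Cfsg.IsM11 G) (P : Sylow 3 G) {x : G}
    (hx : x ∈ (P : Subgroup G)) (hx1 : x ≠ 1) :
    Nat.card ↥(normalizer ((P : Subgroup G) : Set G) ⊓ centralizer ({x} : Set G)) = 18 := by
  classical
  set N := normalizer ((P : Subgroup G) : Set G)
  set K := N ⊓ centralizer ({x} : Set G) with hK
  have hN := card_three_normalizer hG P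
  have h9 : 9 ∣ Nat.card K := card_sylow3_eq hG P ▸ card_dvd_of_le (le_inf le_normalizer fun z hz =>
    mem_centralizer_singleton_iff.2 (three_mul_comm hG P hz hx))
  have hd : Nat.card K ∣ 144 := hN ▸ card_dvd_of_le inf_le_left
  have h4 : ¬ 4 ∣ Nat.card K := fun h => by
    obtain ⟨V, hVK, hV⟩ := exists_le_card (q := 2) (n := 2) h
    exact not_four_fix hG P hx hx1 hV (hVK.trans inf_le_left) fun v hv =>
      mem_centralizer_singleton_iff.1 (hVK hv).2
  have key : ∀ m ∈ Nat.divisors 144, 9 ∣ m → ¬ 4 ∣ m → m = 9 ∨ m = 18 := by decide +kernel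
  refine (key _ (Nat.mem_divisors.2 ⟨hd, by norm_num⟩) h9 h4).resolve_left fun h => ?_
  -- an orbit of sixteen elements does not fit into eight
  have hidx : (K.subgroupOf N).index = 16 := by
    have h' := (K.subgroupOf N).card_mul_index
    rw [Nat.card_congr (subgroupOfEquivOfLe (inf_le_left : K ≤ N)).toEquiv, h, hN] at h'
    omega
  let f : N ⧸ K.subgroupOf N → (P : Subgroup G) := Quotient.lift
    (fun g : N => (⟨(g : G) * x * (g : G)⁻¹, (mem_normalizer_iff.1 g.2 x).1 hx⟩ : (P : Subgroup G)))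
    (by
      intro g g' hgg
      replace hgg := QuotientGroup.leftRel_apply.1 hgg
      rw [mem_subgroupOf] at hgg
      have h2 := mem_centralizer_singleton_iff.1 hgg.2
      simp only [Subgroup.coe_mul, InvMemClass.coe_inv] at h2
      apply Subtype.ext
      calc (g : G) * x * (g : G)⁻¹ = g * (x * ((g : G)⁻¹ * g')) * (g' : G)⁻¹ := by group
        _ = g * ((g : G)⁻¹ * g' * x) * (g' : G)⁻¹ := by rw [h2]
        _ = (g' : G) * x * (g' : G)⁻¹ := by group)
  have hinj : Function.Injective f := by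
    intro a b hab
    induction a using QuotientGroup.induction_on with | _ g => ?_
    induction b using QuotientGroup.induction_on with | _ g' => ?_
    have hab' : (g : G) * x * (g : G)⁻¹ = (g' : G) * x * (g' : G)⁻¹ := congrArg Subtype.val hab
    rw [QuotientGroup.eq, mem_subgroupOf]
    refine ⟨N.mul_mem (N.inv_mem g.2) g'.2, mem_centralizer_singleton_iff.2 ?_⟩
    simp only [Subgroup.coe_mul, InvMemClass.coe_inv]
    calc (g : G)⁻¹ * g' * x = (g : G)⁻¹ * ((g' : G) * x * (g' : G)⁻¹) * g' := by group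
      _ = (g : G)⁻¹ * ((g : G) * x * (g : G)⁻¹) * g' := by rw [hab']
      _ = x * ((g : G)⁻¹ * g') := by group
  have hle := Nat.card_le_card_of_injective f hinj
  rw [card_sylow3_eq hG P] at hle
  change (K.subgroupOf N).index ≤ 9 at hle
  omega

theorem relIndex_three_cases (hG : Cfsg.IsM11 G) (P : Sylow 3 G) {x : G}
    (hx : x ∈ (P : Subgroup G)) (hx1 : x ≠ 1) :
    Nat.card (centralizer ({x} : Set G)) = 18 ∨ (Nat.card (centralizer ({x} : Set G)) = 72 ∧
      Nat.card {Q : Sylow 3 G // x • Q = Q} = 4) := by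
  classical
  haveI := hG.1
  set N := normalizer ((P : Subgroup G) : Set G) with hN
  set H := centralizer ({x} : Set G) with hH
  have hPH : (P : Subgroup G) ≤ H := fun z hz =>
    mem_centralizer_singleton_iff.2 (three_mul_comm hG P hz hx)
  have hK := card_inf_centralizer hG P hx hx1
  have hmod := FixedPoints.relIndex_normalizer_mod P hPH
  have hHc : Nat.card H = 18 * N.relIndex H := by
    have h := relIndex_mul_relIndex ⊥ (N ⊓ H) H bot_le inf_le_right
    rw [relIndex_bot_left, relIndex_bot_left, hK, inf_relIndex_right] at h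
    exact h.symm
  have hHd : Nat.card H ∣ 7920 := hG.2 ▸ card_subgroup_dvd_card H
  have h5H : ¬ 5 ∣ Nat.card H := fun h => by
    obtain ⟨⟨y, hy⟩, hyo⟩ := exists_prime_orderOf_dvd_card' (G := H) 5 h
    rw [orderOf_mk] at hyo
    obtain ⟨Q, hQ⟩ : ∃ Q : Sylow 5 G, zpowers y ≤ (Q : Subgroup G) :=
      (IsPGroup.of_card (n := 1) (by rw [Nat.card_zpowers, hyo, pow_one])).exists_le_sylow
    have hy1 : y ≠ 1 := fun e => by rw [e, orderOf_one] at hyo; norm_num at hyo
    have hxQ : x ∈ (Q : Subgroup G) := by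
      rw [← (five_data hG Q).2.1.centralizer_eq y (hQ (mem_zpowers y)) hy1]
      exact mem_centralizer_singleton_iff.2 (mem_centralizer_singleton_iff.1 hy).symm
    have h5 := orderOf_dvd_natCard (⟨x, hxQ⟩ : (Q : Subgroup G))
    have h9 := orderOf_dvd_natCard (⟨x, hx⟩ : (P : Subgroup G))
    rw [orderOf_mk, card_sylow5_eq hG Q] at h5
    rw [orderOf_mk, card_sylow3_eq hG P] at h9
    exact hx1 (orderOf_eq_one_iff.1 (Nat.eq_one_of_dvd_coprimes (by norm_num) h5 h9))
  have h11H : ¬ 11 ∣ Nat.card H := fun h => by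
    obtain ⟨⟨y, hy⟩, hyo⟩ := exists_prime_orderOf_dvd_card' (G := H) 11 h
    rw [orderOf_mk] at hyo
    have hxy : x ∈ centralizer ({y} : Set G) :=
      mem_centralizer_singleton_iff.2 (mem_centralizer_singleton_iff.1 hy).symm
    have h11 := (orderOf_dvd_natCard (⟨x, hxy⟩ : centralizer ({y} : Set G)))
    rw [orderOf_mk] at h11
    have h9 := orderOf_dvd_natCard (⟨x, hx⟩ : (P : Subgroup G))
    rw [orderOf_mk, card_sylow3_eq hG P] at h9
    exact hx1 (orderOf_eq_one_iff.1 (Nat.eq_one_of_dvd_coprimes (by norm_num)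
      (not_eleven_centralizer hG hyo h11) h9))
  have hm : N.relIndex H = 1 ∨ N.relIndex H = 4 := by
    have hd : N.relIndex H ∣ 440 := by
      rw [hHc] at hHd
      exact (Nat.mul_dvd_mul_iff_left (by norm_num : 0 < 18)).1 (by norm_num; exact hHd)
    have key : ∀ m ∈ Nat.divisors 440, m % 3 = 1 → ¬ 5 ∣ 18 * m → ¬ 11 ∣ 18 * m →
        m = 1 ∨ m = 4 := by decide +kernel
    exact key _ (Nat.mem_divisors.2 ⟨hd, by norm_num⟩) hmod (hHc ▸ h5H) (hHc ▸ h11H)
  rcases hm with h | h
  · exact Or.inl (by rw [hHc, h])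
  refine Or.inr ⟨by rw [hHc, h], ?_⟩
  -- the Sylow subgroups through `x` are those of `C(x)`
  have hin : ∀ Q : Sylow 3 G, x • Q = Q → (Q : Subgroup G) ≤ H := fun Q hQ z hz =>
    mem_centralizer_singleton_iff.2 (three_mul_comm hG Q hz (mem_of_smul_eq hx hQ))
  have hcard : Nat.card (Sylow 3 H) = 4 := by
    have h1 := Basic.card_normalizer_mul (P.subtype hPH)
    have h2 : Nat.card (normalizer (((P.subtype hPH : Sylow 3 H) : Subgroup H) : Set H)) = 18 := by
      rw [← hK, ← card_map_of_injective H.subtype_injective]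
      congr 2
      ext u
      rw [Subgroup.mem_map]
      constructor
      · rintro ⟨u, hu, rfl⟩
        refine ⟨mem_normalizer_iff.2 fun z => ?_, u.2⟩
        by_cases hz : z ∈ H
        · have h' := mem_normalizer_iff.1 hu ⟨z, hz⟩
          simp only [Sylow.coe_subtype, mem_subgroupOf] at h'
          exact h'
        · refine iff_of_false (fun h => hz (hPH h)) (fun h => hz ?_)
          have := H.mul_mem (H.mul_mem (H.inv_mem u.2) (hPH h)) u.2
          simpa [mul_assoc] using this
      · rintro ⟨hu, huH⟩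
        refine ⟨⟨u, huH⟩, mem_normalizer_iff.2 fun z => ?_, rfl⟩
        simp only [Sylow.coe_subtype, mem_subgroupOf]
        exact mem_normalizer_iff.1 hu (z : G)
    rw [h2, hHc, h] at h1
    omega
  rw [← hcard]
  refine Nat.card_eq_of_bijective (fun Q => Q.1.subtype (hin Q.1 Q.2))
    ⟨fun R S hRS => Subtype.ext (Sylow.subtype_injective hRS), fun S => ?_⟩
  obtain ⟨R, hR⟩ := S.isPGroup'.map H.subtype |>.exists_le_sylow
  have hScard : Nat.card ((S : Subgroup H).map H.subtype) = 9 := by
    rw [card_map_of_injective H.subtype_injective, S.card_eq_multiplicity,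
      ← (P.subtype hPH).card_eq_multiplicity, Sylow.coe_subtype,
      Nat.card_congr (subgroupOfEquivOfLe hPH).toEquiv, card_sylow3_eq hG P]
  have heq := eq_of_le_of_card_ge hR (by rw [hScard, card_sylow3_eq hG R])
  have hxS : (⟨x, mem_centralizer_singleton_iff.2 rfl⟩ : H) ∈ (S : Subgroup H) := by
    obtain ⟨U, hU⟩ : ∃ U : Sylow 3 H, zpowers (⟨x, mem_centralizer_singleton_iff.2 rfl⟩ : H) ≤ (U : Subgroup H) :=
      ⟨P.subtype hPH, zpowers_le.2 hx⟩
    exact mem_of_smul_eq (hU (mem_zpowers _)) (Sylow.smul_eq_iff_mem_normalizer.2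
      (centralizer_le_normalizer _ (mem_centralizer_iff.2 fun z _ => Subtype.ext
        (mem_centralizer_singleton_iff.1 z.2))))
  have hxR : x ∈ (R : Subgroup G) := hR ⟨_, hxS, rfl⟩
  refine ⟨⟨R, smul_eq_of_mem hxR⟩, Sylow.ext ?_⟩
  show (R : Subgroup G).subgroupOf H = (S : Subgroup H)
  rw [subgroupOf, ← heq, comap_map_eq_self_of_injective H.subtype_injective]

theorem card_three_centralizer (hG : Cfsg.IsM11 G) (P : Sylow 3 G) {x : G}
    (hx : x ∈ (P : Subgroup G)) (hx1 : x ≠ 1) :
    Nat.card (centralizer ({x} : Set G)) = 18 ∧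
      centralizer ({x} : Set G) ≤ normalizer ((P : Subgroup G) : Set G) := by
  classical
  haveI := hG.1
  set N := normalizer ((P : Subgroup G) : Set G) with hN
  have h18 : Nat.card (centralizer ({x} : Set G)) = 18 := by
    refine (relIndex_three_cases hG P hx hx1).resolve_right fun ⟨h72, _⟩ => ?_
    -- all of `P#` is one class of `N`, so each element fixes four Sylow subgroups
    haveI := Fintype.ofFinite (P : Subgroup G)
    let K := N ⊓ centralizer ({x} : Set G)
    have hK : Nat.card K = 18 := card_inf_centralizer hG P hx hx1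
    have hidx : (K.subgroupOf N).index = 8 := by
      have h' := (K.subgroupOf N).card_mul_index
      rw [Nat.card_congr (subgroupOfEquivOfLe (inf_le_left : K ≤ N)).toEquiv, hK,
        card_three_normalizer hG P] at h'
      omega
    have htrans : ∀ w ∈ (P : Subgroup G), w ≠ 1 → ∃ g : G, g * x * g⁻¹ = w := by
      intro w hw hw1
      let f : N ⧸ K.subgroupOf N → {p : (P : Subgroup G) // p ≠ 1} := Quotient.lift
        (fun g : N => (⟨⟨(g : G) * x * (g : G)⁻¹, (mem_normalizer_iff.1 g.2 x).1 hx⟩,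
          fun e => hx1 (conj_eq_one_iff.1 (congrArg Subtype.val e))⟩ : {p : (P : Subgroup G) // p ≠ 1}))
        (by
          intro g g' hgg
          replace hgg := QuotientGroup.leftRel_apply.1 hgg
          rw [mem_subgroupOf] at hgg
          have h2 := mem_centralizer_singleton_iff.1 hgg.2
          simp only [Subgroup.coe_mul, InvMemClass.coe_inv] at h2
          apply Subtype.ext
          apply Subtype.ext
          calc (g : G) * x * (g : G)⁻¹ = g * (x * ((g : G)⁻¹ * g')) * (g' : G)⁻¹ := by group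
            _ = g * ((g : G)⁻¹ * g' * x) * (g' : G)⁻¹ := by rw [h2]
            _ = (g' : G) * x * (g' : G)⁻¹ := by group)
      have hinj : Function.Injective f := by
        intro a b hab
        induction a using QuotientGroup.induction_on with | _ g => ?_
        induction b using QuotientGroup.induction_on with | _ g' => ?_
        have hab' : (g : G) * x * (g : G)⁻¹ = (g' : G) * x * (g' : G)⁻¹ :=
          congrArg (fun p : {p : (P : Subgroup G) // p ≠ 1} => ((p.1 : (P : Subgroup G)) : G)) hab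
        rw [QuotientGroup.eq, mem_subgroupOf]
        refine ⟨N.mul_mem (N.inv_mem g.2) g'.2, mem_centralizer_singleton_iff.2 ?_⟩
        simp only [Subgroup.coe_mul, InvMemClass.coe_inv]
        calc (g : G)⁻¹ * g' * x = (g : G)⁻¹ * ((g' : G) * x * (g' : G)⁻¹) * g' := by group
          _ = (g : G)⁻¹ * ((g : G) * x * (g : G)⁻¹) * g' := by rw [hab']
          _ = x * ((g : G)⁻¹ * g') := by group
      have hbij : Function.Bijective f := hinj.bijective_of_nat_card_le (by
        rw [Nat.card_eq_fintype_card, Fintype.card_subtype_compl, Fintype.card_subtype_eq,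
          ← Nat.card_eq_fintype_card, card_sylow3_eq hG P]
        change 9 - 1 ≤ (K.subgroupOf N).index
        omega)
      obtain ⟨a, ha⟩ := hbij.2 ⟨⟨w, hw⟩, fun e => hw1 (congrArg Subtype.val e)⟩
      induction a using QuotientGroup.induction_on with | _ g => ?_
      exact ⟨g, congrArg (fun p : {p : (P : Subgroup G) // p ≠ 1} => ((p.1 : (P : Subgroup G)) : G)) ha⟩
    have hall : ∀ r : (P : Subgroup G), r ≠ 1 → Nat.card {Q : Sylow 3 G // r • Q = Q} = 4 := by
      intro r hr
      have hr1 : (r : G) ≠ 1 := fun e => hr (Subtype.ext e)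
      refine ((relIndex_three_cases hG P r.2 hr1).resolve_left fun h => ?_).2
      obtain ⟨g, hg⟩ := htrans r r.2 hr1
      have e := Basic.card_centralizer_mul_card_class x
      have e' := Basic.card_centralizer_mul_card_class (r : G)
      have hsame : Nat.card {y : G // IsConj (r : G) y} = Nat.card {y : G // IsConj x y} :=
        Nat.card_congr (Equiv.subtypeEquivRight fun y =>
          ⟨fun h => (isConj_iff.2 ⟨g, hg⟩ : IsConj x r).trans h,
            fun h => ((isConj_iff.2 ⟨g, hg⟩ : IsConj x r).symm).trans h⟩)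
      rw [hsame, h] at e'
      rw [h72] at e
      rw [hG.2] at e e'
      omega
    have := dvd_of_fixed_eq (R := (P : Subgroup G)) (α := Sylow 3 G) (k := 4) hall
    rw [card_sylow3_eq hG P, three_count hG] at this
    norm_num at this
  refine ⟨h18, ?_⟩
  have h : N ⊓ centralizer ({x} : Set G) = centralizer ({x} : Set G) :=
    eq_of_le_of_card_ge inf_le_right (by rw [card_inf_centralizer hG P hx hx1, h18])
  exact h ▸ inf_le_left

/-- A non-trivial element of a Sylow 3-subgroup fixes only that one. -/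
theorem eq_of_mem_three (hG : Cfsg.IsM11 G) {P Q : Sylow 3 G} {x : G}
    (hxP : x ∈ (P : Subgroup G)) (hxQ : x ∈ (Q : Subgroup G)) (hx1 : x ≠ 1) : Q = P := by
  have hle : (Q : Subgroup G) ≤ centralizer ({x} : Set G) := fun z hz =>
    mem_centralizer_singleton_iff.2 (three_mul_comm hG Q hz hxQ)
  have hN := hle.trans (card_three_centralizer hG P hxP hx1).2
  refine Sylow.ext (eq_of_le_of_card_ge (fun z hz => ?_) (by rw [card_sylow3_eq hG P, card_sylow3_eq hG Q]))
  exact mem_of_smul_eq hz (Sylow.smul_eq_iff_mem_normalizer.2 (hN hz))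

theorem smul_eq_three (hG : Cfsg.IsM11 G) {P Q : Sylow 3 G} {x : G}
    (hxP : x ∈ (P : Subgroup G)) (hx1 : x ≠ 1) (h : x • Q = Q) : Q = P :=
  eq_of_mem_three hG hxP (mem_of_smul_eq hxP h) hx1

/-- The centralizer of an involution in a Sylow normaliser: no element of order three, or order at
most twelve. -/
theorem card_involution_inf_le (hG : Cfsg.IsM11 G) (Q : Sylow 3 G) {u : G} (hu : orderOf u = 2) :
    Nat.card ↥(normalizer ((Q : Subgroup G) : Set G) ⊓ centralizer ({u} : Set G)) ≤ 16 := by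
  set N := normalizer ((Q : Subgroup G) : Set G) with hN
  set K := N ⊓ centralizer ({u} : Set G) with hK
  have h48 : Nat.card K ∣ 48 := card_involution_centralizer hG hu ▸ card_dvd_of_le inf_le_right
  by_contra hlt
  push Not at hlt
  have hK' : Nat.card K = 24 ∨ Nat.card K = 48 := by
    have key : ∀ m ∈ Nat.divisors 48, 16 < m → m = 24 ∨ m = 48 := by decide +kernel
    exact key _ (Nat.mem_divisors.2 ⟨h48, by norm_num⟩) hlt
  obtain ⟨⟨x, hxK⟩, hxo⟩ := exists_prime_orderOf_dvd_card' (G := K) 3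
    (by rcases hK' with h | h <;> omega)
  rw [orderOf_mk] at hxo
  obtain ⟨R, hR⟩ : ∃ R : Sylow 3 G, zpowers x ≤ (R : Subgroup G) :=
    (IsPGroup.of_card (n := 1) (by rw [Nat.card_zpowers, hxo, pow_one])).exists_le_sylow
  have hxQ : x ∈ (Q : Subgroup G) :=
    mem_of_smul_eq (hR (mem_zpowers x)) (Sylow.smul_eq_iff_mem_normalizer.2 hxK.1)
  have hx1 : x ≠ 1 := fun e => by rw [e, orderOf_one] at hxo; norm_num at hxo
  -- `K` fixes `Q ⊓ C(u)`, which has order three
  set X := (Q : Subgroup G) ⊓ centralizer ({u} : Set G) with hX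
  have hX3 : Nat.card X = 3 := by
    have h1 : Nat.card X ∣ 9 := card_sylow3_eq hG Q ▸ card_dvd_of_le inf_le_left
    have h2 : Nat.card X ∣ 48 := card_involution_centralizer hG hu ▸ card_dvd_of_le inf_le_right
    have h3 : 3 ∣ Nat.card X := by
      have := orderOf_dvd_natCard (⟨x, hxQ, hxK.2⟩ : X)
      rw [← orderOf_coe] at this
      exact hxo ▸ this
    exact Nat.dvd_antisymm (Nat.dvd_gcd h1 h2) h3
  have hdich : ∀ k ∈ K, k * x * k⁻¹ = x ∨ k * x * k⁻¹ = x⁻¹ := by
    intro k hk
    have hkN : k * x * k⁻¹ ∈ (Q : Subgroup G) := (mem_normalizer_iff.1 hk.1 x).1 hxQ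
    exact eq_or_inv_of_card_three hX3 (⟨hxQ, hxK.2⟩ : x ∈ X) hx1
      ⟨hkN, (mem_normalizer_iff.1 (le_normalizer hk.2) x).1 hxK.2⟩
      (fun e => hx1 (conj_eq_one_iff.1 e))
  have hrel : Nat.card K ≤ 2 * Nat.card ↥(K ⊓ centralizer ({x} : Set G)) := by
    classical
    have h := (((K ⊓ centralizer ({x} : Set G))).subgroupOf K).card_mul_index
    rw [Nat.card_congr (subgroupOfEquivOfLe (inf_le_left : K ⊓ _ ≤ K)).toEquiv] at h
    have hidx : ((K ⊓ centralizer ({x} : Set G)).subgroupOf K).index ≤ 2 := by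
      let f : K ⧸ (K ⊓ centralizer ({x} : Set G)).subgroupOf K → Bool :=
        fun c => decide ((c.out : G) * x * (c.out : G)⁻¹ = x)
      have hinj : Function.Injective f := by
        intro c d hcd
        rw [← QuotientGroup.out_eq' c, ← QuotientGroup.out_eq' d, QuotientGroup.eq, mem_subgroupOf]
        refine ⟨(c.out⁻¹ * d.out).2, mem_centralizer_singleton_iff.2 ?_⟩
        have hcd' : (c.out : G) * x * (c.out : G)⁻¹ = (d.out : G) * x * (d.out : G)⁻¹ := by
          rcases hdich c.out c.out.2 with h1 | h1 <;> rcases hdich d.out d.out.2 with h2 | h2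
          · rw [h1, h2]
          · rw [h1, h2]
            simpa [f, h1, h2, eq_comm] using hcd
          · rw [h1, h2]
            simpa [f, h1, h2, eq_comm] using hcd
          · rw [h1, h2]
        simp only [Subgroup.coe_mul, InvMemClass.coe_inv]
        calc (c.out : G)⁻¹ * d.out * x = (c.out : G)⁻¹ * ((d.out : G) * x * (d.out : G)⁻¹) * d.out := by
              group
          _ = (c.out : G)⁻¹ * ((c.out : G) * x * (c.out : G)⁻¹) * d.out := by rw [hcd']
          _ = x * ((c.out : G)⁻¹ * d.out) := by group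
      have hle := Nat.card_le_card_of_injective f hinj
      rw [Nat.card_eq_fintype_card (α := Bool), Fintype.card_bool] at hle
      exact hle
    calc Nat.card K = _ := h.symm
      _ ≤ Nat.card ↥(K ⊓ centralizer ({x} : Set G)) * 2 := Nat.mul_le_mul_left _ hidx
      _ = _ := mul_comm _ _
  have h18 : Nat.card ↥(K ⊓ centralizer ({x} : Set G)) ∣ 18 :=
    (card_three_centralizer hG Q hxQ hx1).1 ▸ card_dvd_of_le inf_le_right
  have h48' : Nat.card ↥(K ⊓ centralizer ({x} : Set G)) ∣ 48 := (card_dvd_of_le inf_le_left).trans h48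
  have h6 : Nat.card ↥(K ⊓ centralizer ({x} : Set G)) ≤ 6 :=
    Nat.le_of_dvd (by norm_num) (Nat.dvd_gcd h18 h48' : _ ∣ Nat.gcd 18 48)
  omega

end Cfsg.Agent.M11Order
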