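import Mathlib
import Cfsg.Agent.Lib.M11Order.Local

/-!
# A frame: a central involution of a Sylow 2-subgroup of a Sylow 3-normaliser and its triangle
-/

set_option linter.style.haveILetI false

namespace Cfsg.Agent.M11Order

open Subgroup MulAction
open Cfsg.Agent.SmallSimple
open scoped IsMulCommutative Pointwise

variable {G : Type*} [Group G] [Finite G]

local instance factPrimeTwo7 : Fact (Nat.Prime 2) := ⟨Nat.prime_two⟩
local instance factPrimeThree7 : Fact (Nat.Prime 3) := ⟨Nat.prime_three⟩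

/-- An involution `z` inverting a Sylow 3-subgroup `P`, with centraliser of order 16 in `N(P)`. -/
structure Frame (G : Type*) [Group G] where
  /-- The Sylow 3-subgroup. -/
  P : Sylow 3 G
  /-- The involution. -/
  z : G
  /-- Its centraliser in `N(P)`. -/
  T : Subgroup G
  hz : orderOf z = 2
  hT : T = normalizer ((P : Subgroup G) : Set G) ⊓ centralizer ({z} : Set G)
  cardT : Nat.card T = 16
  inv : ∀ p ∈ (P : Subgroup G), z * p * z⁻¹ = p⁻¹

theorem exists_frame (hG : Cfsg.IsM11 G) : Nonempty (Frame G) := by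
  classical
  haveI := hG.1
  have P : Sylow 3 G := default
  set N := normalizer ((P : Subgroup G) : Set G) with hN
  obtain ⟨T, hTN, hT⟩ := exists_le_card (H := N) (q := 2) (n := 4)
    (by rw [card_three_normalizer hG P]; norm_num)
  norm_num at hT
  have hTp : IsPGroup 2 T := IsPGroup.of_card (n := 4) (by rw [hT]; norm_num)
  haveI : Nontrivial T := Finite.one_lt_card_iff_nontrivial.1 (by rw [hT]; norm_num)
  haveI := hTp.center_nontrivial
  obtain ⟨⟨⟨c, hc⟩, hcc⟩, hco⟩ := exists_prime_orderOf_dvd_card' (G := Subgroup.center T) 2 (by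
    obtain ⟨n, hn, hn'⟩ := (hTp.to_subgroup (Subgroup.center T)).nontrivial_iff_card.1 inferInstance
    rw [hn']
    exact dvd_pow_self 2 hn.ne')
  rw [orderOf_mk, orderOf_mk] at hco
  have hTc : T ≤ N ⊓ centralizer ({c} : Set G) := fun s hs => ⟨hTN hs,
    mem_centralizer_singleton_iff.2 (congrArg Subtype.val (Subgroup.mem_center_iff.1 hcc ⟨s, hs⟩))⟩
  have hle := card_involution_inf_le hG P hco
  have hcard : Nat.card ↥(N ⊓ centralizer ({c} : Set G)) = 16 :=
    le_antisymm hle (hT ▸ Nat.le_of_dvd Nat.card_pos (card_dvd_of_le hTc))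
  refine ⟨⟨P, c, N ⊓ centralizer ({c} : Set G), hco, rfl, hcard, fun p hp => ?_⟩⟩
  refine inverts_of_free hG P (hTN hc) (by rw [← sq]; exact hco ▸ pow_orderOf_eq_one c)
    (fun w hw hwc => ?_) hp
  rw [mul_inv_eq_iff_eq_mul] at hwc
  have h16 := orderOf_dvd_natCard (⟨w, le_normalizer hw, mem_centralizer_singleton_iff.2 hwc.symm⟩ :
    ↥(N ⊓ centralizer ({c} : Set G)))
  have h9 := orderOf_dvd_natCard (⟨w, hw⟩ : (P : Subgroup G))
  rw [← orderOf_coe, hcard] at h16
  rw [orderOf_mk, card_sylow3_eq hG P] at h9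
  exact orderOf_eq_one_iff.1 (Nat.eq_one_of_dvd_coprimes (by norm_num) h16 h9)

theorem smul_smul_inv_mem {Q : Sylow 3 G} {g u : G} (hu : u • (g • Q) = g • Q) :
    (g⁻¹ * u * g) • Q = Q := by
  rw [mul_smul, mul_smul, hu, inv_smul_smul]

namespace Frame

variable (F : Frame G) (hG : Cfsg.IsM11 G)

theorem zz : F.z * F.z = 1 := by rw [← sq]; exact F.hz ▸ pow_orderOf_eq_one F.z

theorem z_inv : F.z⁻¹ = F.z := inv_eq_of_mul_eq_one_right F.zz

theorem mem_T {s : G} : s ∈ F.T ↔ s • F.P = F.P ∧ s * F.z = F.z * s := by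
  rw [F.hT, Subgroup.mem_inf, mem_centralizer_singleton_iff, Sylow.smul_eq_iff_mem_normalizer]
  rfl

theorem z_mem_normalizer : F.z ∈ normalizer ((F.P : Subgroup G) : Set G) := by
  refine mem_normalizer_iff.2 fun p => ⟨fun hp => F.inv p hp ▸ inv_mem hp, fun hp => ?_⟩
  have h := F.inv _ hp
  rw [show F.z * (F.z * p * F.z⁻¹) * F.z⁻¹ = (F.z * F.z) * p * (F.z * F.z)⁻¹ by group, F.zz,
    one_mul, inv_one, mul_one] at h
  exact h ▸ inv_mem hp

theorem z_smul : F.z • F.P = F.P := Sylow.smul_eq_iff_mem_normalizer.2 F.z_mem_normalizer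

theorem z_mem : F.z ∈ F.T := F.mem_T.2 ⟨F.z_smul, rfl⟩

theorem T_two {s : G} (hs : s ∈ F.T) : s ^ 16 = 1 := by
  have h : (⟨s, hs⟩ : F.T) ^ Nat.card F.T = 1 := pow_card_eq_one'
  rw [F.cardT] at h
  exact congrArg Subtype.val h

include hG in
theorem P_inf_T {p : G} (hp : p ∈ (F.P : Subgroup G)) (hpT : p ∈ F.T) : p = 1 := by
  have h9 := orderOf_dvd_natCard (⟨p, hp⟩ : (F.P : Subgroup G))
  rw [orderOf_mk, card_sylow3_eq hG F.P] at h9
  exact orderOf_eq_one_iff.1 (Nat.eq_one_of_dvd_coprimes (by norm_num)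
    (orderOf_dvd_of_pow_eq_one (F.T_two hpT)) h9)

include hG in
/-- Two fixed points of `z` in one orbit of `P` are equal. -/
theorem eq_one_of_fixed {Q : Sylow 3 G} {p : G} (hp : p ∈ (F.P : Subgroup G)) (hQ : Q ≠ F.P)
    (h1 : F.z • Q = Q) (h2 : F.z • (p • Q) = p • Q) : p = 1 := by
  have h : (p * p) • Q = Q := by
    have h' : p⁻¹ • Q = p • Q := by
      rw [← F.inv p hp, mul_smul, mul_smul, inv_smul_eq_iff.2 h1.symm, h2]
    rw [mul_smul, ← h', smul_inv_smul]
  by_contra hp1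
  refine hQ (smul_eq_three hG (mul_mem hp hp) (fun e => hp1 ?_) h)
  have h9 := orderOf_dvd_natCard (⟨p, hp⟩ : (F.P : Subgroup G))
  rw [orderOf_mk, card_sylow3_eq hG F.P] at h9
  exact orderOf_eq_one_iff.1 (Nat.eq_one_of_dvd_coprimes (by norm_num)
    (orderOf_dvd_of_pow_eq_one (by rw [sq, e] : p ^ 2 = 1)) h9)

include hG in
theorem smul_ne_self {Q : Sylow 3 G} {p : G} (hp : p ∈ (F.P : Subgroup G)) (hQ : Q ≠ F.P) :
    p • Q ≠ F.P := fun h => hQ (by rw [← inv_smul_smul p Q, h, smul_eq_of_mem (inv_mem hp)])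

include hG in
theorem smul_inj {Q : Sylow 3 G} {p q : G} (hp : p ∈ (F.P : Subgroup G))
    (hq : q ∈ (F.P : Subgroup G)) (hQ : Q ≠ F.P) (h : p • Q = q • Q) : p = q := by
  have h' : (q⁻¹ * p) • Q = Q := by rw [mul_smul, h, inv_smul_smul]
  by_contra hne
  exact hQ (smul_eq_three hG (mul_mem (inv_mem hq) hp)
    (fun e => hne (inv_mul_eq_one.1 e).symm) h')

/-- The orbit of `P` under `C(z)`. -/
def orb : Set (Sylow 3 G) := orbit (centralizer ({F.z} : Set G)) F.P

include hG in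
theorem card_orb : Nat.card F.orb = 3 := by
  haveI := hG.1
  have e : (stabilizer (centralizer ({F.z} : Set G)) F.P).map (centralizer ({F.z} : Set G)).subtype = F.T := by
    ext s
    rw [Subgroup.mem_map, F.mem_T]
    constructor
    · rintro ⟨s, hs, rfl⟩
      exact ⟨hs, mem_centralizer_singleton_iff.1 s.2⟩
    · rintro ⟨h1, h2⟩
      exact ⟨⟨s, mem_centralizer_singleton_iff.2 h2⟩, h1, rfl⟩
  have h := (stabilizer (centralizer ({F.z} : Set G)) F.P).card_mul_index
  rw [index_stabilizer, ← Nat.card_coe_set_eq, card_involution_centralizer hG F.hz,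
    ← card_map_of_injective (centralizer ({F.z} : Set G)).subtype_injective, e, F.cardT] at h
  change 16 * Nat.card F.orb = 48 at h
  omega

include hG in
/-- The three conjugates of `P` under `C(z)`. -/
theorem exists_triangle : ∃ A B : Sylow 3 G, A ≠ F.P ∧ B ≠ F.P ∧ A ≠ B ∧
    F.orb = {F.P, A, B} := by
  obtain ⟨x, y, w, hxy, hxw, hyw, he⟩ := Set.ncard_eq_three.1
    (show F.orb.ncard = 3 by rw [← Nat.card_coe_set_eq, F.card_orb hG])
  have hP : F.P ∈ F.orb := mem_orbit_self _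
  rw [he] at hP
  simp only [Set.mem_insert_iff, Set.mem_singleton_iff] at hP
  rcases hP with h | h | h
  · exact ⟨y, w, h ▸ hxy.symm, h ▸ hxw.symm, hyw, h ▸ he⟩
  · refine ⟨x, w, h ▸ hxy, h ▸ hyw.symm, hxw, ?_⟩
    rw [he, h, Set.insert_comm]
  · refine ⟨x, y, h ▸ hxw, h ▸ hyw, hxy, ?_⟩
    rw [he, h]
    ext Q
    simp only [Set.mem_insert_iff, Set.mem_singleton_iff]
    tauto

theorem z_smul_orb {Q : Sylow 3 G} (h : Q ∈ F.orb) : F.z • Q = Q := by
  obtain ⟨⟨c, hc⟩, rfl⟩ := h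
  show F.z • c • F.P = c • F.P
  rw [← mul_smul, ← mem_centralizer_singleton_iff.1 hc, mul_smul, F.z_smul]

/-- `z` inverts each member of the orbit. -/
theorem inv_orb {Q : Sylow 3 G} (h : Q ∈ F.orb) {q : G} (hq : q ∈ (Q : Subgroup G)) :
    F.z * q * F.z⁻¹ = q⁻¹ := by
  obtain ⟨⟨c, hc⟩, rfl⟩ := h
  change q ∈ ((c • F.P : Sylow 3 G) : Subgroup G) at hq
  rw [Sylow.coe_subgroup_smul, mem_pointwise_smul_iff_inv_smul_mem] at hq
  have h1 : F.z * (c⁻¹ * q * c) * F.z⁻¹ = (c⁻¹ * q * c)⁻¹ := by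
    refine F.inv _ ?_
    simpa [MulAut.smul_def, MulAut.conj_symm_apply] using hq
  have hcz := mem_centralizer_singleton_iff.1 hc
  calc F.z * q * F.z⁻¹ = (F.z * c) * (c⁻¹ * q * c) * (F.z * c)⁻¹ := by group
    _ = (c * F.z) * (c⁻¹ * q * c) * (c * F.z)⁻¹ := by rw [hcz]
    _ = c * (F.z * (c⁻¹ * q * c) * F.z⁻¹) * c⁻¹ := by group
    _ = q⁻¹ := by rw [h1]; group

include hG in
/-- Only seven Sylow 3-subgroups are fixed by `z`. -/
theorem card_fixed : Nat.card {Q : Sylow 3 G // F.z • Q = Q} = 7 := by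
  classical
  haveI := hG.1
  set N := normalizer ((F.P : Subgroup G) : Set G) with hN
  set f := Nat.card {Q : Sylow 3 G // F.z • Q = Q} with hf
  have hle : f ≤ 7 := by
    let φ : ↥(F.P : Subgroup G) × {Q : {Q : Sylow 3 G // F.z • Q = Q} // Q.1 ≠ F.P} →
        {Q : Sylow 3 G // Q ≠ F.P} :=
      fun s => ⟨(s.1 : G) • s.2.1.1, F.smul_ne_self hG s.1.2 s.2.2⟩
    have hφ : Function.Injective φ := by
      rintro ⟨p, ⟨⟨Q, hQ⟩, hQne⟩⟩ ⟨q, ⟨⟨R, hR⟩, hRne⟩⟩ h
      have h1 : (p : G) • Q = (q : G) • R := congrArg Subtype.val h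
      have h2 : ((q : G)⁻¹ * p) • Q = R := by rw [mul_smul, h1, inv_smul_smul]
      have h3 : (q : G)⁻¹ * p = 1 := F.eq_one_of_fixed hG (mul_mem (inv_mem q.2) p.2) hQne hQ (by
        rw [h2]; exact hR)
      rw [h3, one_smul] at h2
      subst h2
      rw [Subtype.ext (inv_mul_eq_one.1 h3).symm]
    have h := Nat.card_le_card_of_injective φ hφ
    haveI := Fintype.ofFinite (Sylow 3 G)
    rw [Nat.card_prod, card_sylow3_eq hG F.P, Nat.card_eq_fintype_card
      (α := {Q : {Q : Sylow 3 G // F.z • Q = Q} // Q.1 ≠ F.P})] at h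
    have h1 : Fintype.card {Q : {Q : Sylow 3 G // F.z • Q = Q} // Q.1 ≠ F.P} + 1 = f := by
      have he : Fintype.card {Q : {Q : Sylow 3 G // F.z • Q = Q} // Q.1 ≠ F.P} =
          Fintype.card {Q : {Q : Sylow 3 G // F.z • Q = Q} // ¬ Q = ⟨F.P, F.z_smul⟩} :=
        Fintype.card_congr (Equiv.subtypeEquivRight fun Q => not_congr
          ⟨fun e => Subtype.ext e, fun e => congrArg Subtype.val e⟩)
      rw [he, Fintype.card_subtype_compl, Fintype.card_subtype_eq, hf, Nat.card_eq_fintype_card]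
      have : 0 < Fintype.card {Q : Sylow 3 G // F.z • Q = Q} :=
        Fintype.card_pos_iff.2 ⟨⟨F.P, F.z_smul⟩⟩
      omega
    have h54 : Nat.card {Q : Sylow 3 G // Q ≠ F.P} = 54 := by
      rw [Nat.card_eq_fintype_card, Fintype.card_subtype_compl, Fintype.card_subtype_eq,
        ← Nat.card_eq_fintype_card, three_count hG]
    rw [h54] at h
    omega
  have h4 := FixedPoints.four_dvd_moved (nonab hG) (α := Sylow 3 G) F.zz
  rw [three_count hG, ← hf] at h4
  have hm := FixedPoints.card_fixed_mul F.P F.z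
  rw [card_three_normalizer hG F.P, card_involution_centralizer hG F.hz, ← hf] at hm
  change 144 * f = 48 * Nat.card {u : G // IsConj F.z u ∧ u ∈ N} at hm
  -- at least ten involutions in `N(P)`
  obtain ⟨⟨x, hxP⟩, hxo⟩ := exists_prime_orderOf_dvd_card' (G := (F.P : Subgroup G)) 3
    (by rw [card_sylow3_eq hG F.P]; norm_num)
  rw [orderOf_mk] at hxo
  have hx1 : x ≠ 1 := fun e => by rw [e, orderOf_one] at hxo; norm_num at hxo
  obtain ⟨hx18, hxN⟩ := card_three_centralizer hG F.P hxP hx1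
  obtain ⟨⟨a, haC⟩, hao⟩ := exists_prime_orderOf_dvd_card' (G := centralizer ({x} : Set G)) 2
    (by rw [hx18]; norm_num)
  rw [orderOf_mk] at hao
  let ψ : Option (F.P : Subgroup G) → {u : G // IsConj F.z u ∧ u ∈ N} := fun o =>
    o.elim ⟨a, involutions_conj hG F.hz hao, hxN haC⟩ fun p => ⟨F.z * p, by
      refine ⟨involutions_conj hG F.hz (orderOf_eq_prime ?_ ?_), mul_mem F.z_mem_normalizer (le_normalizer p.2)⟩
      · calc (F.z * p) ^ 2 = (F.z * p * F.z⁻¹) * (F.z * F.z) * p := by rw [sq]; group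
          _ = 1 := by rw [F.inv p p.2, F.zz]; group
      · intro h
        have h' := F.P_inf_T hG p.2 (by
          rw [show (p : G) = F.z⁻¹ from eq_inv_of_mul_eq_one_right h]
          exact inv_mem F.z_mem)
        rw [h', mul_one] at h
        have hz := F.hz
        rw [h, orderOf_one] at hz
        norm_num at hz⟩
  have hψ : Function.Injective ψ := by
    have hne : ∀ p : (F.P : Subgroup G), a ≠ F.z * p := by
      intro p hp
      have hax : a * x * a⁻¹ = x :=
        mul_inv_eq_iff_eq_mul.2 (mem_centralizer_singleton_iff.1 haC)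
      have hpx : (p : G) * x * (p : G)⁻¹ = x := by
        rw [three_mul_comm hG F.P p.2 hxP, mul_inv_cancel_right]
      have : x = x⁻¹ := by
        rw [← F.inv x hxP]
        conv_lhs => rw [← hax, hp]
        calc F.z * p * x * (F.z * p)⁻¹ = F.z * ((p : G) * x * (p : G)⁻¹) * F.z⁻¹ := by group
          _ = _ := by rw [hpx]
      have h2 : orderOf x ∣ 2 := orderOf_dvd_of_pow_eq_one (by
        rw [sq]; exact mul_eq_one_iff_eq_inv.2 this)
      rw [hxo] at h2
      norm_num at h2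
    rintro (_ | p) (_ | q) h
    · rfl
    · exact absurd (congrArg Subtype.val h) (hne q)
    · exact absurd (congrArg Subtype.val h).symm (hne p)
    · have h' : F.z * p = F.z * q := congrArg Subtype.val h
      rw [Subtype.ext (mul_left_cancel h')]
  have h10 := Nat.card_le_card_of_injective ψ hψ
  rw [Finite.card_option, card_sylow3_eq hG F.P] at h10
  omega

include hG in
/-- An involution commuting with `z` and inverting nothing: a fixed element of `Q`. -/
theorem exists_centralized {Q : Sylow 3 G} (hQ : Q ∈ F.orb) {a : G} (ha : orderOf a = 2)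
    (haz : a * F.z = F.z * a) (hne : a ≠ F.z) (haQ : a • Q = Q) :
    ∃ x ∈ (Q : Subgroup G), x ≠ 1 ∧ a * x * a⁻¹ = x := by
  by_contra hnone
  push Not at hnone
  have haa : a * a = 1 := by rw [← sq]; exact ha ▸ pow_orderOf_eq_one a
  have hN := Sylow.smul_eq_iff_mem_normalizer.1 haQ
  have hinv : ∀ q ∈ (Q : Subgroup G), a * q * a⁻¹ = q⁻¹ := fun q hq =>
    inverts_of_free hG Q hN haa (fun w hw hwa => by_contra fun h => hnone w hw h hwa) hq
  refine hne ?_
  have h1 : a * F.z = 1 := eq_one_of_centralizes hG Q (n := 2) (by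
      rw [sq]
      calc a * F.z * (a * F.z) = a * (F.z * a) * F.z := by group
        _ = a * (a * F.z) * F.z := by rw [haz]
        _ = (a * a) * (F.z * F.z) := by group
        _ = 1 := by rw [haa, F.zz, one_mul])
    (by norm_num) fun q hq => mul_inv_eq_iff_eq_mul.1 (by
      calc a * F.z * q * (a * F.z)⁻¹ = a * (F.z * q * F.z⁻¹) * a⁻¹ := by group
        _ = q := by rw [F.inv_orb hQ hq, ← conj_inv, hinv q hq, inv_inv])
  rw [mul_eq_one_iff_eq_inv] at h1
  rw [h1, F.z_inv]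

include hG in
/-- An involution other than `z` in `T` moves the other members of the orbit. -/
theorem moves {a : G} (haT : a ∈ F.T) (ha : orderOf a = 2) (hne : a ≠ F.z) {A : Sylow 3 G}
    (hA : A ∈ F.orb) (hAP : A ≠ F.P) : a • A ≠ A := by
  classical
  haveI := hG.1
  intro haA
  obtain ⟨haP, haz⟩ := F.mem_T.1 haT
  obtain ⟨A', B', hA', hB', hAB', horb⟩ := F.exists_triangle hG
  obtain ⟨B, hB, hAB, horb⟩ : ∃ B, B ≠ F.P ∧ A ≠ B ∧ F.orb = {F.P, A, B} := by
    have hA2 := horb ▸ hA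
    simp only [Set.mem_insert_iff, Set.mem_singleton_iff] at hA2
    rcases hA2 with h | h | h
    · exact absurd h hAP
    · exact ⟨B', hB', h ▸ hAB', h ▸ horb⟩
    · refine ⟨A', hA', h ▸ hAB'.symm, ?_⟩
      rw [horb, h]
      ext Q
      simp only [Set.mem_insert_iff, Set.mem_singleton_iff]
      tauto
  have hBorb : B ∈ F.orb := by rw [horb]; simp
  have haB : a • B = B := by
    have hmem : a • B ∈ F.orb := by
      obtain ⟨c, hc⟩ := hBorb
      exact ⟨⟨a, mem_centralizer_singleton_iff.2 haz⟩ * c, by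
        show _ • F.P = _
        rw [mul_smul]
        exact congrArg (a • ·) hc⟩
    rw [horb] at hmem
    simp only [Set.mem_insert_iff, Set.mem_singleton_iff] at hmem
    rcases hmem with h | h | h
    · exact absurd (by rw [← inv_smul_smul a B, h, inv_smul_eq_iff, haP]) hB
    · exact absurd (by rw [← inv_smul_smul a B, h, inv_smul_eq_iff, haA]) hAB.symm
    · exact h
  obtain ⟨x, hxP, hx1, hax⟩ := F.exists_centralized hG (by rw [horb]; simp) ha haz hne haP
  have hx3 : orderOf (⟨x, hxP⟩ : (F.P : Subgroup G)) ∣ 9 :=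
    card_sylow3_eq hG F.P ▸ orderOf_dvd_natCard _
  rw [orderOf_mk] at hx3
  set X := (F.P : Subgroup G) ⊓ centralizer ({a} : Set G) with hX
  have hxX : x ∈ X := ⟨hxP, mem_centralizer_singleton_iff.2 (mul_inv_eq_iff_eq_mul.1 hax).symm⟩
  have hX3 : 3 ≤ Nat.card X := by
    have h1 : Nat.card X ∣ 9 := card_sylow3_eq hG F.P ▸ card_dvd_of_le inf_le_left
    have h2 : Nat.card X ≠ 1 := fun h => hx1 (Subgroup.mem_bot.1 (card_eq_one.1 h ▸ hxX))
    have key : ∀ m ∈ Nat.divisors 9, m ≠ 1 → 3 ≤ m := by decide +kernel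
    exact key _ (Nat.mem_divisors.2 ⟨h1, by norm_num⟩) h2
  -- the seven fixed points of `a`
  let φ : Option (↥X ⊕ ↥X) → {Q : Sylow 3 G // a • Q = Q} := fun o =>
    o.elim ⟨F.P, haP⟩ (Sum.elim
      (fun p => ⟨(p : G) • A, by
        rw [← mul_smul, ← mem_centralizer_singleton_iff.1 p.2.2, mul_smul, haA]⟩)
      (fun p => ⟨(p : G) • B, by
        rw [← mul_smul, ← mem_centralizer_singleton_iff.1 p.2.2, mul_smul, haB]⟩))
  have hφ : Function.Injective φ := by
    have hAB2 : ∀ p q : X, (p : G) • A ≠ (q : G) • B := by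
      intro p q h
      have h2 : ((q : G)⁻¹ * p) • A = B := by rw [mul_smul, h, inv_smul_smul]
      have h3 := F.eq_one_of_fixed hG (mul_mem (inv_mem q.2.1) p.2.1) hAP (F.z_smul_orb hA)
        (by rw [h2]; exact F.z_smul_orb hBorb)
      rw [h3, one_smul] at h2
      exact hAB h2
    rintro (_ | (p | p)) (_ | (q | q)) h
    · rfl
    · exact absurd (congrArg Subtype.val h).symm (F.smul_ne_self hG q.2.1 hAP)
    · exact absurd (congrArg Subtype.val h).symm (F.smul_ne_self hG q.2.1 hB)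
    · exact absurd (congrArg Subtype.val h) (F.smul_ne_self hG p.2.1 hAP)
    · rw [Subtype.ext (F.smul_inj hG p.2.1 q.2.1 hAP (congrArg Subtype.val h))]
    · exact absurd (congrArg Subtype.val h) (hAB2 p q)
    · exact absurd (congrArg Subtype.val h) (F.smul_ne_self hG p.2.1 hB)
    · exact absurd (congrArg Subtype.val h).symm (hAB2 q p)
    · rw [Subtype.ext (F.smul_inj hG p.2.1 q.2.1 hB (congrArg Subtype.val h))]
  obtain ⟨g, hg⟩ := isConj_iff.1 (involutions_conj hG F.hz ha)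
  have hcard7 : Nat.card {Q : Sylow 3 G // a • Q = Q} = 7 := by
    rw [← F.card_fixed hG]
    refine Nat.card_congr ((MulAction.toPerm g⁻¹).subtypeEquiv fun Q => ?_)
    rw [MulAction.toPerm_apply, ← hg]
    constructor
    · intro h
      calc F.z • g⁻¹ • Q = g⁻¹ • ((g * F.z * g⁻¹) • Q) := by
            rw [← mul_smul, ← mul_smul]; congr 1; group
        _ = g⁻¹ • Q := by rw [h]
    · intro h
      rw [mul_smul, mul_smul, h, smul_inv_smul]
  have hbij : Function.Bijective φ := hφ.bijective_of_nat_card_le (by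
    rw [Finite.card_option, Nat.card_sum, hcard7]; omega)
  -- each of them has an element of order three in the centraliser of `a`
  have h3 : ∀ Q : Sylow 3 G, a • Q = Q → ∃ y ∈ (Q : Subgroup G), y ≠ 1 ∧ a * y * a⁻¹ = y := by
    have hshift : ∀ (p : X) (R : Sylow 3 G),
        (∃ y ∈ (R : Subgroup G), y ≠ 1 ∧ a * y * a⁻¹ = y) →
        ∃ y ∈ (((p : G) • R : Sylow 3 G) : Subgroup G), y ≠ 1 ∧ a * y * a⁻¹ = y := by
      rintro p R ⟨y, hy, hy1, hay⟩
      refine ⟨(p : G) * y * (p : G)⁻¹, ?_, fun e => hy1 (conj_eq_one_iff.1 e), ?_⟩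
      · rw [Sylow.coe_subgroup_smul, mem_pointwise_smul_iff_inv_smul_mem]
        simpa [MulAut.smul_def, MulAut.conj_symm_apply, mul_assoc] using hy
      · have hp := mem_centralizer_singleton_iff.1 p.2.2
        calc a * ((p : G) * y * (p : G)⁻¹) * a⁻¹ = (a * p) * y * (a * p)⁻¹ := by group
          _ = (p * a) * y * (p * a)⁻¹ := by rw [hp]
          _ = p * (a * y * a⁻¹) * (p : G)⁻¹ := by group
          _ = p * y * (p : G)⁻¹ := by rw [hay]
    intro Q hQ
    obtain ⟨o, ho⟩ := hbij.2 ⟨Q, hQ⟩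
    have hval := congrArg Subtype.val ho
    rcases o with _ | (p | p)
    · change F.P = Q at hval
      exact hval ▸ ⟨x, hxP, hx1, hax⟩
    · change (p : G) • A = Q at hval
      exact hval ▸ hshift p A (F.exists_centralized hG hA ha haz hne haA)
    · change (p : G) • B = Q at hval
      exact hval ▸ hshift p B (F.exists_centralized hG hBorb ha haz hne haB)
  have hgP : a • g • F.P = g • F.P := by
    rw [← hg, mul_smul, mul_smul, inv_smul_smul, F.z_smul]
  obtain ⟨y, hy, hy1, hay⟩ := h3 _ hgP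
  rw [Sylow.coe_subgroup_smul, mem_pointwise_smul_iff_inv_smul_mem] at hy
  have hw : g⁻¹ * y * g ∈ (F.P : Subgroup G) := by
    simpa [MulAut.smul_def, MulAut.conj_symm_apply] using hy
  have hwT : g⁻¹ * y * g ∈ F.T := F.mem_T.2 ⟨smul_eq_of_mem hw, by
    rw [mul_inv_eq_iff_eq_mul, ← hg] at hay
    calc g⁻¹ * y * g * F.z = g⁻¹ * (y * (g * F.z * g⁻¹)) * g := by group
      _ = g⁻¹ * (g * F.z * g⁻¹ * y) * g := by rw [hay]
      _ = F.z * (g⁻¹ * y * g) := by group⟩
  have h := F.P_inf_T hG hw hwT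
  refine hy1 ?_
  calc y = g * (g⁻¹ * y * g) * g⁻¹ := by group
    _ = 1 := by rw [h]; group

include hG in
theorem exists_reflection : ∃ a ∈ F.T, orderOf a = 2 ∧ a ≠ F.z := by
  classical
  haveI := hG.1
  obtain ⟨⟨x, hxP⟩, hxo⟩ := exists_prime_orderOf_dvd_card' (G := (F.P : Subgroup G)) 3
    (by rw [card_sylow3_eq hG F.P]; norm_num)
  rw [orderOf_mk] at hxo
  have hx1 : x ≠ 1 := fun e => by rw [e, orderOf_one] at hxo; norm_num at hxo
  obtain ⟨hx18, hxN⟩ := card_three_centralizer hG F.P hxP hx1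
  obtain ⟨⟨u, huC⟩, huo⟩ := exists_prime_orderOf_dvd_card' (G := centralizer ({x} : Set G)) 2
    (by rw [hx18]; norm_num)
  rw [orderOf_mk] at huo
  have huN := hxN huC
  set w := F.z * u * F.z⁻¹ * u⁻¹ with hw
  -- `w` centralises `P`
  have hwP : w ∈ (F.P : Subgroup G) := by
    rw [← three_centralizer_eq hG F.P]
    refine mem_centralizer_iff.2 fun p hp => (mul_inv_eq_iff_eq_mul.1 ?_).symm
    have h1 : u⁻¹ * p * u ∈ (F.P : Subgroup G) := (mem_normalizer_iff''.1 huN p).1 hp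
    calc w * p * w⁻¹ = F.z * (u * (F.z⁻¹ * (u⁻¹ * p * u) * F.z⁻¹⁻¹) * u⁻¹) * F.z⁻¹ := by
          rw [hw]; group
      _ = F.z * (u * (u⁻¹ * p * u)⁻¹ * u⁻¹) * F.z⁻¹ := by
          rw [F.z_inv, F.inv _ h1]
      _ = F.z * p⁻¹ * F.z⁻¹ := by group
      _ = p := by rw [F.inv _ (inv_mem hp), inv_inv]
  -- conjugate `u` into `T`
  have hz3 : F.z * w * F.z⁻¹ = w⁻¹ := F.inv w hwP
  have huu : u * u = 1 := by rw [← sq]; exact huo ▸ pow_orderOf_eq_one u
  have hui : u⁻¹ = u := inv_eq_of_mul_eq_one_right huu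
  -- `u` inverts `w`
  have huw : u * w * u⁻¹ = w⁻¹ := by
    calc u * w * u⁻¹ = u * F.z * u * F.z⁻¹ * (u * u)⁻¹ := by rw [hw]; group
      _ = u * F.z * u * F.z⁻¹ := by rw [huu, inv_one, mul_one]
      _ = u * F.z * u⁻¹ * F.z⁻¹ := by rw [hui]
      _ = w⁻¹ := by rw [hw]; group
  have h9 : w ^ 9 = 1 := by
    have h' : (⟨w, hwP⟩ : (F.P : Subgroup G)) ^ Nat.card (F.P : Subgroup G) = 1 := pow_card_eq_one'
    rw [card_sylow3_eq hG F.P] at h'
    exact congrArg Subtype.val h'
  set p := w ^ 7 with hp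
  have hpP : p ∈ (F.P : Subgroup G) := pow_mem hwP 7
  have hup : u * p * u⁻¹ = p⁻¹ := by rw [hp, ← conj_pow, huw, inv_pow]
  have hzp : F.z * p * F.z⁻¹ = p⁻¹ := F.inv p hpP
  have hp4 : p * p * p * p = w := by
    rw [hp, ← pow_add, ← pow_add, ← pow_add, show 7 + 7 + 7 + 7 = 9 * 3 + 1 from rfl, pow_succ,
      pow_mul, h9, one_pow, one_mul]
  refine ⟨p * u * p⁻¹, F.mem_T.2 ⟨?_, ?_⟩, (orderOf_conj_eq p u).trans huo, fun e => ?_⟩
  · exact Sylow.smul_eq_iff_mem_normalizer.2
      (mul_mem (mul_mem (le_normalizer hpP) huN) (inv_mem (le_normalizer hpP)))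
  · refine (mul_inv_eq_iff_eq_mul.1 ?_).symm
    calc F.z * (p * u * p⁻¹) * F.z⁻¹
        = (F.z * p * F.z⁻¹) * (F.z * u * F.z⁻¹ * u⁻¹) * u * (F.z * p * F.z⁻¹)⁻¹ := by group
      _ = p⁻¹ * (p * p * p * p) * u * p := by rw [hzp, inv_inv, ← hw, hp4]
      _ = p * (p * p * (u * p * u⁻¹)) * u := by group
      _ = p * u * p⁻¹ := by
          rw [hup, mul_inv_cancel_right]
          calc p * p * u = p * (u * (u⁻¹ * p * u)) := by group
            _ = p * (u * p⁻¹) := by rw [hui, show u * p * u = u * p * u⁻¹ by rw [hui], hup]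
            _ = p * u * p⁻¹ := by group
  · -- `z` would centralise a conjugate of `x`
    have hux : u * x * u⁻¹ = x :=
      mul_inv_eq_iff_eq_mul.2 (mem_centralizer_singleton_iff.1 huC)
    have hpx : p * x * p⁻¹ = x := by
      rw [three_mul_comm hG F.P hpP hxP, mul_inv_cancel_right]
    have h1 : x⁻¹ = x := by
      rw [← F.inv x hxP, ← e]
      calc p * u * p⁻¹ * x * (p * u * p⁻¹)⁻¹
          = p * (u * (p⁻¹ * (p * x * p⁻¹) * p) * u⁻¹) * p⁻¹ := by
            rw [hpx]; group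
        _ = p * (u * x * u⁻¹) * p⁻¹ := by group
        _ = x := by rw [hux, hpx]
    have h2 : orderOf x ∣ 2 := orderOf_dvd_of_pow_eq_one (by
      rw [sq]; exact mul_eq_one_iff_eq_inv.2 h1.symm)
    rw [hxo] at h2
    norm_num at h2

end Frame

end Cfsg.Agent.M11Order
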