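import Mathlib
import Cfsg.Agent.Lib.M11Order.Frame

/-!
# The orbits of a Sylow 3-normaliser on the Sylow 3-subgroups
-/

set_option linter.style.haveILetI false

namespace Cfsg.Agent.M11Order

open Subgroup MulAction
open Cfsg.Agent.SmallSimple
open scoped IsMulCommutative Pointwise

variable {G : Type*} [Group G] [Finite G]

local instance factPrimeTwo8 : Fact (Nat.Prime 2) := ⟨Nat.prime_two⟩
local instance factPrimeThree8 : Fact (Nat.Prime 3) := ⟨Nat.prime_three⟩

/-- The orbit data of `N(P)`. -/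
structure Config (G : Type*) [Group G] where
  /-- The base point. -/
  P : Sylow 3 G
  /-- A neighbour. -/
  A : Sylow 3 G
  /-- The other neighbour in the triangle. -/
  B : Sylow 3 G
  /-- A point outside the neighbourhood. -/
  Y : Sylow 3 G
  hA : A ≠ P
  hB : B ≠ P
  disjoint : ∀ p ∈ (P : Subgroup G), p • A ≠ B
  swap : ∃ t : G, t • P = P ∧ t • A = B ∧ t • B = A
  flip : ∃ c : G, c • P = A ∧ c • A = P
  rot : ∃ d : G, d • P = A ∧ d • A = B
  reach : ∀ g : G, g • P = P → ∃ p ∈ (P : Subgroup G), g • A = p • A ∨ g • A = p • B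
  trans : ∀ p ∈ (P : Subgroup G), p ≠ 1 → ∀ q ∈ (P : Subgroup G), q ≠ 1 →
    ∃ l : G, l • P = P ∧ l • A = A ∧ l • B = B ∧ l * p * l⁻¹ = q
  rest : ∀ Q : Sylow 3 G, Q = P ∨ (∃ p ∈ (P : Subgroup G), Q = p • A ∨ Q = p • B) ∨
    ∃ g : G, g • P = P ∧ g • Y = Q
  outside : ∀ p ∈ (P : Subgroup G), Y ≠ p • A ∧ Y ≠ p • B
  hY : Y ≠ P
  stab_card : Nat.card ↥(stabilizer G P ⊓ stabilizer G A) = 8

theorem exists_config (hG : Cfsg.IsM11 G) : Nonempty (Config G) := by
  classical
  haveI := hG.1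
  obtain ⟨F⟩ := exists_frame hG
  obtain ⟨A, B, hA, hB, hAB, horb⟩ := F.exists_triangle hG
  have hAo : A ∈ F.orb := by rw [horb]; simp
  have hBo : B ∈ F.orb := by rw [horb]; simp
  have hmem3 : ∀ {Q}, Q ∈ F.orb → Q = F.P ∨ Q = A ∨ Q = B := fun {Q} h => by
    rw [horb] at h
    simpa using h
  have hTorb : ∀ s : G, s * F.z = F.z * s → ∀ Q ∈ F.orb, s • Q ∈ F.orb := by
    rintro s hs Q ⟨c, rfl⟩
    exact ⟨⟨s, mem_centralizer_singleton_iff.2 hs⟩ * c, mul_smul (⟨s, _⟩ : centralizer ({F.z} : Set G)) c F.P⟩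
  have hTAB : ∀ s ∈ F.T, (s • A = A ∧ s • B = B) ∨ (s • A = B ∧ s • B = A) := by
    intro s hs
    obtain ⟨hsP, hsz⟩ := F.mem_T.1 hs
    have hne : ∀ Q, Q ≠ F.P → s • Q ≠ F.P := fun Q hQ h =>
      hQ (by rw [← inv_smul_smul s Q, h, inv_smul_eq_iff, hsP])
    have h1 := (hmem3 (hTorb s hsz A hAo)).resolve_left (hne A hA)
    have h2 := (hmem3 (hTorb s hsz B hBo)).resolve_left (hne B hB)
    have hne' : s • A ≠ s • B := fun h => hAB (smul_left_cancel s h)
    rcases h1 with h1 | h1 <;> rcases h2 with h2 | h2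
    · exact absurd (h1.trans h2.symm) hne'
    · exact Or.inl ⟨h1, h2⟩
    · exact Or.inr ⟨h1, h2⟩
    · exact absurd (h1.trans h2.symm) hne'
  obtain ⟨a, haT, hao, haz⟩ := F.exists_reflection hG
  obtain ⟨t, htT, htA, htB⟩ : ∃ t ∈ F.T, t • A = B ∧ t • B = A := by
    rcases hTAB a haT with ⟨h1, -⟩ | h
    · exact absurd h1 (F.moves hG haT hao haz hAo hA)
    · exact ⟨a, haT, h⟩
  have htP : t • F.P = F.P := (F.mem_T.1 htT).1
  have hdisj : ∀ p ∈ (F.P : Subgroup G), p • A ≠ B := fun p hp h => by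
    have h' := F.eq_one_of_fixed hG hp hA (F.z_smul_orb hAo) (by rw [h]; exact F.z_smul_orb hBo)
    rw [h', one_smul] at h
    exact hAB h
  -- `N(P) = P T`
  have hdec : ∀ g : G, g • F.P = F.P → ∃ p ∈ (F.P : Subgroup G), ∃ s ∈ F.T, g = p * s := by
    intro g hg
    let f : ↥(F.P : Subgroup G) × F.T → normalizer ((F.P : Subgroup G) : Set G) := fun x =>
      ⟨(x.1 : G) * x.2, mul_mem (le_normalizer x.1.2)
        (Sylow.smul_eq_iff_mem_normalizer.1 (F.mem_T.1 x.2.2).1)⟩
    have hf : Function.Injective f := by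
      rintro ⟨p, s⟩ ⟨q, r⟩ h
      have h' : (p : G) * s = q * r := congrArg Subtype.val h
      have h1 : (q : G)⁻¹ * p = r * (s : G)⁻¹ := by
        calc (q : G)⁻¹ * p = (q : G)⁻¹ * (p * s) * (s : G)⁻¹ := by group
          _ = (q : G)⁻¹ * (q * r) * (s : G)⁻¹ := by rw [h']
          _ = _ := by group
      have h2 := F.P_inf_T hG (mul_mem (inv_mem q.2) p.2) (h1 ▸ mul_mem r.2 (inv_mem s.2))
      have h3 : (p : G) = q := (inv_mul_eq_one.1 h2).symm
      rw [h3] at h'
      exact Prod.ext (Subtype.ext h3) (Subtype.ext (mul_left_cancel h'))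
    have hb := hf.bijective_of_nat_card_le (by
      rw [Nat.card_prod, card_sylow3_eq hG F.P, F.cardT, card_three_normalizer hG F.P])
    obtain ⟨⟨p, s⟩, hps⟩ := hb.2 ⟨g, Sylow.smul_eq_iff_mem_normalizer.1 hg⟩
    exact ⟨p, p.2, s, s.2, (congrArg Subtype.val hps).symm⟩
  -- the stabiliser of `A` in `N(P)`
  set L := stabilizer G F.P ⊓ stabilizer G A with hL
  have hLT : L ≤ F.T := by
    rintro g ⟨hgP, hgA⟩
    obtain ⟨p, hp, s, hs, rfl⟩ := hdec g hgP
    have hgA' : (p * s) • A = A := hgA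
    rw [mul_smul] at hgA'
    rcases hTAB s hs with ⟨h, -⟩ | ⟨h, -⟩ <;> rw [h] at hgA'
    · rw [F.smul_inj hG hp (one_mem _) hA (by rw [hgA', one_smul]), one_mul]
      exact hs
    · exact absurd (by rw [← inv_smul_smul p B, hgA']) (hdisj p⁻¹ (inv_mem hp))
  have hL8 : Nat.card L = 8 := by
    have he : (stabilizer F.T A).map F.T.subtype = L := by
      ext g
      rw [Subgroup.mem_map]
      constructor
      · rintro ⟨s, hs, rfl⟩
        exact ⟨(F.mem_T.1 s.2).1, hs⟩
      · intro hg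
        exact ⟨⟨g, hLT hg⟩, hg.2, rfl⟩
    have h := (stabilizer F.T A).card_mul_index
    rw [index_stabilizer, ← card_map_of_injective F.T.subtype_injective, he, F.cardT] at h
    have ho : orbit F.T A = {A, B} := by
      ext Q
      constructor
      · rintro ⟨s, rfl⟩
        show (s : G) • A ∈ ({A, B} : Set (Sylow 3 G))
        rcases hTAB s s.2 with ⟨h, -⟩ | ⟨h, -⟩ <;> simp [h]
      · rintro (rfl | rfl)
        · exact mem_orbit_self _
        · exact ⟨⟨t, htT⟩, htA⟩
    rw [ho, Set.ncard_pair hAB] at h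
    omega
  have hLB : ∀ l ∈ L, l • B = B := by
    intro l hl
    rcases hTAB l (hLT hl) with h | h
    · exact h.2
    · exact absurd (hl.2.symm.trans h.1) hAB
  -- `L` is regular on `P#`
  have htrans : ∀ p ∈ (F.P : Subgroup G), p ≠ 1 → ∀ q ∈ (F.P : Subgroup G), q ≠ 1 →
      ∃ l : G, l • F.P = F.P ∧ l • A = A ∧ l • B = B ∧ l * p * l⁻¹ = q := by
    intro p hp hp1 q hq hq1
    haveI := Fintype.ofFinite (F.P : Subgroup G)
    let f : L → {w : (F.P : Subgroup G) // w ≠ 1} := fun l => ⟨⟨(l : G) * p * (l : G)⁻¹,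
      (mem_normalizer_iff.1 (Sylow.smul_eq_iff_mem_normalizer.1 l.2.1) p).1 hp⟩,
      fun e => hp1 (conj_eq_one_iff.1 (congrArg Subtype.val e))⟩
    have hf : Function.Injective f := by
      intro l m h
      have h' : (l : G) * p * (l : G)⁻¹ = (m : G) * p * (m : G)⁻¹ :=
        congrArg (fun w : {w : (F.P : Subgroup G) // w ≠ 1} => ((w.1 : (F.P : Subgroup G)) : G)) h
      set k := (m : G)⁻¹ * l with hk
      have hkp : k * p = p * k := by
        calc k * p = (m : G)⁻¹ * ((l : G) * p * (l : G)⁻¹) * l := by rw [hk]; group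
          _ = (m : G)⁻¹ * ((m : G) * p * (m : G)⁻¹) * l := by rw [h']
          _ = p * k := by rw [hk]; group
      have hkL : k ∈ L := mul_mem (inv_mem m.2) l.2
      by_contra hne
      have hk1 : k ≠ 1 := fun e => hne (Subtype.ext (inv_mul_eq_one.1 e).symm)
      have h18 : orderOf k ∣ 18 := by
        have := orderOf_dvd_natCard (⟨k, mem_centralizer_singleton_iff.2 hkp⟩ : centralizer ({p} : Set G))
        rwa [orderOf_mk, (card_three_centralizer hG F.P hp hp1).1] at this
      have h2 : orderOf k = 2 := by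
        have h16 : orderOf k ∣ 16 := orderOf_dvd_of_pow_eq_one (F.T_two (hLT hkL))
        have hd : orderOf k ∣ 2 := Nat.dvd_gcd h18 h16
        rcases (Nat.dvd_prime Nat.prime_two).1 hd with h | h
        · exact absurd (orderOf_eq_one_iff.1 h) hk1
        · exact h
      refine F.moves hG (hLT hkL) h2 (fun e => ?_) hAo hA hkL.2
      have hinv := F.inv p hp
      rw [← e, hkp, mul_inv_cancel_right] at hinv
      have h2p : orderOf p ∣ 2 := orderOf_dvd_of_pow_eq_one (by
        rw [sq]; exact mul_eq_one_iff_eq_inv.2 hinv)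
      have h9 := orderOf_dvd_natCard (⟨p, hp⟩ : (F.P : Subgroup G))
      rw [orderOf_mk, card_sylow3_eq hG F.P] at h9
      exact hp1 (orderOf_eq_one_iff.1 (Nat.eq_one_of_dvd_coprimes (by norm_num) h2p h9))
    have hb := hf.bijective_of_nat_card_le (by
      rw [hL8, Nat.card_eq_fintype_card, Fintype.card_subtype_compl, Fintype.card_subtype_eq,
        ← Nat.card_eq_fintype_card, card_sylow3_eq hG F.P])
    obtain ⟨l, hl⟩ := hb.2 ⟨⟨q, hq⟩, fun e => hq1 (congrArg Subtype.val e)⟩
    exact ⟨l, l.2.1, l.2.2, hLB l l.2,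
      congrArg (fun w : {w : (F.P : Subgroup G) // w ≠ 1} => ((w.1 : (F.P : Subgroup G)) : G)) hl⟩
  -- the four other fixed points
  haveI := Fintype.ofFinite (Sylow 3 G)
  set S : Finset (Sylow 3 G) := Finset.univ.filter fun Q => F.z • Q = Q ∧ Q ∉ F.orb with hS
  have hS4 : S.card = 4 := by
    have h7 := F.card_fixed hG
    rw [Nat.card_eq_fintype_card, Fintype.card_subtype] at h7
    have hsp := Finset.card_filter_add_card_filter_not
      (s := Finset.univ.filter fun Q : Sylow 3 G => F.z • Q = Q) (fun Q => Q ∈ F.orb)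
    rw [Finset.filter_filter, Finset.filter_filter, h7, ← hS] at hsp
    have h3 : (Finset.univ.filter fun Q : Sylow 3 G => F.z • Q = Q ∧ Q ∈ F.orb).card = 3 := by
      refine Eq.trans ?_ (F.card_orb hG)
      rw [← Nat.card_eq_finsetCard]
      exact Nat.card_congr (Equiv.subtypeEquivRight fun Q => by
        simp only [Finset.mem_filter, Finset.mem_univ, true_and]
        exact ⟨fun h => h.2, fun h => ⟨F.z_smul_orb h, h⟩⟩)
    omega
  obtain ⟨Y, hY⟩ := Finset.card_pos.1 (by omega : 0 < S.card)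
  have hY' := (Finset.mem_filter.1 hY).2
  have hcl : ∀ c ∈ centralizer ({F.z} : Set G), ∀ Q ∈ S, c • Q ∈ S := by
    intro c hc Q hQ
    obtain ⟨h1, h2⟩ := (Finset.mem_filter.1 hQ).2
    have hcz := mem_centralizer_singleton_iff.1 hc
    refine Finset.mem_filter.2 ⟨Finset.mem_univ _, by rw [← mul_smul, ← hcz, mul_smul, h1], fun h => h2 ?_⟩
    have := hTorb c⁻¹ (by
      calc c⁻¹ * F.z = c⁻¹ * (F.z * c) * c⁻¹ := by group
        _ = c⁻¹ * (c * F.z) * c⁻¹ := by rw [hcz]
        _ = F.z * c⁻¹ := by group) _ h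
    rwa [inv_smul_smul] at this
  set C := centralizer ({F.z} : Set G) with hC
  have horbsub : ∀ Q ∈ S, (orbit C Q) ⊆ (S : Set (Sylow 3 G)) := by
    rintro Q hQ _ ⟨c, rfl⟩
    exact hcl c c.2 Q hQ
  have horb3 : ∀ Q : Sylow 3 G, 3 ≤ (orbit C Q).ncard := by
    intro Q
    have h := (stabilizer C Q).card_mul_index
    rw [index_stabilizer, hC, card_involution_centralizer hG F.hz, ← hC] at h
    have he : (stabilizer C Q).map C.subtype =
        normalizer ((Q : Subgroup G) : Set G) ⊓ C := by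
      ext s
      rw [Subgroup.mem_map]
      constructor
      · rintro ⟨s, hs, rfl⟩
        exact ⟨Sylow.smul_eq_iff_mem_normalizer.1 hs, s.2⟩
      · rintro ⟨h1, h2⟩
        exact ⟨⟨s, h2⟩, (Sylow.smul_eq_iff_mem_normalizer.2 h1 : s • Q = Q), rfl⟩
    have hle : Nat.card (stabilizer C Q) ≤ 16 := by
      rw [← card_map_of_injective C.subtype_injective, he]
      exact card_involution_inf_le hG Q F.hz
    by_contra hlt
    have := Nat.mul_le_mul hle (show (orbit C Q).ncard ≤ 2 by omega)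
    omega
  have horbS : orbit C Y = (S : Set (Sylow 3 G)) := by
    refine Set.Subset.antisymm (horbsub Y hY) fun Q hQ => ?_
    by_contra hne
    have hd : Disjoint (orbit C Y) (orbit C Q) := Set.disjoint_left.2 fun u h1 h2 => hne (by
      rw [← orbit_eq_iff.2 h1, orbit_eq_iff.2 h2]
      exact mem_orbit_self Q)
    have := Set.ncard_union_eq hd (Set.toFinite _) (Set.toFinite _)
    have h2 := Set.ncard_le_ncard (Set.union_subset (horbsub Y hY) (horbsub Q hQ)) (Set.toFinite _)
    rw [Set.ncard_coe_finset, hS4, this] at h2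
    have := horb3 Y
    have := horb3 Q
    omega
  -- `T` is transitive on them
  have hTY : ∀ Q ∈ S, ∃ s ∈ F.T, s • Y = Q := by
    have hst : Nat.card (stabilizer C Y) = 12 := by
      have h := (stabilizer C Y).card_mul_index
      rw [index_stabilizer, horbS, Set.ncard_coe_finset, hS4, hC, card_involution_centralizer hG F.hz,
        ← hC] at h
      omega
    have hsub : (orbit F.T Y) ⊆ (S : Set (Sylow 3 G)) := by
      rintro _ ⟨s, rfl⟩
      exact hcl s (mem_centralizer_singleton_iff.2 (F.mem_T.1 s.2).2) Y hY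
    have h := (stabilizer F.T Y).card_mul_index
    rw [index_stabilizer, F.cardT] at h
    have hd12 : Nat.card (stabilizer F.T Y) ∣ 12 := by
      rw [← hst, ← card_map_of_injective F.T.subtype_injective,
        ← card_map_of_injective (K := stabilizer C Y) C.subtype_injective]
      refine card_dvd_of_le ?_
      rintro _ ⟨s, hs, rfl⟩
      exact ⟨⟨s, mem_centralizer_singleton_iff.2 (F.mem_T.1 s.2).2⟩, hs, rfl⟩
    have hd16 : Nat.card (stabilizer F.T Y) ∣ 16 := ⟨_, h.symm⟩
    have h4 : Nat.card (stabilizer F.T Y) ≤ 4 :=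
      Nat.le_of_dvd (by norm_num) (Nat.dvd_gcd hd12 hd16 : _ ∣ Nat.gcd 12 16)
    have heq : orbit F.T Y = (S : Set (Sylow 3 G)) :=
      Set.eq_of_subset_of_ncard_le hsub (by
        rw [Set.ncard_coe_finset, hS4]
        by_contra hlt
        have := Nat.mul_le_mul h4 (show (orbit F.T Y).ncard ≤ 3 by omega)
        omega) (Set.toFinite _)
    intro Q hQ
    have hQ' : Q ∈ orbit F.T Y := heq.symm ▸ hQ
    obtain ⟨s, rfl⟩ := hQ'
    exact ⟨s, s.2, rfl⟩
  have hnot : ∀ Q ∈ S, Q ≠ F.P ∧ Q ≠ A ∧ Q ≠ B := fun Q hQ => by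
    obtain ⟨-, h2⟩ := (Finset.mem_filter.1 hQ).2
    exact ⟨fun e => h2 (e ▸ mem_orbit_self _), fun e => h2 (e ▸ hAo), fun e => h2 (e ▸ hBo)⟩
  have hout : ∀ Q ∈ S, ∀ p ∈ (F.P : Subgroup G), Q ≠ p • A ∧ Q ≠ p • B := by
    intro Q hQ p hp
    have hz := (Finset.mem_filter.1 hQ).2.1
    constructor <;> intro e
    · have := F.eq_one_of_fixed hG hp hA (F.z_smul_orb hAo) (by rw [← e]; exact hz)
      rw [this, one_smul] at e
      exact (hnot Q hQ).2.1 e
    · have := F.eq_one_of_fixed hG hp hB (F.z_smul_orb hBo) (by rw [← e]; exact hz)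
      rw [this, one_smul] at e
      exact (hnot Q hQ).2.2 e
  have hrest : ∀ Q : Sylow 3 G, Q = F.P ∨ (∃ p ∈ (F.P : Subgroup G), Q = p • A ∨ Q = p • B) ∨
      ∃ g : G, g • F.P = F.P ∧ g • Y = Q := by
    let φ : Option (↥(F.P : Subgroup G) × (Bool ⊕ {Q // Q ∈ S})) → Sylow 3 G := fun o =>
      o.elim F.P fun x => (x.1 : G) • Sum.elim (fun b => if b then A else B) Subtype.val x.2
    have hbase : ∀ u : Bool ⊕ {Q // Q ∈ S},
        Sum.elim (fun b => if b then A else B) Subtype.val u ≠ F.P ∧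
          F.z • Sum.elim (fun b => if b then A else B) Subtype.val u =
            Sum.elim (fun b => if b then A else B) Subtype.val u := by
      rintro ((_ | _) | ⟨Q, hQ⟩)
      · exact ⟨hB, F.z_smul_orb hBo⟩
      · exact ⟨hA, F.z_smul_orb hAo⟩
      · exact ⟨(hnot Q hQ).1, (Finset.mem_filter.1 hQ).2.1⟩
    have hinj : Function.Injective (Sum.elim (fun b => if b then A else B) Subtype.val :
        Bool ⊕ {Q // Q ∈ S} → Sylow 3 G) := by
      rintro ((_ | _) | ⟨Q, hQ⟩) ((_ | _) | ⟨R, hR⟩) h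
      · rfl
      · exact absurd h hAB.symm
      · exact absurd h.symm (hnot R hR).2.2
      · exact absurd h hAB
      · rfl
      · exact absurd h.symm (hnot R hR).2.1
      · exact absurd h (hnot Q hQ).2.2
      · exact absurd h (hnot Q hQ).2.1
      · exact congrArg Sum.inr (Subtype.ext h)
    have hφ : Function.Injective φ := by
      rintro (_ | ⟨p, u⟩) (_ | ⟨q, v⟩) h
      · rfl
      · exact absurd h.symm (F.smul_ne_self hG q.2 (hbase v).1)
      · exact absurd h (F.smul_ne_self hG p.2 (hbase u).1)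
      · have h' : (p : G) • _ = (q : G) • _ := h
        have h2 : ((q : G)⁻¹ * p) • Sum.elim (fun b => if b then A else B) Subtype.val u =
            Sum.elim (fun b => if b then A else B) Subtype.val v := by
          rw [mul_smul, h', inv_smul_smul]
        have h3 := F.eq_one_of_fixed hG (mul_mem (inv_mem q.2) p.2) (hbase u).1 (hbase u).2
          (by rw [h2]; exact (hbase v).2)
        rw [h3, one_smul] at h2
        rw [hinj h2, Subtype.ext (inv_mul_eq_one.1 h3).symm]
    have hb := hφ.bijective_of_nat_card_le (by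
      rw [three_count hG, Finite.card_option, Nat.card_prod, card_sylow3_eq hG F.P, Nat.card_sum,
        Nat.card_eq_finsetCard, hS4, Nat.card_eq_fintype_card, Fintype.card_bool])
    intro Q
    obtain ⟨o, rfl⟩ := hb.2 Q
    rcases o with _ | ⟨p, (_ | _) | ⟨R, hR⟩⟩
    · exact Or.inl rfl
    · exact Or.inr (Or.inl ⟨p, p.2, Or.inr rfl⟩)
    · exact Or.inr (Or.inl ⟨p, p.2, Or.inl rfl⟩)
    · obtain ⟨s, hs, hsY⟩ := hTY R hR
      refine Or.inr (Or.inr ⟨(p : G) * s, ?_, ?_⟩)
      · rw [mul_smul, (F.mem_T.1 hs).1, smul_eq_of_mem p.2]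
      · rw [mul_smul, hsY]; rfl
  -- elements permuting the triangle
  obtain ⟨⟨c, hc⟩, hcP⟩ := hAo
  have hcP' : c • F.P = A := hcP
  have hcz := mem_centralizer_singleton_iff.1 hc
  have hcA : c • A ≠ A := fun h => hA (smul_left_cancel c (hcP'.trans h.symm)).symm
  have hcB : c • B ≠ A := fun h => hB (smul_left_cancel c (hcP'.trans h.symm)).symm
  have hcne : c • A ≠ c • B := fun h => hAB (smul_left_cancel c h)
  have hcA' := hmem3 (hTorb c hcz A ⟨⟨c, hc⟩, hcP⟩)
  have hcB' := hmem3 (hTorb c hcz B hBo)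
  have hflip : (∃ e : G, e • F.P = A ∧ e • A = F.P) ∧ ∃ d : G, d • F.P = A ∧ d • A = B := by
    rcases hcA' with h | h | h
    · refine ⟨⟨c, hcP', h⟩, c * t, by rw [mul_smul, htP, hcP'], ?_⟩
      rw [mul_smul, htA]
      rcases hcB' with h' | h' | h'
      · exact absurd (h.trans h'.symm) hcne
      · exact absurd h' hcB
      · exact h'
    · exact absurd h hcA
    · refine ⟨⟨c * t, by rw [mul_smul, htP, hcP'], ?_⟩, c, hcP', h⟩
      rw [mul_smul, htA]
      rcases hcB' with h' | h' | h'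
      · exact h'
      · exact absurd h' hcB
      · exact absurd (h.trans h'.symm) hcne
  refine ⟨⟨F.P, A, B, Y, hA, hB, hdisj, ⟨t, htP, htA, htB⟩, hflip.1, hflip.2, ?_, htrans, hrest,
    hout Y hY, (hnot Y hY).1, hL8⟩⟩
  intro g hg
  obtain ⟨p, hp, s, hs, rfl⟩ := hdec g hg
  refine ⟨p, hp, ?_⟩
  rcases hTAB s hs with ⟨h, -⟩ | ⟨h, -⟩
  · exact Or.inl (by rw [mul_smul, h])
  · exact Or.inr (by rw [mul_smul, h])

end Cfsg.Agent.M11Order
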