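import Mathlib
import Cfsg.Agent.Lib.M11Order.Config

/-!
# A subgroup of index eleven
-/

set_option linter.style.haveILetI false

namespace Cfsg.Agent.M11Order

open Subgroup MulAction
open Cfsg.Agent.SmallSimple
open scoped IsMulCommutative Pointwise

variable {G : Type*} [Group G] [Finite G]

local instance factPrimeSeven : Fact (Nat.Prime 7) := ⟨by norm_num⟩
local instance factPrimeThree9 : Fact (Nat.Prime 3) := ⟨Nat.prime_three⟩

/-- The adjacency relation of a configuration. -/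
def Config.Adj (K : Config G) (u v : Sylow 3 G) : Prop := ∃ g : G, g • K.P = u ∧ g • K.A = v

/-- The neighbours. -/
def Config.Nb (K : Config G) (v : Sylow 3 G) : Set (Sylow 3 G) := {u | K.Adj v u}

namespace Config

variable (K : Config G) (hG : Cfsg.IsM11 G)

theorem adj_symm {u v : Sylow 3 G} (h : K.Adj u v) : K.Adj v u := by
  obtain ⟨g, rfl, rfl⟩ := h
  obtain ⟨c, hc1, hc2⟩ := K.flip
  exact ⟨g * c, by rw [mul_smul, hc1], by rw [mul_smul, hc2]⟩

theorem adj_smul (g : G) {u v : Sylow 3 G} : K.Adj (g • u) (g • v) ↔ K.Adj u v := by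
  constructor
  · rintro ⟨k, h1, h2⟩
    exact ⟨g⁻¹ * k, by rw [mul_smul, h1, inv_smul_smul], by rw [mul_smul, h2, inv_smul_smul]⟩
  · rintro ⟨k, rfl, rfl⟩
    exact ⟨g * k, mul_smul _ _ _, mul_smul _ _ _⟩

theorem adj_ne {u v : Sylow 3 G} (h : K.Adj u v) : u ≠ v := by
  obtain ⟨g, rfl, rfl⟩ := h
  exact fun e => K.hA (smul_left_cancel g e).symm

theorem adj_P_A : K.Adj K.P K.A := ⟨1, one_smul _ _, one_smul _ _⟩

theorem adj_P_B : K.Adj K.P K.B := by
  obtain ⟨t, h1, h2, -⟩ := K.swap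
  exact ⟨t, h1, h2⟩

theorem adj_A_B : K.Adj K.A K.B := K.rot

theorem adj_P_iff {v : Sylow 3 G} :
    K.Adj K.P v ↔ ∃ p ∈ (K.P : Subgroup G), v = p • K.A ∨ v = p • K.B := by
  constructor
  · rintro ⟨g, hg, rfl⟩
    exact K.reach g hg
  · rintro ⟨p, hp, rfl | rfl⟩
    · have := (K.adj_smul p).2 K.adj_P_A
      rwa [smul_eq_of_mem hp] at this
    · have := (K.adj_smul p).2 K.adj_P_B
      rwa [smul_eq_of_mem hp] at this

theorem nb_smul (g : G) (v : Sylow 3 G) : K.Nb (g • v) = (g • ·) '' K.Nb v := by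
  ext u
  constructor
  · intro h
    refine ⟨g⁻¹ • u, ?_, smul_inv_smul g u⟩
    have h' : K.Adj (g • v) (g • g⁻¹ • u) := by rwa [smul_inv_smul]
    exact (K.adj_smul g).1 h'
  · rintro ⟨w, hw, rfl⟩
    exact (K.adj_smul g).2 hw

theorem nbP : K.Nb K.P = ((· • K.A) '' ((K.P : Subgroup G) : Set G)) ∪
    ((· • K.B) '' ((K.P : Subgroup G) : Set G)) := by
  ext v
  show K.Adj K.P v ↔ _
  rw [K.adj_P_iff]
  constructor
  · rintro ⟨p, hp, rfl | rfl⟩
    · exact Or.inl ⟨p, hp, rfl⟩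
    · exact Or.inr ⟨p, hp, rfl⟩
  · rintro (⟨p, hp, rfl⟩ | ⟨p, hp, rfl⟩)
    · exact ⟨p, hp, Or.inl rfl⟩
    · exact ⟨p, hp, Or.inr rfl⟩

include hG in
theorem smul_inj {Q : Sylow 3 G} {p q : G} (hp : p ∈ (K.P : Subgroup G))
    (hq : q ∈ (K.P : Subgroup G)) (hQ : Q ≠ K.P) (h : p • Q = q • Q) : p = q := by
  have h' : (q⁻¹ * p) • Q = Q := by rw [mul_smul, h, inv_smul_smul]
  by_contra hne
  exact hQ (smul_eq_three hG (mul_mem (inv_mem hq) hp)
    (fun e => hne (inv_mul_eq_one.1 e).symm) h')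

theorem smul_ne_P {Q : Sylow 3 G} {p : G} (hp : p ∈ (K.P : Subgroup G)) (hQ : Q ≠ K.P) :
    p • Q ≠ K.P := fun h => hQ (by rw [← inv_smul_smul p Q, h, smul_eq_of_mem (inv_mem hp)])

theorem ne_AB {p q : G} (hp : p ∈ (K.P : Subgroup G)) (hq : q ∈ (K.P : Subgroup G)) :
    p • K.A ≠ q • K.B := fun h =>
  K.disjoint (q⁻¹ * p) (mul_mem (inv_mem hq) hp) (by rw [mul_smul, h, inv_smul_smul])

include hG in
theorem ncard_image {Q : Sylow 3 G} (hQ : Q ≠ K.P) :
    ((· • Q) '' ((K.P : Subgroup G) : Set G)).ncard = 9 := by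
  have hinj : Set.InjOn (fun p : G => p • Q) ((K.P : Subgroup G) : Set G) :=
    fun p hp q hq h => K.smul_inj hG hp hq hQ h
  rw [Set.InjOn.ncard_image hinj, ← Nat.card_coe_set_eq]
  exact card_sylow3_eq hG K.P

include hG in
theorem ncard_nb (v : Sylow 3 G) : (K.Nb v).ncard = 18 := by
  obtain ⟨g, rfl⟩ := MulAction.exists_smul_eq G K.P v
  rw [K.nb_smul, Set.ncard_image_of_injective _ (MulAction.injective g), K.nbP,
    Set.ncard_union_eq (Set.disjoint_left.2 ?_) (Set.toFinite _) (Set.toFinite _),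
    K.ncard_image hG K.hA, K.ncard_image hG K.hB]
  rintro _ ⟨p, hp, rfl⟩ ⟨q, hq, h⟩
  exact K.ne_AB hp hq h.symm

/-- Adjacency inside the first half. -/
def alpha : Prop := ∀ p ∈ (K.P : Subgroup G), p ≠ 1 → K.Adj K.A (p • K.A)

/-- Adjacency between the halves. -/
def beta : Prop := ∀ p ∈ (K.P : Subgroup G), p ≠ 1 → K.Adj K.A (p • K.B)

theorem alpha_or {p : G} (hp : p ∈ (K.P : Subgroup G)) (hp1 : p ≠ 1)
    (h : K.Adj K.A (p • K.A)) : K.alpha := by
  intro q hq hq1
  obtain ⟨l, -, hlA, -, hl⟩ := K.trans p hp hp1 q hq hq1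
  have h' := (K.adj_smul l).2 h
  rw [hlA, ← mul_smul] at h'
  rwa [show q • K.A = (l * p) • K.A by
    rw [← hl, mul_smul, inv_smul_eq_iff.2 hlA.symm]]

theorem beta_or {p : G} (hp : p ∈ (K.P : Subgroup G)) (hp1 : p ≠ 1)
    (h : K.Adj K.A (p • K.B)) : K.beta := by
  intro q hq hq1
  obtain ⟨l, -, hlA, hlB, hl⟩ := K.trans p hp hp1 q hq hq1
  have h' := (K.adj_smul l).2 h
  rw [hlA, ← mul_smul] at h'
  rwa [show q • K.B = (l * p) • K.B by
    rw [← hl, mul_smul, inv_smul_eq_iff.2 hlB.symm]]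

theorem adj_AA {p q : G} (hp : p ∈ (K.P : Subgroup G)) (hq : q ∈ (K.P : Subgroup G)) (hne : p ≠ q) :
    K.Adj (p • K.A) (q • K.A) ↔ K.alpha := by
  have hm : p⁻¹ * q ∈ (K.P : Subgroup G) := mul_mem (inv_mem hp) hq
  have hm1 : p⁻¹ * q ≠ 1 := fun e => hne (inv_mul_eq_one.1 e)
  rw [← K.adj_smul p⁻¹, inv_smul_smul, ← mul_smul]
  exact ⟨fun h => K.alpha_or hm hm1 h, fun h => h _ hm hm1⟩

theorem adj_AB {p q : G} (hp : p ∈ (K.P : Subgroup G)) (hq : q ∈ (K.P : Subgroup G)) :
    K.Adj (p • K.A) (q • K.B) ↔ (p = q ∨ K.beta) := by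
  rw [← K.adj_smul p⁻¹, inv_smul_smul, ← mul_smul]
  have hm : p⁻¹ * q ∈ (K.P : Subgroup G) := mul_mem (inv_mem hp) hq
  rcases eq_or_ne p q with rfl | hne
  · rw [inv_mul_cancel, one_smul]
    exact iff_of_true K.adj_A_B (Or.inl rfl)
  · have hm1 : p⁻¹ * q ≠ 1 := fun e => hne (inv_mul_eq_one.1 e)
    exact ⟨fun h => Or.inr (K.beta_or hm hm1 h), fun h => (h.resolve_left hne) _ hm hm1⟩

theorem adj_BB {p q : G} (hp : p ∈ (K.P : Subgroup G)) (hq : q ∈ (K.P : Subgroup G)) (hne : p ≠ q) :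
    K.Adj (p • K.B) (q • K.B) ↔ K.alpha := by
  obtain ⟨t, htP, htA, htB⟩ := K.swap
  have hconj : ∀ p ∈ (K.P : Subgroup G), t * p * t⁻¹ ∈ (K.P : Subgroup G) := fun p hp =>
    (mem_normalizer_iff.1 (Sylow.smul_eq_iff_mem_normalizer.1 htP) p).1 hp
  rw [← K.adj_smul t]
  have he : ∀ p : G, t • p • K.B = (t * p * t⁻¹) • K.A := fun p => by
    rw [mul_smul, mul_smul, show t⁻¹ • K.A = K.B from inv_smul_eq_iff.2 htB.symm]
  rw [he, he]
  exact K.adj_AA (hconj p hp) (hconj q hq) fun e => hne (mul_left_cancel (mul_right_cancel e))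

/-- The setwise stabiliser. -/
theorem mem_stab {C : Set (Sylow 3 G)} {g : G} : g ∈ stabilizer G C ↔ (g • ·) '' C = C := Iff.rfl

theorem orbit_stab {C : Set (Sylow 3 G)} (hP : K.P ∈ C)
    (h : ∀ v ∈ C, ∃ g : G, g • K.P = v ∧ g ∈ stabilizer G C) :
    C.ncard * Nat.card ↥(stabilizer G C ⊓ stabilizer G K.P) = Nat.card ↥(stabilizer G C) := by
  set H := stabilizer G C with hH
  have ho : orbit H K.P = C := by
    refine Set.Subset.antisymm ?_ fun v hv => ?_
    · rintro _ ⟨⟨g, hg⟩, rfl⟩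
      exact (mem_stab.1 hg).subset ⟨K.P, hP, rfl⟩
    · obtain ⟨g, hg, hgH⟩ := h v hv
      exact ⟨⟨g, hgH⟩, hg⟩
  have h1 := (stabilizer H K.P).card_mul_index
  rw [index_stabilizer, ho, ← card_map_of_injective H.subtype_injective] at h1
  have he : (stabilizer H K.P).map H.subtype = H ⊓ stabilizer G K.P := by
    ext g
    rw [Subgroup.mem_map]
    constructor
    · rintro ⟨⟨g, hg⟩, hs, rfl⟩
      exact ⟨hg, hs⟩
    · rintro ⟨hg1, hg2⟩
      exact ⟨⟨g, hg1⟩, hg2, rfl⟩
  rw [he] at h1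
  rw [← h1, mul_comm]

include hG in
theorem false_of_alpha_beta (ha : K.alpha) (hb : K.beta) : False := by
  set C : Set (Sylow 3 G) := insert K.P (K.Nb K.P) with hC
  have hclique : ∀ u ∈ C, ∀ v ∈ C, u ≠ v → K.Adj u v := by
    intro u hu v hv hne
    rw [hC, Set.mem_insert_iff] at hu hv
    rcases hu with rfl | hu
    · exact hv.resolve_left hne.symm
    rcases hv with rfl | hv
    · exact K.adj_symm hu
    obtain ⟨p, hp, hu⟩ := K.adj_P_iff.1 hu
    obtain ⟨q, hq, hv⟩ := K.adj_P_iff.1 hv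
    rcases hu with rfl | rfl <;> rcases hv with rfl | rfl
    · exact (K.adj_AA hp hq fun e => hne (by rw [e])).2 ha
    · exact (K.adj_AB hp hq).2 (Or.inr hb)
    · exact K.adj_symm ((K.adj_AB hq hp).2 (Or.inr hb))
    · exact (K.adj_BB hp hq fun e => hne (by rw [e])).2 ha
  have hPnot : K.P ∉ K.Nb K.P := fun h => K.adj_ne h rfl
  have h19 : C.ncard = 19 := by
    rw [hC, Set.ncard_insert_of_notMem hPnot (Set.toFinite _), K.ncard_nb hG]
  have hst : ∀ v ∈ C, ∃ g : G, g • K.P = v ∧ g ∈ stabilizer G C := by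
    intro v hv
    obtain ⟨g, hg⟩ := MulAction.exists_smul_eq G K.P v
    refine ⟨g, hg, mem_stab.2 ?_⟩
    have hnb : K.Nb v = C \ {v} := by
      refine (Set.eq_of_subset_of_ncard_le (s := C \ {v}) (t := K.Nb v) (fun u hu => hclique v hv u hu.1 (Ne.symm hu.2)) ?_
        (Set.toFinite _)).symm
      rw [K.ncard_nb hG, Set.ncard_sdiff_singleton_of_mem hv, h19]
    rw [hC, Set.image_insert_eq, ← K.nb_smul, hg, hnb, ← hC, Set.insert_sdiff_singleton,
      Set.insert_eq_of_mem hv]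
  have h := K.orbit_stab (C := C) (Set.mem_insert _ _) hst
  have hd : 19 ∣ Nat.card G :=
    Dvd.dvd.trans (h19 ▸ Dvd.intro _ h) (card_subgroup_dvd_card _)
  rw [hG.2] at hd
  norm_num at hd

include hG in
theorem exists_index_eleven_aux (ha : K.alpha) (hb : ¬ K.beta) :
    ∃ H : Subgroup G, H.index = 11 := by
  set S : Set (Sylow 3 G) := (· • K.A) '' ((K.P : Subgroup G) : Set G) with hS
  set T : Set (Sylow 3 G) := (· • K.B) '' ((K.P : Subgroup G) : Set G) with hT
  set C : Set (Sylow 3 G) := insert K.P S with hC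
  have hPS : K.P ∉ S := by
    rintro ⟨p, hp, h⟩
    exact K.smul_ne_P hp K.hA h
  have h10 : C.ncard = 10 := by
    rw [hC, Set.ncard_insert_of_notMem hPS (Set.toFinite _), hS, K.ncard_image hG K.hA]
  have hclique : ∀ u ∈ C, ∀ v ∈ C, u ≠ v → K.Adj u v := by
    intro u hu v hv hne
    rw [hC, Set.mem_insert_iff] at hu hv
    rcases hu with rfl | ⟨p, hp, rfl⟩ <;> rcases hv with rfl | ⟨q, hq, rfl⟩
    · exact absurd rfl hne
    · exact K.adj_P_iff.2 ⟨q, hq, Or.inl rfl⟩
    · exact K.adj_symm (K.adj_P_iff.2 ⟨p, hp, Or.inl rfl⟩)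
    · exact (K.adj_AA hp hq fun e => hne (by rw [e])).2 ha
  -- cliques of size nine in the neighbourhood
  have hnine : ∀ U : Set (Sylow 3 G), U ⊆ K.Nb K.P → U.ncard = 9 →
      (∀ u ∈ U, ∀ v ∈ U, u ≠ v → K.Adj u v) → U = S ∨ U = T := by
    intro U hU h9 hcl
    by_cases h1 : U ⊆ S
    · exact Or.inl (Set.eq_of_subset_of_ncard_le h1 (by rw [h9, hS, K.ncard_image hG K.hA])
        (Set.toFinite _))
    by_cases h2 : U ⊆ T
    · exact Or.inr (Set.eq_of_subset_of_ncard_le h2 (by rw [h9, hT, K.ncard_image hG K.hB])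
        (Set.toFinite _))
    exfalso
    obtain ⟨v, hv, hvS⟩ := Set.not_subset.1 h1
    obtain ⟨u, hu, huT⟩ := Set.not_subset.1 h2
    have hv' : v ∈ S ∪ T := K.nbP ▸ hU hv
    have hu' : u ∈ S ∪ T := K.nbP ▸ hU hu
    obtain ⟨q, hq, rfl⟩ := hv'.resolve_left hvS
    obtain ⟨p, hp, rfl⟩ := hu'.resolve_right huT
    have hpq : p = q := ((K.adj_AB hp hq).1 (hcl _ hu _ hv (K.ne_AB hp hq))).resolve_right hb
    subst hpq
    have hsub : U ⊆ {p • K.A, p • K.B} := by
      intro w hw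
      have hw' : w ∈ S ∪ T := K.nbP ▸ hU hw
      rcases hw' with ⟨r, hr, rfl⟩ | ⟨r, hr, rfl⟩
      · by_contra hne
        have hrp : r = p := ((K.adj_AB hr hp).1 (hcl _ hw _ hv (K.ne_AB hr hp))).resolve_right hb
        exact hne (by rw [hrp]; simp)
      · by_contra hne
        have hrp : p = r := ((K.adj_AB hp hr).1 (hcl _ hu _ hw (K.ne_AB hp hr))).resolve_right hb
        exact hne (by rw [← hrp]; simp)
    have := Set.ncard_le_ncard hsub (Set.toFinite _)
    rw [Set.ncard_pair (K.ne_AB hp hp), h9] at this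
    norm_num at this
  obtain ⟨t, htP, htA, htB⟩ := K.swap
  have hconj : ∀ p ∈ (K.P : Subgroup G), t * p * t⁻¹ ∈ (K.P : Subgroup G) := fun p hp =>
    (mem_normalizer_iff.1 (Sylow.smul_eq_iff_mem_normalizer.1 htP) p).1 hp
  have hts : (t • ·) '' S = T := by
    refine Set.eq_of_subset_of_ncard_le ?_ ?_ (Set.toFinite _)
    · rintro _ ⟨_, ⟨p, hp, rfl⟩, rfl⟩
      refine ⟨t * p * t⁻¹, hconj p hp, ?_⟩
      show (t * p * t⁻¹) • K.B = t • p • K.A
      rw [mul_smul, mul_smul, inv_smul_eq_iff.2 htA.symm]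
    · rw [Set.ncard_image_of_injective _ (MulAction.injective t), hS, hT, K.ncard_image hG K.hA,
        K.ncard_image hG K.hB]
  have hst : ∀ v ∈ C, ∃ g : G, g • K.P = v ∧ g ∈ stabilizer G C := by
    intro v hv
    rcases (Set.mem_insert_iff.1 hv) with hvP | -
    · exact ⟨1, by rw [one_smul, hvP], one_mem _⟩
    obtain ⟨g, hg⟩ := MulAction.exists_smul_eq G K.P v
    set U := (g⁻¹ • ·) '' (C \ {v}) with hU
    have hU1 : U ⊆ K.Nb K.P := by
      rintro _ ⟨w, ⟨hw, hwv⟩, rfl⟩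
      show K.Adj K.P (g⁻¹ • w)
      rw [← inv_smul_smul g K.P, hg, K.adj_smul]
      exact hclique v hv w hw (Ne.symm hwv)
    have hU9 : U.ncard = 9 := by
      rw [hU, Set.ncard_image_of_injective _ (MulAction.injective _),
        Set.ncard_sdiff_singleton_of_mem hv, h10]
    have hUcl : ∀ u ∈ U, ∀ w ∈ U, u ≠ w → K.Adj u w := by
      rintro _ ⟨u, hu, rfl⟩ _ ⟨w, hw, rfl⟩ hne
      rw [K.adj_smul]
      exact hclique u hu.1 w hw.1 fun e => hne (by rw [e])
    have hgU : (g • ·) '' U = C \ {v} := by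
      rw [hU, Set.image_image]
      simp
    have hCv : insert v (C \ {v}) = C := by
      rw [Set.insert_sdiff_singleton, Set.insert_eq_of_mem hv]
    rcases hnine U hU1 hU9 hUcl with h | h
    · refine ⟨g, hg, mem_stab.2 ?_⟩
      calc (g • ·) '' C = insert v ((g • ·) '' S) := by rw [hC, Set.image_insert_eq, hg]
        _ = C := by rw [← h, hgU, hCv]
    · refine ⟨g * t, by rw [mul_smul, htP, hg], mem_stab.2 ?_⟩
      have himg : ((g * t) • ·) '' S = (g • ·) '' T := by
        rw [← hts]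
        ext u
        constructor
        · rintro ⟨w, hw, rfl⟩
          exact ⟨t • w, ⟨w, hw, rfl⟩, (mul_smul g t w).symm⟩
        · rintro ⟨_, ⟨w, hw, rfl⟩, rfl⟩
          exact ⟨w, hw, mul_smul g t w⟩
      calc ((g * t) • ·) '' C = insert v (((g * t) • ·) '' S) := by
            rw [hC, Set.image_insert_eq, mul_smul, htP, hg]
        _ = C := by rw [himg, ← h, hgU, hCv]
  have horb := K.orbit_stab (C := C) (Set.mem_insert _ _) hst
  rw [h10] at horb
  set H := stabilizer G C with hH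
  set M := H ⊓ stabilizer G K.P with hM
  have hfix : ∀ g : G, g • K.P = K.P → (g • ·) '' S ⊆ S → g ∈ H := by
    intro g hgP hgS
    refine mem_stab.2 ?_
    rw [hC, Set.image_insert_eq, hgP, Set.eq_of_subset_of_ncard_le hgS
      (by rw [Set.ncard_image_of_injective _ (MulAction.injective g)]) (Set.toFinite _)]
  have hPM : (K.P : Subgroup G) ≤ M := fun p hp => by
    refine ⟨hfix p (smul_eq_of_mem hp) ?_, smul_eq_of_mem hp⟩
    rintro _ ⟨_, ⟨q, hq, rfl⟩, rfl⟩
    exact ⟨p * q, mul_mem hp hq, mul_smul p q K.A⟩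
  have hLM : stabilizer G K.P ⊓ stabilizer G K.A ≤ M := fun l hl => by
    have hlP : l • K.P = K.P := hl.1
    have hlA : l • K.A = K.A := hl.2
    refine ⟨hfix l hlP ?_, hl.1⟩
    rintro _ ⟨_, ⟨q, hq, rfl⟩, rfl⟩
    refine ⟨l * q * l⁻¹, (mem_normalizer_iff.1 (Sylow.smul_eq_iff_mem_normalizer.1 hlP) q).1 hq, ?_⟩
    show (l * q * l⁻¹) • K.A = l • q • K.A
    rw [mul_smul, mul_smul, inv_smul_eq_iff.2 hlA.symm]
  have hstP : stabilizer G K.P = normalizer ((K.P : Subgroup G) : Set G) := by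
    ext g
    exact Sylow.smul_eq_iff_mem_normalizer
  have hd : Nat.card M ∣ 144 := by
    rw [← card_three_normalizer hG K.P, ← hstP]
    exact card_dvd_of_le inf_le_right
  have h72 : 72 ∣ Nat.card M :=
    Nat.Coprime.mul_dvd_of_dvd_of_dvd (m := 9) (n := 8) (by norm_num)
      (card_sylow3_eq hG K.P ▸ card_dvd_of_le hPM) (K.stab_card ▸ card_dvd_of_le hLM)
  have hne : Nat.card M ≠ 144 := by
    intro h
    have hMe : M = stabilizer G K.P := eq_of_le_of_card_ge inf_le_right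
      (by rw [h, hstP, card_three_normalizer hG K.P])
    have htH : t ∈ H := (show t ∈ M from hMe ▸ htP).1
    have hmem : K.B ∈ C := by
      rw [← mem_stab.1 htH]
      exact ⟨K.A, Set.mem_insert_of_mem _ ⟨1, one_mem _, one_smul _ _⟩, htA⟩
    rcases Set.mem_insert_iff.1 hmem with h' | ⟨p, hp, h'⟩
    · exact K.hB h'
    · exact K.disjoint p hp h'
  have h72' : Nat.card M = 72 := by
    have key : ∀ m ∈ Nat.divisors 144, 72 ∣ m → m ≠ 144 → m = 72 := by decide +kernel
    exact key _ (Nat.mem_divisors.2 ⟨hd, by norm_num⟩) h72 hne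
  refine ⟨H, ?_⟩
  have hidx := H.card_mul_index
  rw [← horb, h72', hG.2] at hidx
  omega

include hG in
theorem false_of_not_alpha_beta (ha : ¬ K.alpha) (hb : K.beta) : False := by
  have hlocP : ∀ u ∈ K.Nb K.P, ∀ v ∈ K.Nb K.P, ∀ w ∈ K.Nb K.P,
      ¬ K.Adj u v → ¬ K.Adj v w → ¬ K.Adj u w := by
    intro u hu v hv w hw huv hvw huw
    obtain ⟨p, hp, hu⟩ := K.adj_P_iff.1 hu
    obtain ⟨q, hq, hv⟩ := K.adj_P_iff.1 hv
    obtain ⟨r, hr, hw⟩ := K.adj_P_iff.1 hw
    rcases hu with rfl | rfl <;> rcases hv with rfl | rfl <;> rcases hw with rfl | rfl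
    all_goals first
      | exact huv ((K.adj_AB hp hq).2 (Or.inr hb))
      | exact huv (K.adj_symm ((K.adj_AB hq hp).2 (Or.inr hb)))
      | exact hvw ((K.adj_AB hq hr).2 (Or.inr hb))
      | exact hvw (K.adj_symm ((K.adj_AB hr hq).2 (Or.inr hb)))
      | exact ha ((K.adj_AA hp hr fun e => K.adj_ne huw (by rw [e])).1 huw)
      | exact ha ((K.adj_BB hp hr fun e => K.adj_ne huw (by rw [e])).1 huw)
  have hloc : ∀ y, ∀ u ∈ K.Nb y, ∀ v ∈ K.Nb y, ∀ w ∈ K.Nb y,
      ¬ K.Adj u v → ¬ K.Adj v w → ¬ K.Adj u w := by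
    intro y u hu v hv w hw huv hvw
    obtain ⟨g, rfl⟩ := MulAction.exists_smul_eq G K.P y
    rw [K.nb_smul] at hu hv hw
    obtain ⟨u, hu, rfl⟩ := hu
    obtain ⟨v, hv, rfl⟩ := hv
    obtain ⟨w, hw, rfl⟩ := hw
    simp only [K.adj_smul] at huv hvw ⊢
    exact hlocP u hu v hv w hw huv hvw
  have htri : ∀ u v, K.Adj u v → ∃ b, K.Adj u b ∧ K.Adj v b := by
    rintro u v ⟨g, rfl, rfl⟩
    exact ⟨g • K.B, (K.adj_smul g).2 K.adj_P_B, (K.adj_smul g).2 K.adj_A_B⟩
  -- non-adjacent points with a common neighbour are twins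
  have hsub : ∀ y x w, K.Adj y x → K.Adj y w → ¬ K.Adj x w → ∀ q, K.Adj x q → K.Adj w q := by
    intro y x w hx hw hxw q hq
    by_contra hwq
    by_cases hyq : K.Adj y q
    · exact hloc y q hyq w hw x hx (fun h => hwq (K.adj_symm h)) (fun h => hxw (K.adj_symm h))
        (K.adj_symm hq)
    obtain ⟨b, hxb, hyb⟩ := htri x y (K.adj_symm hx)
    have hbq : K.Adj b q := by
      by_contra hbq
      exact hloc x b hxb q hq y (K.adj_symm hx) hbq (fun h => hyq (K.adj_symm h)) (K.adj_symm hyb)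
    have hbw : K.Adj b w := by
      by_contra hbw
      exact hloc y b hyb w hw x hx hbw (fun h => hxw (K.adj_symm h)) (K.adj_symm hxb)
    exact hloc b w hbw q hbq y (K.adj_symm hyb) hwq (fun h => hyq (K.adj_symm h)) (K.adj_symm hw)
  set T : Set (Sylow 3 G) := {v | K.Nb v = K.Nb K.P} with hT
  have hTeq : T = K.Nb K.A \ K.Nb K.P := by
    ext v
    constructor
    · intro hv
      have hA : K.A ∈ K.Nb v := (show K.Nb v = K.Nb K.P from hv).symm ▸ K.adj_P_A
      refine ⟨K.adj_symm hA, fun h => ?_⟩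
      have h' : v ∈ K.Nb v := (show K.Nb v = K.Nb K.P from hv).symm ▸ h
      exact K.adj_ne h' rfl
    · rintro ⟨h1, h2⟩
      have hPv : ¬ K.Adj K.P v := h2
      refine Set.Subset.antisymm (fun q hq => ?_) fun q hq => ?_
      · exact hsub K.A v K.P h1 (K.adj_symm K.adj_P_A) (fun h => hPv (K.adj_symm h)) q hq
      · exact hsub K.A K.P v (K.adj_symm K.adj_P_A) h1 hPv q hq
  have hcommon : K.Nb K.A ∩ K.Nb K.P = (· • K.B) '' ((K.P : Subgroup G) : Set G) := by
    ext v
    constructor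
    · rintro ⟨h1, h2⟩
      obtain ⟨p, hp, rfl | rfl⟩ := K.adj_P_iff.1 h2
      · exfalso
        rcases eq_or_ne p 1 with rfl | hp1
        · exact K.adj_ne h1 (one_smul _ _).symm
        · exact ha (K.alpha_or hp hp1 h1)
      · exact ⟨p, hp, rfl⟩
    · rintro ⟨p, hp, rfl⟩
      refine ⟨?_, K.adj_P_iff.2 ⟨p, hp, Or.inr rfl⟩⟩
      rcases eq_or_ne p 1 with rfl | hp1
      · show K.Adj K.A ((1 : G) • K.B)
        rw [one_smul]; exact K.adj_A_B
      · exact hb p hp hp1
  have h9 : T.ncard = 9 := by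
    have h := Set.ncard_inter_add_ncard_sdiff_eq_ncard (K.Nb K.A) (K.Nb K.P) (Set.toFinite _)
    rw [hcommon, K.ncard_image hG K.hB, K.ncard_nb hG, ← hTeq] at h
    omega
  have hst : ∀ v ∈ T, ∃ g : G, g • K.P = v ∧ g ∈ stabilizer G T := by
    intro v hv
    obtain ⟨g, hg⟩ := MulAction.exists_smul_eq G K.P v
    refine ⟨g, hg, mem_stab.2 ?_⟩
    ext u
    constructor
    · rintro ⟨w, hw, rfl⟩
      show K.Nb (g • w) = K.Nb K.P
      rw [K.nb_smul, show K.Nb w = K.Nb K.P from hw, ← K.nb_smul, hg]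
      exact hv
    · intro hu
      refine ⟨g⁻¹ • u, ?_, smul_inv_smul g u⟩
      show K.Nb (g⁻¹ • u) = K.Nb K.P
      calc K.Nb (g⁻¹ • u) = (g⁻¹ • ·) '' K.Nb K.P := by
            rw [K.nb_smul, show K.Nb u = K.Nb K.P from hu]
        _ = (g⁻¹ • ·) '' K.Nb v := by rw [show K.Nb v = K.Nb K.P from hv]
        _ = K.Nb K.P := by rw [← K.nb_smul, ← hg, inv_smul_smul]
  have horb := K.orbit_stab (C := T) rfl hst
  have hle : stabilizer G K.P ≤ stabilizer G T := by
    intro g hg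
    obtain ⟨k, hk, hkT⟩ := hst K.P rfl
    refine mem_stab.2 ?_
    ext u
    constructor
    · rintro ⟨w, hw, rfl⟩
      show K.Nb (g • w) = K.Nb K.P
      rw [K.nb_smul, show K.Nb w = K.Nb K.P from hw, ← K.nb_smul, mem_stabilizer_iff.1 hg]
    · intro hu
      refine ⟨g⁻¹ • u, ?_, smul_inv_smul g u⟩
      show K.Nb (g⁻¹ • u) = K.Nb K.P
      rw [K.nb_smul, show K.Nb u = K.Nb K.P from hu, ← K.nb_smul,
        inv_smul_eq_iff.2 (mem_stabilizer_iff.1 hg).symm]
  have hstP : stabilizer G K.P = normalizer ((K.P : Subgroup G) : Set G) := by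
    ext g
    exact Sylow.smul_eq_iff_mem_normalizer
  rw [inf_eq_right.2 hle, h9, hstP, card_three_normalizer hG K.P] at horb
  have hd : Nat.card (stabilizer G T) ∣ Nat.card G := card_subgroup_dvd_card _
  rw [← horb, hG.2] at hd
  norm_num at hd

include hG in
theorem false_of_not_alpha_not_beta (ha : ¬ K.alpha) (hb : ¬ K.beta) : False := by
  classical
  haveI := Fintype.ofFinite (Sylow 3 G)
  have hcard : Fintype.card (Sylow 3 G) = 55 := by
    rw [← Nat.card_eq_fintype_card, three_count hG]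
  set N : Sylow 3 G → Finset (Sylow 3 G) := fun v => Finset.univ.filter (K.Adj v) with hN
  have hN18 : ∀ v, (N v).card = 18 := fun v => by
    rw [← K.ncard_nb hG v, ← Set.ncard_coe_finset]
    congr 1
    ext u
    simp [hN, Config.Nb]
  have hsmul : ∀ g : G, ∀ u v, (N (g • u) ∩ N (g • v)).card = (N u ∩ N v).card := by
    intro g u v
    rw [← Finset.card_map (s := N u ∩ N v) (MulAction.toPerm g).toEmbedding]
    congr 1
    ext w
    simp only [Finset.mem_inter, Finset.mem_map_equiv, hN, Finset.mem_filter, Finset.mem_univ,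
      true_and, MulAction.toPerm_symm_apply]
    rw [← K.adj_smul g⁻¹, inv_smul_smul, ← K.adj_smul g⁻¹ (v := w), inv_smul_smul]
  have hone : N K.P ∩ N K.A = {K.B} := by
    ext v
    simp only [Finset.mem_inter, Finset.mem_singleton, hN, Finset.mem_filter, Finset.mem_univ,
      true_and]
    constructor
    · rintro ⟨h1, h2⟩
      obtain ⟨p, hp, rfl | rfl⟩ := K.adj_P_iff.1 h1
      · exfalso
        rcases eq_or_ne p 1 with rfl | hp1
        · exact K.adj_ne h2 (one_smul _ _).symm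
        · exact ha (K.alpha_or hp hp1 h2)
      · rcases eq_or_ne p 1 with rfl | hp1
        · exact one_smul _ _
        · exact absurd (K.beta_or hp hp1 h2) hb
    · rintro rfl
      exact ⟨K.adj_P_B, K.adj_A_B⟩
  have hadj : ∀ u v, K.Adj u v → (N u ∩ N v).card = 1 := by
    rintro u v ⟨g, rfl, rfl⟩
    rw [hsmul, hone, Finset.card_singleton]
  -- constant on the rest
  set m := (N K.P ∩ N K.Y).card with hm
  have hnon : ∀ u v, u ≠ v → ¬ K.Adj u v → (N u ∩ N v).card = m := by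
    intro u v hne hnadj
    obtain ⟨g, rfl⟩ := MulAction.exists_smul_eq G K.P u
    obtain ⟨w, rfl⟩ : ∃ w, g • w = v := ⟨g⁻¹ • v, smul_inv_smul g v⟩
    rw [K.adj_smul] at hnadj
    rw [hsmul]
    rcases K.rest w with h | ⟨p, hp, h⟩ | ⟨k, hk, rfl⟩
    · exact absurd (by rw [h]) hne
    · exact absurd (K.adj_P_iff.2 ⟨p, hp, h⟩) hnadj
    · rw [hm, ← hsmul k K.P K.Y, hk]
  -- `m = 8`
  have hm8 : m = 8 := by
    have h1 : ∑ u, (N K.P ∩ N u).card = 18 * 18 := by
      have : ∀ u, (N K.P ∩ N u).card = ∑ v ∈ N K.P, if u ∈ N v then 1 else 0 := fun u => by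
        rw [Finset.sum_boole, Nat.cast_id]
        congr 1
        ext v
        simp only [Finset.mem_inter, Finset.mem_filter, hN, Finset.mem_univ, true_and]
        exact and_congr_right fun _ => ⟨K.adj_symm, K.adj_symm⟩
      simp only [this]
      rw [Finset.sum_comm, Finset.sum_congr rfl (g := fun _ => 18) fun v _ => by
        rw [Finset.sum_boole, Nat.cast_id, Finset.filter_mem_eq_inter, Finset.univ_inter, hN18]]
      rw [Finset.sum_const, hN18, smul_eq_mul]
    have h2 : ∀ u, (N K.P ∩ N u).card + (if u ∈ N K.P then m else 0) + (if u = K.P then m else 0) =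
        (if u ∈ N K.P then 1 else 0) + (if u = K.P then 18 else 0) + m := by
      intro u
      have hmem : u ∈ N K.P ↔ K.Adj K.P u := by simp [hN]
      rcases eq_or_ne u K.P with rfl | hne
      · rw [if_neg (fun h => K.adj_ne (hmem.1 h) rfl), if_pos rfl, if_neg (fun h => K.adj_ne (hmem.1 h) rfl),
          if_pos rfl, Finset.inter_self, hN18]
      · rw [if_neg hne, if_neg hne]
        by_cases h : u ∈ N K.P
        · rw [if_pos h, if_pos h, hadj _ _ (hmem.1 h)]
          omega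
        · rw [if_neg h, if_neg h, hnon _ _ hne.symm (fun h' => h (hmem.2 h'))]
          omega
    have h3 := Finset.sum_congr (rfl : (Finset.univ : Finset (Sylow 3 G)) = _) fun u _ => h2 u
    simp only [Finset.sum_add_distrib, Finset.sum_ite_eq', Finset.mem_univ, if_true, Finset.sum_const,
      smul_eq_mul, Finset.card_univ, hcard, Finset.sum_ite_mem, Finset.univ_inter, hN18, h1] at h3
    omega
  -- the trace of the seventh power
  let M : Matrix (Sylow 3 G) (Sylow 3 G) (ZMod 7) := fun u v => if K.Adj u v then 1 else 0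
  let J : Matrix (Sylow 3 G) (Sylow 3 G) (ZMod 7) := fun _ _ => 1
  have hMM : M * M = (3 : ZMod 7) • 1 + J := by
    ext u v
    have hleft : (M * M) u v = ((N u ∩ N v).card : ZMod 7) := by
      rw [Matrix.mul_apply]
      simp only [M, ite_mul, one_mul, zero_mul, ← Finset.sum_filter]
      rw [Finset.sum_const, nsmul_one, Finset.filter_filter]
      congr 2
      ext w
      simp only [Finset.mem_filter, Finset.mem_inter, Finset.mem_univ, true_and, hN]
      exact and_congr_right fun _ => ⟨K.adj_symm, K.adj_symm⟩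
    rw [hleft, Matrix.add_apply, Matrix.smul_apply, Matrix.one_apply]
    rcases eq_or_ne u v with rfl | hne
    · rw [if_pos rfl, Finset.inter_self, hN18]
      simp only [J]
      decide
    · rw [if_neg hne]
      by_cases h : K.Adj u v
      · rw [hadj _ _ h]
        simp [J]
      · rw [hnon _ _ hne h, hm8]
        simp only [J]
        decide
  have hMJ : M * J = (4 : ZMod 7) • J := by
    ext u v
    rw [Matrix.mul_apply, Matrix.smul_apply]
    simp only [M, J, mul_one]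
    rw [Finset.sum_boole, show (Finset.univ.filter fun w => K.Adj u w) = N u from rfl, hN18]
    decide
  have hJJ : J * J = (6 : ZMod 7) • J := by
    ext u v
    rw [Matrix.mul_apply, Matrix.smul_apply]
    simp only [J, mul_one]
    rw [Finset.sum_const, Finset.card_univ, hcard]
    decide
  have hM7 : M ^ 7 = (6 : ZMod 7) • M + (6 : ZMod 7) • J := by
    have h7 : M ^ 7 = M * ((M * M) * ((M * M) * (M * M))) := by
      simp only [pow_succ', pow_zero, mul_one, mul_assoc]
    have h4 : (M * M) * (M * M) = (2 : ZMod 7) • 1 + (5 : ZMod 7) • J := by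
      rw [hMM, add_mul, mul_add, mul_add, hJJ]
      simp only [smul_mul_assoc, mul_smul_comm, one_mul, mul_one, smul_smul]
      match_scalars <;> decide
    rw [h7, h4, hMM, add_mul, mul_add, mul_add]
    simp only [smul_mul_assoc, mul_smul_comm, one_mul, mul_one, smul_smul, hJJ, mul_add, hMJ]
    match_scalars <;> decide
  have htrM : Matrix.trace M = 0 := by
    refine Finset.sum_eq_zero fun u _ => ?_
    show (if K.Adj u u then (1 : ZMod 7) else 0) = 0
    rw [if_neg fun h => K.adj_ne h rfl]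
  have htrJ : Matrix.trace J = 6 := by
    show ∑ _u : Sylow 3 G, (1 : ZMod 7) = 6
    rw [Finset.sum_const, Finset.card_univ, hcard]
    decide
  have h := ZMod.trace_pow_card M
  rw [hM7, Matrix.trace_add, Matrix.trace_smul, Matrix.trace_smul, htrM, htrJ] at h
  revert h
  decide

end Config

theorem exists_index_eleven (hG : Cfsg.IsM11 G) : ∃ H : Subgroup G, H.index = 11 := by
  classical
  obtain ⟨K⟩ := exists_config hG
  by_cases ha : K.alpha <;> by_cases hb : K.beta
  · exact (K.false_of_alpha_beta hG ha hb).elim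
  · exact K.exists_index_eleven_aux hG ha hb
  · exact (K.false_of_not_alpha_beta hG ha hb).elim
  · exact (K.false_of_not_alpha_not_beta hG ha hb).elim

end Cfsg.Agent.M11Order
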