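import Mathlib
import Cfsg.Agent.Lib.Perm.Degree11Simple
import Cfsg.Agent.Lib.Perm.PrimeDegree
import Cfsg.Agent.Lib.M11Order.Eleven
import Cfsg.Agent.Lib.M11Order.Graph
import Cfsg.Agent.Lib.Golay.Small

/-!
# Simple groups of order 7920 are isomorphic
-/

open scoped Pointwise

namespace Cfsg.Agent.M11Order.Unique

open Cfsg.Agent.Perm.Degree11

/-- A simple group of order 7920 is a group of permutations of `ZMod 11` containing the shift. -/
theorem exists_degree11 {G : Type*} [Group G] [Finite G] (hG : Cfsg.IsM11 G) :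
    ∃ K : Subgroup (Equiv.Perm (ZMod 11)), shift ∈ K ∧ Nat.card K = 7920 ∧ Nonempty (G ≃* K) := by
  classical
  haveI : Fact (Nat.Prime 11) := ⟨by norm_num⟩
  haveI := hG.1
  obtain ⟨H, hH⟩ := exists_index_eleven hG
  let f := MulAction.toPermHom G (G ⧸ H)
  have hf : Function.Injective f := by
    rw [← MonoidHom.ker_eq_bot_iff]
    refine (Subgroup.Normal.eq_bot_or_eq_top (H := f.ker) inferInstance).resolve_right fun ht => ?_
    have hle : f.ker ≤ H := by
      intro x hx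
      have h1 : x • ((1 : G) : G ⧸ H) = ((1 : G) : G ⧸ H) :=
        Equiv.congr_fun (MonoidHom.mem_ker.1 hx) ((1 : G) : G ⧸ H)
      rw [MulAction.Quotient.smul_coe, smul_eq_mul, mul_one, QuotientGroup.eq] at h1
      simpa using h1
    rw [ht, top_le_iff] at hle
    rw [hle, Subgroup.index_top] at hH
    norm_num at hH
  let R := f.range
  haveI : MulAction.IsPretransitive R (G ⧸ H) := ⟨fun x y => by
    obtain ⟨g, hg⟩ := MulAction.exists_smul_eq G x y
    exact ⟨⟨f g, g, rfl⟩, hg⟩⟩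
  obtain ⟨e, t, -, ht⟩ := Cfsg.Agent.Perm.PrimeDegree.exists_coord (p := 11)
    (by rw [← Subgroup.index_eq_card, hH]) R
  let φ : Equiv.Perm (G ⧸ H) ≃* Equiv.Perm (ZMod 11) := e.symm.permCongrHom
  let K : Subgroup (Equiv.Perm (ZMod 11)) := R.map φ.toMonoidHom
  let ψ : G ≃* K :=
    (MonoidHom.ofInjective hf).trans (R.equivMapOfInjective φ.toMonoidHom φ.injective)
  refine ⟨K, ⟨t, t.2, Equiv.ext fun z => ?_⟩, ?_, ⟨ψ⟩⟩
  · show e.symm ((t : Equiv.Perm (G ⧸ H)) (e z)) = _
    exact e.symm_apply_eq.2 (ht z)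
  · rw [← Nat.card_congr ψ.toEquiv, hG.2]

/-- Any two simple groups of order 7920 are isomorphic. -/
theorem equiv {G G' : Type*} [Group G] [Finite G] [Group G'] [Finite G'] (hG : Cfsg.IsM11 G)
    (hG' : Cfsg.IsM11 G') : Nonempty (G ≃* G') := by
  obtain ⟨K, hK, hKc, ⟨e⟩⟩ := exists_degree11 hG
  obtain ⟨K', hK', hKc', ⟨e'⟩⟩ := exists_degree11 hG'
  exact (Eleven.equiv hK hKc hK' hKc').map fun i => e.trans (i.trans e'.symm)

/-- A simple group of order 7920 is isomorphic to the point stabiliser inside the stabiliser of a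
dodecad. -/
theorem equiv_stabilizer {G : Type*} [Group G] [Finite G] (hG : Cfsg.IsM11 G)
    {d : Finset Cfsg.GolayPt} (hd : d ∈ Cfsg.dodecads) {p : Cfsg.GolayPt} (hp : p ∈ d) :
    Nonempty (G ≃* ↥(MulAction.stabilizer Cfsg.M24 d ⊓ MulAction.stabilizer Cfsg.M24 p)) := by
  obtain ⟨a, ha, had, hap⟩ := Golay.Small.exists_conj_dodecad_point hd hp
  obtain ⟨i⟩ := equiv hG (⟨Golay.Small.isSimple_M11K, Golay.Small.card_M11K⟩ :
    Cfsg.IsM11 Golay.Small.M11K)
  exact ⟨i.trans
    (Golay.Small.equivOfConj ha Golay.Small.M11K_le (Golay.Small.mem_M11K_conj ha had hap)).symm⟩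

end Cfsg.Agent.M11Order.Unique
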